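import Cfsg.Agent.Lib.Co2Three.Local.Ext

/-!
S3336: coordinates of the core modulo its centre and the action of the centraliser on them.
-/

set_option autoImplicit false
set_option linter.style.haveILetI false
set_option linter.unusedSectionVars false

namespace Cfsg.Agent.Co2Three.Local

open Subgroup
open scoped commutatorElement
open Sp4 (sf)

namespace Ext

variable {G : Type*} [Group G] [Finite G] (D : Ext G)

theorem exists_lam_one {a b : G} (ha : a ∈ D.Q) (hb : b ∈ D.Q) (h : D.lam a b ≠ 0) :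
    ∃ n : ℕ, D.lam a (b ^ n) = 1 := by
  refine ⟨(D.lam a b).val, ?_⟩
  rw [D.lam_skew ha (pow_mem hb _), D.lam_pow_left hb ha, ZMod.natCast_zmod_val, D.lam_skew hb ha, mul_neg, neg_neg]
  exact (by decide : ∀ c : ZMod 3, c ≠ 0 → c * c = 1) _ h

theorem lam_one_right {a : G} (ha : a ∈ D.Q) : D.lam a 1 = 0 :=
  D.lam_eq ha (one_mem _) (by rw [commutatorElement_one_right, zk_zero])

theorem lam_inv_left {a b : G} (ha : a ∈ D.Q) (hb : b ∈ D.Q) : D.lam a⁻¹ b = -D.lam a b := by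
  have h := D.lam_mul_left (inv_mem ha) ha hb
  rw [inv_mul_cancel, D.lam_skew (one_mem _) hb, D.lam_one_right hb, neg_zero] at h
  exact eq_neg_of_add_eq_zero_left h.symm

theorem exists_lam_ne {x : G} (hx : x ∈ D.Q) (hz : x ∉ zpowers D.z) : ∃ q ∈ D.Q, D.lam x q ≠ 0 := by
  by_contra h
  push Not at h
  exact hz (D.mem_Z_of_lam hx h)

/-- A frame exists. -/
theorem exists_frame (D : Ext G) : ∃ F : Frame G, F.toExt = D := by
  classical
  have hZc : Nat.card (zpowers D.z) = 3 := by rw [Nat.card_zpowers, D.order_z]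
  obtain ⟨a1, ha1, ha1z⟩ : ∃ a ∈ D.Q, a ∉ zpowers D.z := by
    by_contra h
    push Not at h
    have := card_le_of_le (show D.Q ≤ zpowers D.z from h)
    rw [D.card_Q, hZc] at this
    omega
  obtain ⟨b0, hb0, h0⟩ := D.exists_lam_ne ha1 ha1z
  obtain ⟨n, hn⟩ := D.exists_lam_one ha1 hb0 h0
  set b1 := b0 ^ n with hb1'
  have hb1 : b1 ∈ D.Q := pow_mem hb0 n
  have proj : ∀ q ∈ D.Q, ∃ t ∈ D.Q, D.lam a1 t = 0 ∧ D.lam b1 t = 0 ∧
      ∃ i j : ZMod 3, q = t * (a1 ^ i.val * b1 ^ j.val) := by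
    intro q hq
    have hi : a1 ^ (-D.lam b1 q).val ∈ D.Q := pow_mem ha1 _
    have hj : b1 ^ (D.lam a1 q).val ∈ D.Q := pow_mem hb1 _
    have hm := mul_mem hi hj
    have hv : ∀ x ∈ D.Q, D.lam x (q * (a1 ^ (-D.lam b1 q).val * b1 ^ (D.lam a1 q).val)⁻¹) =
        D.lam x q - ((-D.lam b1 q) * D.lam x a1 + D.lam a1 q * D.lam x b1) := fun x hx => by
      rw [D.lam_mul_right hx hq (inv_mem hm), D.lam_skew hx (inv_mem hm), D.lam_inv_left hm hx, neg_neg,
        D.lam_mul_left hi hj hx, D.lam_pow_left ha1 hx, D.lam_pow_left hb1 hx, ZMod.natCast_zmod_val,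
        ZMod.natCast_zmod_val, D.lam_skew ha1 hx, D.lam_skew hb1 hx]
      ring
    refine ⟨_, mul_mem hq (inv_mem hm), ?_, ?_, -D.lam b1 q, D.lam a1 q, (inv_mul_cancel_right _ _).symm⟩
    · rw [hv a1 ha1, D.lam_self ha1, hn]; ring
    · rw [hv b1 hb1, D.lam_self hb1, D.lam_skew hb1 ha1, hn]; ring
  obtain ⟨a2, ha2, hp1, hp2, ha2z⟩ : ∃ t ∈ D.Q, D.lam a1 t = 0 ∧ D.lam b1 t = 0 ∧ t ∉ zpowers D.z := by
    by_contra h
    push Not at h
    have hsurj : Function.Surjective fun x : zpowers D.z × ZMod 3 × ZMod 3 =>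
        (⟨x.1.1 * (a1 ^ x.2.1.val * b1 ^ x.2.2.val),
          mul_mem (D.Z_le_Q x.1.2) (mul_mem (pow_mem ha1 _) (pow_mem hb1 _))⟩ : D.Q) := by
      rintro ⟨q, hq⟩
      obtain ⟨t, ht, e1, e2, i, j, e⟩ := proj q hq
      exact ⟨⟨⟨t, h t ht e1 e2⟩, i, j⟩, Subtype.ext e.symm⟩
    have := Nat.card_le_card_of_surjective _ hsurj
    rw [D.card_Q, Nat.card_prod, Nat.card_prod, hZc, Nat.card_zmod] at this
    omega
  obtain ⟨q, hq, hqne⟩ := D.exists_lam_ne ha2 ha2z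
  obtain ⟨t, ht, e1, e2, i, j, e⟩ := proj q hq
  have hne : D.lam a2 t ≠ 0 := by
    intro h
    apply hqne
    rw [e, D.lam_mul_right ha2 ht (mul_mem (pow_mem ha1 _) (pow_mem hb1 _)), h,
      D.lam_mul_right ha2 (pow_mem ha1 _) (pow_mem hb1 _), D.lam_skew ha2 (pow_mem ha1 _),
      D.lam_pow_left ha1 ha2, hp1, D.lam_skew ha2 (pow_mem hb1 _), D.lam_pow_left hb1 ha2, hp2]
    ring
  obtain ⟨m, hm⟩ := D.exists_lam_one ha2 ht hne
  refine ⟨{ toExt := D, a1 := a1, a2 := a2, b1 := b1, b2 := t ^ m, a1_mem := ha1, a2_mem := ha2,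
            b1_mem := hb1, b2_mem := pow_mem ht m, l11 := hn, l22 := hm, l12 := ?_, l21 := ?_, laa := hp1,
            lbb := ?_ }, rfl⟩
  · rw [D.lam_skew ha1 (pow_mem ht m), D.lam_pow_left ht ha1, D.lam_skew ht ha1, e1]; ring
  · rw [D.lam_skew ha2 hb1, hp2, neg_zero]
  · rw [D.lam_skew hb1 (pow_mem ht m), D.lam_pow_left ht hb1, D.lam_skew ht hb1, e2]; ring

end Ext

namespace Frame

variable {G : Type*} [Group G] [Finite G] (F : Frame G)

/-- The coordinates of an element of the core. -/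
noncomputable def crd (q : G) : V4 :=
  ![F.lam q F.b1, F.lam q F.b2, -F.lam q F.a1, -F.lam q F.a2]

/-- A preimage of a vector. -/
def lift (v : V4) : G := F.a1 ^ (v 0).val * F.a2 ^ (v 1).val * F.b1 ^ (v 2).val * F.b2 ^ (v 3).val

theorem lift_mem (v : V4) : F.lift v ∈ F.Q :=
  mul_mem (mul_mem (mul_mem (pow_mem F.a1_mem _) (pow_mem F.a2_mem _)) (pow_mem F.b1_mem _)) (pow_mem F.b2_mem _)

theorem lam_lift (v : V4) {b : G} (hb : b ∈ F.Q) : F.lam (F.lift v) b =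
    v 0 * F.lam F.a1 b + v 1 * F.lam F.a2 b + v 2 * F.lam F.b1 b + v 3 * F.lam F.b2 b := by
  rw [lift, F.lam_mul_left (mul_mem (mul_mem (pow_mem F.a1_mem _) (pow_mem F.a2_mem _)) (pow_mem F.b1_mem _))
    (pow_mem F.b2_mem _) hb, F.lam_mul_left (mul_mem (pow_mem F.a1_mem _) (pow_mem F.a2_mem _))
    (pow_mem F.b1_mem _) hb, F.lam_mul_left (pow_mem F.a1_mem _) (pow_mem F.a2_mem _) hb,
    F.lam_pow_left F.a1_mem hb, F.lam_pow_left F.a2_mem hb, F.lam_pow_left F.b1_mem hb, F.lam_pow_left F.b2_mem hb]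
  simp only [ZMod.natCast_zmod_val]

theorem crd_lift (v : V4) : F.crd (F.lift v) = v := by
  have h21 : F.lam F.b1 F.a2 = 0 := by rw [F.lam_skew F.b1_mem F.a2_mem, F.l21, neg_zero]
  have h12 : F.lam F.b2 F.a1 = 0 := by rw [F.lam_skew F.b2_mem F.a1_mem, F.l12, neg_zero]
  have h11 : F.lam F.b1 F.a1 = -1 := by rw [F.lam_skew F.b1_mem F.a1_mem, F.l11]
  have h22 : F.lam F.b2 F.a2 = -1 := by rw [F.lam_skew F.b2_mem F.a2_mem, F.l22]
  have haa : F.lam F.a2 F.a1 = 0 := by rw [F.lam_skew F.a2_mem F.a1_mem, F.laa, neg_zero]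
  have hbb : F.lam F.b2 F.b1 = 0 := by rw [F.lam_skew F.b2_mem F.b1_mem, F.lbb, neg_zero]
  simp only [crd, F.lam_lift v F.a1_mem, F.lam_lift v F.a2_mem, F.lam_lift v F.b1_mem, F.lam_lift v F.b2_mem,
    F.lam_self F.a1_mem, F.lam_self F.a2_mem, F.lam_self F.b1_mem, F.lam_self F.b2_mem, F.l11, F.l22, F.l12,
    F.l21, F.laa, F.lbb, h21, h12, h11, h22, haa, hbb]
  funext k
  fin_cases k <;> simp

theorem crd_mul {p q : G} (hp : p ∈ F.Q) (hq : q ∈ F.Q) : F.crd (p * q) = F.crd p + F.crd q := by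
  simp only [crd, F.lam_mul_left hp hq F.a1_mem, F.lam_mul_left hp hq F.a2_mem, F.lam_mul_left hp hq F.b1_mem,
    F.lam_mul_left hp hq F.b2_mem]
  funext k
  fin_cases k <;> simp [add_comm]

theorem crd_Z {c : G} (hc : c ∈ zpowers F.z) : F.crd c = 0 := by
  simp only [crd, F.lam_Z hc F.a1_mem, F.lam_Z hc F.a2_mem, F.lam_Z hc F.b1_mem, F.lam_Z hc F.b2_mem]
  funext k
  fin_cases k <;> simp

theorem crd_one : F.crd 1 = 0 := F.crd_Z (one_mem _)

theorem crd_inv {q : G} (hq : q ∈ F.Q) : F.crd q⁻¹ = -F.crd q := by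
  refine eq_neg_of_add_eq_zero_left ?_
  rw [← F.crd_mul (inv_mem hq) hq, inv_mul_cancel, F.crd_one]

/-- The coordinates as a homomorphism. -/
noncomputable def crdHom : F.Q →* Multiplicative V4 where
  toFun q := Multiplicative.ofAdd (F.crd q)
  map_one' := congrArg Multiplicative.ofAdd F.crd_one
  map_mul' p q := congrArg Multiplicative.ofAdd (F.crd_mul p.2 q.2)

theorem crd_eq_zero {q : G} (hq : q ∈ F.Q) : F.crd q = 0 ↔ q ∈ zpowers F.z := by
  refine ⟨fun h => ?_, F.crd_Z⟩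
  have hs : Function.Surjective F.crdHom := fun v =>
    ⟨⟨_, F.lift_mem (Multiplicative.toAdd v)⟩, congrArg Multiplicative.ofAdd (F.crd_lift _)⟩
  have hc := F.crdHom.ker.card_eq_card_quotient_mul_card_subgroup
  rw [Nat.card_congr (QuotientGroup.quotientKerEquivOfSurjective _ hs).toEquiv, F.card_Q,
    show Nat.card (Multiplicative V4) = 81 by rw [Nat.card_congr Multiplicative.toAdd]; simp] at hc
  have hle : (zpowers F.z).subgroupOf F.Q ≤ F.crdHom.ker := fun c hc' =>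
    congrArg Multiplicative.ofAdd (F.crd_Z (mem_subgroupOf.1 hc'))
  have he : (zpowers F.z).subgroupOf F.Q = F.crdHom.ker := by
    refine eq_of_le_of_card_ge hle ?_
    rw [Nat.card_congr (subgroupOfEquivOfLe F.Z_le_Q).toEquiv, Nat.card_zpowers, F.order_z]
    omega
  have : (⟨q, hq⟩ : F.Q) ∈ (zpowers F.z).subgroupOf F.Q := he ▸ congrArg Multiplicative.ofAdd h
  exact mem_subgroupOf.1 this

theorem crd_eq_iff {p q : G} (hp : p ∈ F.Q) (hq : q ∈ F.Q) : F.crd p = F.crd q ↔ p⁻¹ * q ∈ zpowers F.z := by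
  rw [← F.crd_eq_zero (mul_mem (inv_mem hp) hq), F.crd_mul (inv_mem hp) hq, F.crd_inv hp, neg_add_eq_zero]

theorem decomp {q : G} (hq : q ∈ F.Q) : ∃ c ∈ zpowers F.z, q = F.lift (F.crd q) * c :=
  ⟨(F.lift (F.crd q))⁻¹ * q, (F.crd_eq_iff (F.lift_mem _) hq).1 (F.crd_lift _), (mul_inv_cancel_left _ _).symm⟩

theorem sf_crd {p q : G} (hp : p ∈ F.Q) (hq : q ∈ F.Q) : sf (F.crd p) (F.crd q) = F.lam p q := by
  obtain ⟨c, hc, e⟩ := F.decomp hp
  have e1 : F.lam p q = F.lam (F.lift (F.crd p)) q := by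
    conv_lhs => rw [e]
    rw [F.lam_mul_left (F.lift_mem _) (F.Z_le_Q hc) hq, F.lam_Z hc hq, add_zero]
  rw [e1, F.lam_lift _ hq, F.lam_skew F.a1_mem hq, F.lam_skew F.a2_mem hq, F.lam_skew F.b1_mem hq,
    F.lam_skew F.b2_mem hq]
  simp [sf, crd]

theorem sf_crd' (u v : V4) : F.lam (F.lift u) (F.lift v) = sf u v := by
  rw [← F.sf_crd (F.lift_mem u) (F.lift_mem v), F.crd_lift, F.crd_lift]

/-- The action of the centraliser. -/
noncomputable def act (c : F.Cz) : V4 →+ V4 :=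
  AddMonoidHom.mk' (fun v => F.crd ((c : G) * F.lift v * (c : G)⁻¹)) fun u v => by
    have hu := F.normal _ c.2 _ (F.lift_mem u)
    have hv := F.normal _ c.2 _ (F.lift_mem v)
    rw [← F.crd_mul hu hv]
    obtain ⟨d, hd, e⟩ := F.decomp (mul_mem (F.lift_mem u) (F.lift_mem v))
    rw [F.crd_mul (F.lift_mem u) (F.lift_mem v), F.crd_lift, F.crd_lift] at e
    rw [show (c : G) * F.lift u * (c : G)⁻¹ * ((c : G) * F.lift v * (c : G)⁻¹) =
      (c : G) * (F.lift u * F.lift v) * (c : G)⁻¹ by group, e,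
      show (c : G) * (F.lift (u + v) * d) * (c : G)⁻¹ = (c : G) * F.lift (u + v) * (c : G)⁻¹ * ((c : G) * d * (c : G)⁻¹)
        by group, F.fix_Z c.2 hd, F.crd_mul (F.normal _ c.2 _ (F.lift_mem _)) (F.Z_le_Q hd), F.crd_Z hd, add_zero]

theorem act_apply (c : F.Cz) (v : V4) : F.act c v = F.crd ((c : G) * F.lift v * (c : G)⁻¹) := rfl

theorem act_crd (c : F.Cz) {q : G} (hq : q ∈ F.Q) : F.act c (F.crd q) = F.crd ((c : G) * q * (c : G)⁻¹) := by
  obtain ⟨d, hd, e⟩ := F.decomp hq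
  rw [act_apply]
  conv_rhs => rw [e, show (c : G) * (F.lift (F.crd q) * d) * (c : G)⁻¹ =
    (c : G) * F.lift (F.crd q) * (c : G)⁻¹ * ((c : G) * d * (c : G)⁻¹) by group, F.fix_Z c.2 hd,
    F.crd_mul (F.normal _ c.2 _ (F.lift_mem _)) (F.Z_le_Q hd), F.crd_Z hd, add_zero]

theorem act_one : F.act 1 = AddMonoidHom.id V4 :=
  AddMonoidHom.ext fun v => by rw [act_apply]; simp [F.crd_lift]

theorem act_mul (c d : F.Cz) (v : V4) : F.act (c * d) v = F.act c (F.act d v) := by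
  rw [F.act_apply d v, F.act_crd c (F.normal _ d.2 _ (F.lift_mem v)), act_apply, Subgroup.coe_mul]
  congr 1
  group

theorem act_inv_apply (c : F.Cz) (v : V4) : F.act c (F.act c⁻¹ v) = v := by
  rw [← act_mul, mul_inv_cancel, act_one]; rfl

theorem act_pres (c : F.Cz) : Sp4.Pres (F.act c) := fun u v => by
  rw [act_apply, act_apply, F.sf_crd (F.normal _ c.2 _ (F.lift_mem u)) (F.normal _ c.2 _ (F.lift_mem v)),
    F.lam_conj c.2 (F.lift_mem u) (F.lift_mem v), sf_crd']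

theorem act_eq_id {c : F.Cz} :
    F.act c = AddMonoidHom.id V4 ↔ ∀ q ∈ F.Q, ⁅(c : G), q⁆ ∈ zpowers F.z := by
  have key : ∀ q ∈ F.Q, F.act c (F.crd q) = F.crd q ↔ ⁅(c : G), q⁆ ∈ zpowers F.z := fun q hq => by
    rw [F.act_crd c hq, commutatorElement_def,
      ← F.crd_eq_zero (mul_mem (F.normal _ c.2 _ hq) (inv_mem hq)),
      F.crd_mul (F.normal _ c.2 _ hq) (inv_mem hq), F.crd_inv hq, ← sub_eq_add_neg, sub_eq_zero]
  exact ⟨fun h q hq => (key q hq).1 (by rw [h]; rfl), fun h => AddMonoidHom.ext fun v => by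
    have := (key _ (F.lift_mem v)).2 (h _ (F.lift_mem v))
    rwa [F.crd_lift] at this⟩

theorem act_Q {c : F.Cz} (hc : (c : G) ∈ F.Q) : F.act c = AddMonoidHom.id V4 :=
  F.act_eq_id.2 fun q hq => F.comm_mem _ hc _ hq

theorem act_congr {c d : F.Cz} (h : (c : G)⁻¹ * (d : G) ∈ F.Q) : F.act c = F.act d :=
  AddMonoidHom.ext fun v => by
    have e : F.act (c⁻¹ * d) = AddMonoidHom.id V4 := F.act_Q h
    conv_rhs => rw [show d = c * (c⁻¹ * d) by group, act_mul, e]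
    rfl

theorem act_inj {c d : F.Cz} (h : F.act c = F.act d) : F.act (c⁻¹ * d) = AddMonoidHom.id V4 :=
  AddMonoidHom.ext fun v => by
    rw [act_mul, ← h, ← act_mul, inv_mul_cancel, act_one]

end Frame

end Cfsg.Agent.Co2Three.Local
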