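import Cfsg.Agent.Lib.Co2Three.Local.Ext
import Cfsg.Agent.Lib.Solvable.Fitting
import Cfsg.Agent.Lib.Transfer.PGroup
import Cfsg.Prelude.Def_CaseTheorems

/-!
S3336: the hypotheses give the data.
-/

set_option autoImplicit false
set_option linter.style.haveILetI false

namespace Cfsg.Agent.Co2Three.Local

open Subgroup
open scoped commutatorElement

theorem card_A5 : Nat.card (alternatingGroup (Fin 5)) = 60 := by
  rw [nat_card_alternatingGroup, Nat.card_fin]
  rfl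

theorem exists_ext_aux {G : Type*} [Group G] [Finite G] (S : Sylow 3 G) (z : G) (C : Subgroup G)
    (hC : C = centralizer ({z} : Set G))
    (hSC : (S : Subgroup G) ≤ C) (hzS : z ∈ (S : Subgroup G)) (hz1 : z ≠ 1)
    (hcen : ∀ x ∈ (S : Subgroup G), (∀ s ∈ (S : Subgroup G), x * s = s * x) → x ∈ zpowers z)
    (hQ : Cfsg.IsExtraspecial 3 (Cfsg.pCore 3 C)) (hQcard : Nat.card (Cfsg.pCore 3 C) = 3 ^ 5)
    (hR : Cfsg.IsExtraspecial 2 (Cfsg.pCore 2 (C ⧸ Cfsg.pCore 3 C)))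
    (hRcard : Nat.card (Cfsg.pCore 2 (C ⧸ Cfsg.pCore 3 C)) = 2 ^ 5)
    (e : (C ⧸ Cfsg.pCore 3 C) ⧸ Cfsg.pCore 2 (C ⧸ Cfsg.pCore 3 C) ≃* alternatingGroup (Fin 5))
    (hnwc : ∃ g : G, g * z * g⁻¹ ∈ (S : Subgroup G) ∧ g * z * g⁻¹ ∉ zpowers z) :
    Nonempty (Ext G) := by
  classical
  haveI : Fact (Nat.Prime 3) := ⟨Nat.prime_three⟩
  haveI : Fact (Nat.Prime 2) := ⟨Nat.prime_two⟩
  subst hC
  set C := centralizer ({z} : Set G) with hCdef
  set P := Cfsg.pCore 3 C with hP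
  set O := Cfsg.pCore 2 (C ⧸ P) with hO
  have hzC : z ∈ C := hSC hzS
  have hcz : ∀ c ∈ C, c * z = z * c := fun c hc => mem_centralizer_singleton_iff.1 hc
  -- the element lies in the core and generates its centre
  have hzN : (zpowers (⟨z, hzC⟩ : C)).Normal := by
    refine ⟨fun n hn g => ?_⟩
    obtain ⟨k, rfl⟩ := mem_zpowers_iff.1 hn
    have hg : Commute g (⟨z, hzC⟩ : C) := Subtype.ext (hcz g g.2)
    rw [(hg.zpow_right k).eq, mul_inv_cancel_right]
    exact zpow_mem (mem_zpowers _) k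
  have hz3' : IsPGroup 3 (zpowers (⟨z, hzC⟩ : C)) := by
    refine IsPGroup.of_injective S.2 ((C.subtype.comp (zpowers (⟨z, hzC⟩ : C)).subtype).codRestrict
      (S : Subgroup G) fun x => ?_) fun x y h => ?_
    · obtain ⟨k, hk⟩ := mem_zpowers_iff.1 x.2
      show ((x : C) : G) ∈ _
      rw [← hk]
      exact (S : Subgroup G).zpow_mem hzS k
    · exact Subtype.ext (Subtype.ext (congrArg (fun w : (S : Subgroup G) => (w : G)) h))
  have hzP : (⟨z, hzC⟩ : C) ∈ P := FittingCores.le_pCore hzN hz3' (mem_zpowers _)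
  have hcent : center P = zpowers (⟨⟨z, hzC⟩, hzP⟩ : P) := by
    have hle : zpowers (⟨⟨z, hzC⟩, hzP⟩ : P) ≤ center P :=
      zpowers_le.2 (mem_center_iff.2 fun g => Subtype.ext (Subtype.ext (hcz _ g.1.2)))
    refine (eq_of_le_of_card_ge hle ?_).symm
    rw [hQ.2]
    rcases (Nat.dvd_prime Nat.prime_three).1 (hQ.2 ▸ card_dvd_of_le hle) with h | h
    · rw [Nat.card_zpowers, orderOf_eq_one_iff, Subtype.ext_iff, Subtype.ext_iff] at h
      exact absurd h hz1
    · omega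
  have hZ : ∀ x : P, x ∈ center P ↔ ((x : C) : G) ∈ zpowers z := by
    intro x
    rw [hcent, mem_zpowers_iff, mem_zpowers_iff]
    exact ⟨fun ⟨k, hk⟩ => ⟨k, by rw [← hk]; simp⟩, fun ⟨k, hk⟩ => ⟨k, Subtype.ext (Subtype.ext (by simpa using hk))⟩⟩
  have hz3 : z ^ 3 = 1 := by
    have h : orderOf (⟨⟨z, hzC⟩, hzP⟩ : P) = 3 := by rw [← Nat.card_zpowers, ← hcent, hQ.2]
    have := congrArg (fun w : P => ((w : C) : G)) (h ▸ pow_orderOf_eq_one (⟨⟨z, hzC⟩, hzP⟩ : P))
    simpa using this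
  set Q := P.map C.subtype with hQdef
  have memQ : ∀ {x : G}, x ∈ Q ↔ ∃ hx : x ∈ C, (⟨x, hx⟩ : C) ∈ P := fun {x} =>
    ⟨fun ⟨c, hc, e⟩ => e ▸ ⟨c.2, hc⟩, fun ⟨hx, h⟩ => ⟨_, h, rfl⟩⟩
  -- the two quotient maps
  set q₁ := QuotientGroup.mk' P with hq₁
  set q₂ := QuotientGroup.mk' O with hq₂
  set R := (O.comap q₁).map C.subtype with hRdef
  have memR : ∀ {x : G}, x ∈ R ↔ ∃ hx : x ∈ C, q₁ ⟨x, hx⟩ ∈ O := fun {x} =>
    ⟨fun ⟨c, hc, e⟩ => e ▸ ⟨c.2, hc⟩, fun ⟨hx, h⟩ => ⟨_, h, rfl⟩⟩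
  have hidx : O.index = 60 := by rw [index_eq_card, Nat.card_congr e.toEquiv, card_A5]
  have hcardC : Nat.card C = 243 * 32 * 60 := by
    rw [card_eq_card_quotient_mul_card_subgroup P, hQcard, card_eq_card_quotient_mul_card_subgroup O,
      Nat.card_congr e.toEquiv, card_A5, hRcard]
    norm_num
  have hcardR : Nat.card R = 243 * 32 := by
    rw [hRdef, Subgroup.card_subtype]
    have h := card_mul_index (O.comap q₁)
    rw [index_comap_of_surjective _ (QuotientGroup.mk'_surjective P), hidx, hcardC] at h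
    omega
  -- the involution
  obtain ⟨t0, ht0, ht1⟩ : ∃ t ∈ center O, t ≠ 1 := by
    refine (center O).bot_or_exists_ne_one.resolve_left fun h => ?_
    have h2 := hR.2
    rw [h, card_bot] at h2
    omega
  obtain ⟨t, ht⟩ := QuotientGroup.mk'_surjective P (t0 : C ⧸ P)
  have hcentO : ∀ x : O, x ∈ center O → x = 1 ∨ x = t0 := by
    intro x hx
    by_contra h
    push Not at h
    have hs : ({(1 : O), t0, x} : Finset O).card = 3 :=
      Finset.card_eq_three.2 ⟨1, t0, x, ht1.symm, h.1.symm, h.2.symm, rfl⟩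
    have : 3 ≤ Nat.card (center O) := by
      refine hs.ge.trans (le_of_eq_of_le (Nat.card_eq_finsetCard _).symm ?_)
      exact Nat.card_le_card_of_injective (fun y => (⟨y.1, by
        have := y.2
        simp only [Finset.mem_insert, Finset.mem_singleton] at this
        rcases this with e | e | e <;> rw [e]
        exacts [one_mem _, ht0, hx]⟩ : center O)) fun a b h => Subtype.ext (congrArg Subtype.val h :)
    rw [hR.2] at this
    omega
  have tail : ∀ (x : C) (y : O), q₁ x = (y : C ⧸ P) → y ∈ center O → (x : G) ∈ Q ∨ (x : G) * (t : G)⁻¹ ∈ Q := by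
    intro x y hxy hy
    rcases hcentO y hy with rfl | rfl
    · exact Or.inl (memQ.2 ⟨x.2, (QuotientGroup.eq_one_iff _).1 hxy⟩)
    · refine Or.inr (memQ.2 ⟨mul_mem x.2 (inv_mem t.2), ?_⟩)
      refine (QuotientGroup.eq_one_iff _).1 ?_
      show q₁ (x * t⁻¹) = 1
      rw [map_mul, map_inv, hxy, ht, mul_inv_cancel]
  refine ⟨{
    S := S
    z := z
    Q := Q
    R := R
    t := (t : G)
    S_le := hSC
    center_S := hcen
    Q_le := fun x hx => (memQ.1 hx).1
    normal := fun c hc x hx => by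
      obtain ⟨hxC, hxP⟩ := memQ.1 hx
      exact memQ.2 ⟨mul_mem (mul_mem hc hxC) (inv_mem hc),
        (inferInstance : P.Normal).conj_mem _ hxP ⟨c, hc⟩⟩
    card_Q := by rw [hQdef, Subgroup.card_subtype, hQcard]; norm_num
    comm_mem := fun a ha b hb => by
      obtain ⟨hac, hap⟩ := memQ.1 ha
      obtain ⟨hbc, hbp⟩ := memQ.1 hb
      have h : ⁅(⟨⟨a, hac⟩, hap⟩ : P), ⟨⟨b, hbc⟩, hbp⟩⁆ ∈ center P := by
        rw [← hQ.1.2.2]
        exact commutator_mem_commutator (mem_top _) (mem_top _)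
      exact (hZ _).1 h
    z_mem := memQ.2 ⟨hzC, hzP⟩
    z_ne := hz1
    z3 := hz3
    center_Q := fun x hx h => by
      obtain ⟨hxc, hxp⟩ := memQ.1 hx
      refine (hZ ⟨⟨x, hxc⟩, hxp⟩).1 (mem_center_iff.2 fun g => Subtype.ext (Subtype.ext ?_))
      exact (h _ (memQ.2 ⟨g.1.2, g.2⟩)).symm
    R_le := fun x hx => (memR.1 hx).1
    Q_le_R := fun x hx => by
      obtain ⟨hxc, hxp⟩ := memQ.1 hx
      exact memR.2 ⟨hxc, by rw [show q₁ ⟨x, hxc⟩ = 1 from (QuotientGroup.eq_one_iff _).2 hxp]; exact one_mem _⟩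
    card_R := hcardR
    R_normal := fun c hc x hx => by
      obtain ⟨hxc, hxo⟩ := memR.1 hx
      refine memR.2 ⟨mul_mem (mul_mem hc hxc) (inv_mem hc), ?_⟩
      have := (inferInstance : O.Normal).conj_mem _ hxo (q₁ ⟨c, hc⟩)
      rwa [← map_inv, ← map_mul, ← map_mul] at this
    card_C := hcardC
    pi := e.toMonoidHom.comp (q₂.comp q₁)
    pi_surj := e.surjective.comp ((QuotientGroup.mk'_surjective O).comp (QuotientGroup.mk'_surjective P))
    pi_ker := fun x => by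
      show e (q₂ (q₁ x)) = 1 ↔ _
      rw [e.map_eq_one_iff, hq₂, QuotientGroup.mk'_apply, QuotientGroup.eq_one_iff, memR]
      exact ⟨fun h => ⟨x.2, h⟩, fun ⟨_, h⟩ => h⟩
    t_mem := memR.2 ⟨t.2, by show q₁ t ∈ O; rw [ht]; exact t0.2⟩
    t_not := fun h => by
      obtain ⟨hc, hp⟩ := memQ.1 h
      exact ht1 (Subtype.ext (ht.symm.trans ((QuotientGroup.eq_one_iff _).2 hp)))
    t_sq := by
      refine memQ.2 ⟨mul_mem t.2 t.2, (QuotientGroup.eq_one_iff _).1 ?_⟩
      show q₁ (t * t) = 1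
      have h2 : t0 * t0 = 1 := by
        have h := congrArg Subtype.val (pow_card_eq_one' (x := (⟨t0, ht0⟩ : center O)))
        rw [hR.2] at h
        simpa [pow_two] using h
      rw [map_mul, ht, ← Subgroup.coe_mul, h2, Subgroup.coe_one]
    R_comm := fun a ha b hb => by
      obtain ⟨hac, hao⟩ := memR.1 ha
      obtain ⟨hbc, hbo⟩ := memR.1 hb
      refine tail ⁅(⟨a, hac⟩ : C), ⟨b, hbc⟩⁆ ⁅(⟨_, hao⟩ : O), ⟨_, hbo⟩⁆ ?_ ?_
      · rw [map_commutatorElement]; rfl
      · rw [← hR.1.2.2]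
        exact commutator_mem_commutator (mem_top _) (mem_top _)
    R_center := fun a ha h => by
      obtain ⟨hac, hao⟩ := memR.1 ha
      refine tail ⟨a, hac⟩ ⟨_, hao⟩ rfl (mem_center_iff.2 ?_)
      rintro ⟨b', hb'⟩
      obtain ⟨b, rfl⟩ := QuotientGroup.mk'_surjective P b'
      have h1 := h b (memR.2 ⟨b.2, hb'⟩)
      obtain ⟨hk, hkp⟩ := memQ.1 h1
      have h2 : q₁ ⁅(⟨a, hac⟩ : C), b⁆ = 1 := (QuotientGroup.eq_one_iff _).2 hkp
      rw [map_commutatorElement, commutatorElement_eq_one_iff_mul_comm] at h2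
      exact Subtype.ext h2.symm
    R_sq := fun a ha => by
      obtain ⟨hac, hao⟩ := memR.1 ha
      refine tail (⟨a, hac⟩ * ⟨a, hac⟩) (⟨_, hao⟩ * ⟨_, hao⟩) (by rw [map_mul]; rfl) ?_
      rw [← hR.1.2.1, ← pow_two]
      exact PGroupBasics.pow_mem_frattini hR.1.1 _
    nwc := hnwc }⟩

/-- The hypotheses of S3336 give the data. -/
theorem exists_ext {G : Type*} [Group G] [Finite G]
    (S : Sylow 3 G) (Z : Subgroup G) (hZ : Z = (S : Subgroup G) ⊓ Subgroup.centralizer ((S : Subgroup G) : Set G))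
    (C : Subgroup G) (hCZ : C = Subgroup.centralizer (Z : Set G))
    (hQ : Cfsg.IsExtraspecial 3 (Cfsg.pCore 3 C)) (hQcard : Nat.card (Cfsg.pCore 3 C) = 3 ^ 5)
    (hR : Cfsg.IsExtraspecial 2 (Cfsg.pCore 2 (C ⧸ Cfsg.pCore 3 C)))
    (hRcard : Nat.card (Cfsg.pCore 2 (C ⧸ Cfsg.pCore 3 C)) = 2 ^ 5)
    (e : (C ⧸ Cfsg.pCore 3 C) ⧸ Cfsg.pCore 2 (C ⧸ Cfsg.pCore 3 C) ≃* alternatingGroup (Fin 5))
    (hnwc : ¬ Cfsg.IsWeaklyClosed Z S) : Nonempty (Ext G) := by
  classical
  haveI : Fact (Nat.Prime 3) := ⟨Nat.prime_three⟩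
  have hZS : Z ≤ (S : Subgroup G) := hZ ▸ inf_le_left
  have hmemZ : ∀ x, x ∈ Z ↔ x ∈ (S : Subgroup G) ∧ ∀ s ∈ (S : Subgroup G), s * x = x * s := fun x => by
    rw [hZ, mem_inf, mem_centralizer_iff]
    rfl
  have hSC : (S : Subgroup G) ≤ C := by
    intro s hs
    rw [hCZ, mem_centralizer_iff]
    exact fun x hx => (((hmemZ x).1 hx).2 s hs).symm
  -- the centre of the Sylow group inside the core
  let T : Subgroup C := Z.subgroupOf C
  have hTN : T.Normal := by
    refine ⟨fun n hn g => ?_⟩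
    have hg := g.2
    simp only [hCZ, mem_centralizer_iff] at hg
    have e' : g * n = n * g := Subtype.ext (hg _ (mem_subgroupOf.1 hn)).symm
    rw [e', mul_inv_cancel_right]
    exact hn
  have hT3 : IsPGroup 3 T := IsPGroup.of_injective (S.2.to_le hZS)
    ((C.subtype.comp T.subtype).codRestrict Z fun x => mem_subgroupOf.1 x.2)
    fun x y h => Subtype.ext (Subtype.ext (congrArg (fun w : Z => (w : G)) h))
  have hTP : T ≤ Cfsg.pCore 3 C := FittingCores.le_pCore hTN hT3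
  have hTc : ∀ x : Cfsg.pCore 3 C, (x : C) ∈ T → x ∈ center (Cfsg.pCore 3 C) := fun x hx => by
    refine mem_center_iff.2 fun g => Subtype.ext (Subtype.ext ?_)
    have hg := g.1.2
    simp only [hCZ, mem_centralizer_iff] at hg
    exact (hg _ (mem_subgroupOf.1 hx)).symm
  have hQC : 243 ≤ Nat.card C := by
    have h := card_le_card_group (Cfsg.pCore 3 C)
    rw [hQcard] at h
    omega
  have hS3 : 3 ∣ Nat.card G := by
    have h := (card_subgroup_dvd_card (Cfsg.pCore 3 C)).trans (card_subgroup_dvd_card C)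
    rw [hQcard] at h
    exact (dvd_pow_self 3 (by norm_num)).trans h
  have hSnt : Nontrivial (S : Subgroup G) := by
    have h := S.dvd_card_of_dvd_card hS3
    exact Finite.one_lt_card_iff_nontrivial.1 (Nat.lt_of_lt_of_le (by norm_num) (Nat.le_of_dvd Nat.card_pos h))
  haveI := hSnt
  haveI := S.2.center_nontrivial
  obtain ⟨c0, hc0⟩ := exists_ne (1 : center (S : Subgroup G))
  set z : G := ((c0 : (S : Subgroup G)) : G) with hz
  have hz1 : z ≠ 1 := fun h => hc0 (Subtype.ext (Subtype.ext h))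
  have hzZ : z ∈ Z := (hmemZ z).2 ⟨(c0 : (S : Subgroup G)).2, fun s hs =>
    congrArg Subtype.val (mem_center_iff.1 c0.2 ⟨s, hs⟩)⟩
  have hZcard : Nat.card Z ∣ 3 := by
    rw [← hQ.2, ← Nat.card_congr (subgroupOfEquivOfLe (hZS.trans hSC)).toEquiv]
    exact card_dvd_of_injective ((inclusion hTP).codRestrict (center (Cfsg.pCore 3 C)) fun x => hTc _ x.2)
      fun x y h => Subtype.ext (congrArg (fun w : center (Cfsg.pCore 3 C) => ((w : Cfsg.pCore 3 C) : C)) h)
  have hzp : Z = zpowers z := by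
    refine (eq_of_le_of_card_ge (zpowers_le.2 hzZ) ?_).symm
    have h1 : 1 < Nat.card (zpowers z) := by
      rw [Nat.card_zpowers]
      exact Nat.lt_of_le_of_ne (orderOf_pos z) fun h => hz1 (orderOf_eq_one_iff.1 h.symm)
    have h3 := Nat.le_of_dvd (by norm_num) hZcard
    rcases (Nat.dvd_prime Nat.prime_three).1 ((card_dvd_of_le (zpowers_le.2 hzZ)).trans hZcard) with h | h <;> omega
  have hCz : C = centralizer ({z} : Set G) := by
    rw [hCZ]
    ext x
    rw [mem_centralizer_singleton_iff, mem_centralizer_iff]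
    refine ⟨fun h => (h z hzZ).symm, fun h y hy => ?_⟩
    obtain ⟨k, rfl⟩ := mem_zpowers_iff.1 (hzp ▸ hy)
    exact ((show Commute x z from h).zpow_right k).eq.symm
  refine exists_ext_aux S z C hCz hSC (hZS hzZ) hz1 (fun x hx h => ?_) hQ hQcard hR hRcard e ?_
  · rw [← hzp]
    exact (hmemZ x).2 ⟨hx, fun s hs => (h s hs).symm⟩
  · by_contra hno
    push Not at hno
    refine hnwc ⟨hZS, fun g hg => ?_⟩
    have hzg : g * z * g⁻¹ ∈ zpowers z := hno g (hg ⟨z, hzZ, rfl⟩)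
    refine eq_of_le_of_card_ge ?_ (le_of_eq ?_)
    · rw [hzp, MonoidHom.map_zpowers]
      exact zpowers_le.2 hzg
    · exact (card_map_of_injective (MulAut.conj g).injective).symm

end Cfsg.Agent.Co2Three.Local
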