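import Cfsg.Agent.Lib.Co2Three.Local.Coords
import Mathlib.LinearAlgebra.Matrix.SpecialLinearGroup

/-!
S3336: the fields of the local configuration belonging to the reflection.
-/

set_option autoImplicit false

namespace Cfsg.Agent.Co2Three.Local

open Subgroup

/-- The reflection and the quaternion group at the central point. -/
structure Refl {G : Type*} [Group G] [Finite G] {F : Frame G} (K : Cfg F) where
  /-- the reflection in `e1` -/
  t : G
  t_sq : t * t = 1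
  t_act : ∀ v, t * K.el v * t⁻¹ = K.el (refl1 v)
  /-- the quaternion group at the central point -/
  P : Subgroup G
  P_card : Nat.card P = 8
  P_le : P ≤ centralizer {K.el e0} ⊓ centralizer {t}
  t_mem : t ∈ P
  P_invol : ∀ p ∈ P, p * p = 1 → p = 1 ∨ p = t
  P_norm : ∀ g ∈ centralizer ({K.el e0} : Set G) ⊓ centralizer {t}, ∀ p ∈ P, g * p * g⁻¹ ∈ P
  P_comm : ∀ p ∈ P, ∀ q ∈ F.Q ⊓ centralizer {t}, p * q = q * p
  P_move : ∀ v, v 1 = 0 → v 3 ≠ 0 → ∀ p ∈ P, Commute p (K.el v) → p = 1 ∨ p = t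
  cQt_card : Nat.card ↥(F.Q ⊓ centralizer {t}) = 27
  centT : ∃ f : ↥(centralizer ({K.el e0} : Set G) ⊓ centralizer {t}) →* Matrix.SpecialLinearGroup (Fin 2) (ZMod 3),
    Function.Surjective f ∧
    ∀ x, f x = 1 ↔ ∃ q ∈ F.Q ⊓ centralizer {t}, ∃ p ∈ P, (x : G) = q * p
  centT_stab : ∀ g ∈ centralizer ({K.el e0} : Set G) ⊓ centralizer {t}, Commute g (K.el e2) →
    ∃ q ∈ F.Q ⊓ centralizer {t}, ∃ p ∈ P, ∃ k : ℕ, g = q * p * K.el e3 ^ k

end Cfsg.Agent.Co2Three.Local
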