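import Cfsg.Agent.Lib.Co2Three.Local.Coords
import Mathlib.LinearAlgebra.Matrix.SpecialLinearGroup

/-!
S3336: the stabiliser of a point of the core on the tangent plane.
-/

set_option autoImplicit false
set_option linter.style.haveILetI false
set_option linter.unusedSectionVars false

namespace Cfsg.Agent.Co2Three.Sp4

/-- The action on the orthogonal space of the first vector modulo it. -/
def Mt (f : V4 →+ V4) : Matrix (Fin 2) (Fin 2) (ZMod 3) :=
  !![f (Pi.single 1 1) 1, f (Pi.single 3 1) 1; f (Pi.single 1 1) 3, f (Pi.single 3 1) 3]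

theorem fix_coord {f : V4 →+ V4} (hp : Pres f) (h0 : f (Pi.single 0 1) = Pi.single 0 1) :
    f (Pi.single 1 1) 2 = 0 ∧ f (Pi.single 3 1) 2 = 0 := by
  have h1 := hp (Pi.single 0 1) (Pi.single 1 1)
  have h3 := hp (Pi.single 0 1) (Pi.single 3 1)
  rw [h0] at h1 h3
  simp [sf] at h1 h3
  exact ⟨h1, h3⟩

theorem det_Mt {f : V4 →+ V4} (hp : Pres f) (h0 : f (Pi.single 0 1) = Pi.single 0 1) : (Mt f).det = 1 := by
  obtain ⟨h1, h3⟩ := fix_coord hp h0
  have h := hp (Pi.single 1 1) (Pi.single 3 1)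
  simp [sf, h1, h3] at h
  rw [Mt, Matrix.det_fin_two_of]
  linear_combination h

theorem Mt_comp {f g : V4 →+ V4} (hg : Pres g) (hf0 : f (Pi.single 0 1) = Pi.single 0 1)
    (hg0 : g (Pi.single 0 1) = Pi.single 0 1) : Mt (f.comp g) = Mt f * Mt g := by
  obtain ⟨h1, h3⟩ := fix_coord hg hg0
  have key : ∀ w : V4, w 2 = 0 → ∀ k, k = 1 ∨ k = 3 →
      f w k = f (Pi.single 1 1) k * w 1 + f (Pi.single 3 1) k * w 3 := by
    intro w hw k hk
    conv_lhs => rw [v4_decomp w]
    simp only [map_add, ZMod.map_smul, hw, hf0, zero_smul, zero_add]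
    rcases hk with rfl | rfl <;> simp <;> ring
  ext i j
  fin_cases i <;> fin_cases j <;>
    simp [Mt, Matrix.mul_apply, Fin.sum_univ_two, key _ h1 1 (Or.inl rfl), key _ h1 3 (Or.inr rfl),
      key _ h3 1 (Or.inl rfl), key _ h3 3 (Or.inr rfl)]

theorem quot1_code (f : V4 →+ V4) : quot1 (code f) =
    ((Mt f 0 0).val, (Mt f 0 1).val, (Mt f 1 0).val, (Mt f 1 1).val) := by
  obtain ⟨-, c1', -, c3⟩ := col_code f
  obtain ⟨-, a1, -, a3⟩ := dg_vc (f (Pi.single 1 1))
  obtain ⟨-, b1, -, b3⟩ := dg_vc (f (Pi.single 3 1))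
  rw [quot1, c1', c3, a1, a3, b1, b3]
  rfl

end Cfsg.Agent.Co2Three.Sp4

namespace Cfsg.Agent.Co2Three.Local

open Subgroup
open scoped commutatorElement
open Sp4 (sf X code c1 Ns Mt)

namespace Cfg

variable {G : Type*} [Group G] [Finite G] {F : Frame G} (K : Cfg F)
include K

theorem tangent {b : V4} (h3 : b 3 = 0) (hb : b 1 ≠ 0 ∨ b 2 ≠ 0) :
    ∃ f : ↥(centralizer ({K.el e0} : Set G) ⊓ centralizer {K.el b}) →* Matrix.SpecialLinearGroup (Fin 2) (ZMod 3),
      Function.Surjective f ∧ ∀ x, f x = 1 ↔ (x : G) ∈ F.Q := by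
  set C0 := centralizer ({K.el e0} : Set G) ⊓ centralizer {K.el b}
  have hC0 : ∀ {x : G}, x ∈ C0 ↔ x ∈ F.Cz ∧ Commute x (K.el b) := fun {x} => by
    rw [show C0 = centralizer ({F.z} : Set G) ⊓ centralizer {K.el b} by rw [← K.el_e0]]
    exact mem_inf.trans (Iff.and Iff.rfl mem_centralizer_singleton_iff)
  have hbQ : K.el b ∈ F.Q := K.el_Q.2 h3
  set v : V4 := ![b 1, b 2, 0, 0] with hv
  have hcv : F.crd (K.el b) = v := K.crd_el h3
  have hv0 : v ≠ 0 := fun h => by
    rcases hb with h' | h'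
    · exact h' (congrFun h 0)
    · exact h' (congrFun h 1)
  -- move the first vector there
  obtain ⟨m, hm⟩ : ∃ m : F.Cz, F.act m (Pi.single 0 1) = v := by
    have h := Sp4.moves_ok
    simp only [List.all_eq_true, List.mem_range, Bool.and_eq_true, Nat.beq_eq, List.contains_iff_mem] at h
    have hlt := Sp4.vc_lt v
    have hne : Sp4.vc v ≠ 0 := fun e => hv0 (Sp4.vc_inj (e.trans Sp4.vc_zero.symm))
    obtain ⟨hN, hcol⟩ := h (Sp4.vc v - 1) (by omega)
    obtain ⟨m, hm⟩ := K.S.exists_im hN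
    refine ⟨m, Sp4.vc_inj ?_⟩
    rw [← (Sp4.col_code (F.act m)).1, show code (F.act m) = F.im m from rfl, hm, hcol]
    omega
  let c0 : C0 → F.Cz := fun x => m⁻¹ * ⟨x.1, (hC0.1 x.2).1⟩ * m
  have hfix : ∀ x, F.act (c0 x) (Pi.single 0 1) = Pi.single 0 1 := fun x => by
    have h := F.act_fix_of_commute (c := ⟨x.1, (hC0.1 x.2).1⟩) hbQ (hC0.1 x.2).2
    rw [hcv, ← hm] at h
    show F.act (m⁻¹ * _ * m) _ = _
    rw [F.act_mul, F.act_mul, h, ← F.act_mul, inv_mul_cancel, F.act_one]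
    rfl
  let f : C0 →* Matrix.SpecialLinearGroup (Fin 2) (ZMod 3) :=
    MonoidHom.mk' (fun x => ⟨Mt (F.act (c0 x)), Sp4.det_Mt (F.act_pres _) (hfix x)⟩) fun x y =>
      Subtype.ext (by
        show Mt (F.act (c0 (x * y))) = Mt (F.act (c0 x)) * Mt (F.act (c0 y))
        rw [← Sp4.Mt_comp (F.act_pres _) (hfix x) (hfix y), ← Frame.act_comp]
        refine congrArg (fun z => Mt (F.act z)) (Subtype.ext ?_)
        simp [c0, mul_assoc])
  refine ⟨f, fun A => ?_, fun x => ?_⟩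
  · have h := Sp4.stab_first.2
    simp only [List.all_eq_true, List.mem_range, Bool.or_eq_true, Bool.not_eq_true', List.any_eq_true,
      Bool.and_eq_true, Nat.beq_eq, beq_iff_eq] at h
    have hdet : (A.1 0 0 * A.1 1 1 - A.1 0 1 * A.1 1 0 : ZMod 3) = 1 := by
      rw [← Matrix.det_fin_two]; exact A.2
    have hsl : Sp4.sl (A.1 0 0).val (A.1 0 1).val (A.1 1 0).val (A.1 1 1).val = true :=
      (by decide : ∀ a b c d : ZMod 3, a * d - b * c = 1 → Sp4.sl a.val b.val c.val d.val = true) _ _ _ _ hdet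
    obtain ⟨n, hn, hn0, hnq⟩ := (h _ (A.1 0 0).val_lt _ (A.1 0 1).val_lt _ (A.1 1 0).val_lt _
      (A.1 1 1).val_lt).resolve_left (by rw [hsl]; simp)
    obtain ⟨g, hg⟩ := K.S.exists_im hn
    have hg0 : F.act g (Pi.single 0 1) = Pi.single 0 1 := Sp4.vc_inj (by
      rw [← (Sp4.col_code (F.act g)).1, show code (F.act g) = F.im g from rfl, hg, hn0, Sp4.vc_single.1])
    set h' : F.Cz := m * g * m⁻¹
    have hh : F.act h' v = v := by
      show F.act (m * g * m⁻¹) v = v
      rw [← hm, F.act_mul, F.act_mul, ← F.act_mul m⁻¹ m, inv_mul_cancel, F.act_one, AddMonoidHom.id_apply, hg0]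
    -- correct by an element of the core
    rw [← hcv, F.act_crd h' hbQ] at hh
    obtain ⟨k, hk⟩ := F.exists_zk ((F.crd_eq_iff hbQ (F.normal _ h'.2 _ hbQ)).1 hh.symm)
    have hbz : K.el b ∉ zpowers F.z := fun e => hv0 (hcv ▸ F.crd_Z e)
    obtain ⟨q0, hq0, hne⟩ := F.exists_lam_ne hbQ hbz
    obtain ⟨j, hj⟩ := F.exists_lam_one hbQ hq0 hne
    set q := (q0 ^ j) ^ k.val with hq
    have hqQ : q ∈ F.Q := pow_mem (pow_mem hq0 j) _
    have hl : ⁅q, K.el b⁆ = F.zk (-k) := by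
      rw [← F.lam_spec hqQ hbQ, hq, F.lam_pow_left (pow_mem hq0 j) hbQ, F.lam_skew (pow_mem hq0 j) hbQ, hj,
        ZMod.natCast_zmod_val, mul_neg, mul_one]
    have hqb : q * ((h' : G) * K.el b * (h' : G)⁻¹) * q⁻¹ = K.el b := by
      have e : (h' : G) * K.el b * (h' : G)⁻¹ = K.el b * F.zk k := by rw [hk]; group
      rw [e, show q * (K.el b * F.zk k) * q⁻¹ = ⁅q, K.el b⁆ * K.el b * (q * F.zk k * q⁻¹) by
        rw [commutatorElement_def]; group, hl, F.fix_Z (F.Q_le hqQ) (F.zk_mem k),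
        ← (F.commute_Z (F.Q_le hbQ) (F.zk_mem (-k))).eq, mul_assoc, ← F.zk_add, neg_add_cancel, F.zk_zero, mul_one]
    have hx : q * (h' : G) ∈ C0 := hC0.2 ⟨mul_mem (F.Q_le hqQ) h'.2, by
      show _ * _ = _ * _
      conv_rhs => rw [← hqb]
      group⟩
    refine ⟨⟨_, hx⟩, Subtype.ext ?_⟩
    show Mt (F.act (c0 ⟨_, hx⟩)) = A.1
    have hact : F.act (c0 ⟨_, hx⟩) = F.act g := by
      refine F.act_bar ?_
      show F.bar (m⁻¹ * (⟨q * (h' : G), _⟩ : F.Cz) * m) = F.bar g
      rw [show (⟨q * (h' : G), (hC0.1 hx).1⟩ : F.Cz) = ⟨q, F.Q_le hqQ⟩ * h' from rfl, map_mul, map_mul, map_mul,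
        (F.bar_eq_one (c := (⟨q, F.Q_le hqQ⟩ : F.Cz))).2 hqQ, one_mul, ← map_mul, ← map_mul]
      congr 1
      simp [h', mul_assoc]
    rw [hact]
    have hq1 := Sp4.quot1_code (F.act g)
    rw [show code (F.act g) = F.im g from rfl, hg, hnq] at hq1
    simp only [Prod.mk.injEq] at hq1
    ext i j
    fin_cases i <;> fin_cases j
    · exact (ZMod.val_injective 3 hq1.1).symm
    · exact (ZMod.val_injective 3 hq1.2.1).symm
    · exact (ZMod.val_injective 3 hq1.2.2.1).symm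
    · exact (ZMod.val_injective 3 hq1.2.2.2).symm
  · constructor
    · intro hx
      have hM : Mt (F.act (c0 x)) = 1 := congrArg Subtype.val hx
      have h := Sp4.stab_first.1
      simp only [List.all_eq_true, Bool.or_eq_true, Bool.not_eq_true', Bool.and_eq_true, Nat.beq_eq,
        beq_eq_false_iff_ne] at h
      have hone : F.im (c0 x) = c1 := by
        rcases h _ (K.S.im_mem (c0 x)) with h' | h'
        · exfalso
          rw [Frame.im, (Sp4.col_code _).1, hfix, Sp4.vc_single.1] at h'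
          exact absurd h' (by decide)
        · refine h'.1.1.2.resolve_left fun hne => hne ?_
          rw [Frame.im, Sp4.quot1_code, hM]
          simp; rfl
      have h1 := F.bar_eq_one.1 (show F.bar (c0 x) = 1 by rw [← map_one F.bar, ← F.im_eq_iff, hone, F.im_one])
      have h2 := F.normal _ m.2 _ h1
      simpa [c0, mul_assoc] using h2
    · intro hx
      refine Subtype.ext ?_
      show Mt (F.act (c0 x)) = 1
      have h1 : F.act (c0 x) = AddMonoidHom.id V4 := F.act_Q (by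
        have h2 := F.normal _ (inv_mem m.2) _ hx
        simpa [c0, mul_assoc] using h2)
      rw [h1]
      ext i j
      fin_cases i <;> fin_cases j <;> simp [Mt]

end Cfg

end Cfsg.Agent.Co2Three.Local
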