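import Cfsg.Agent.Lib.Co2Three.Local.Norm
import Cfsg.Agent.Lib.Co2Three.Local.Tangent
import Cfsg.Agent.Lib.Co2Three.Local.Hyp
import Cfsg.Agent.Lib.Co2Three.Local.ReflDefs
import Cfsg.Agent.Lib.Solvable.NilpotentFrattini

/-!
S3336: the local configuration.
-/

set_option autoImplicit false
set_option linter.style.haveILetI false

namespace Cfsg.Agent.Co2Three.Local

open Subgroup
open scoped commutatorElement

/-- The core is extraspecial. -/
theorem extraspecial_Q {G : Type*} [Group G] [Finite G] (F : Frame G) : Cfsg.IsExtraspecial 3 F.Q := by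
  classical
  haveI : Fact (Nat.Prime 3) := ⟨Nat.prime_three⟩
  have hp : IsPGroup 3 F.Q := IsPGroup.of_card (n := 5) F.card_Q
  have hZ : (zpowers F.z).subgroupOf F.Q = center F.Q := by
    ext x
    rw [mem_subgroupOf, mem_center_iff]
    exact ⟨fun h g => Subtype.ext (F.commute_Z (F.Q_le g.2) h).eq,
      fun h => F.center_Q x x.2 fun q hq => (congrArg Subtype.val (h ⟨q, hq⟩)).symm⟩
  have hcard : Nat.card (center F.Q) = 3 := by
    rw [← hZ, Nat.card_congr (subgroupOfEquivOfLe F.Z_le_Q).toEquiv, Nat.card_zpowers, F.order_z]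
  have hcom : commutator F.Q = center F.Q := by
    have hle : commutator F.Q ≤ center F.Q := by
      rw [_root_.commutator_def, Subgroup.commutator_le]
      intro a _ b _
      rw [← hZ, mem_subgroupOf]
      exact F.comm_mem _ a.2 _ b.2
    refine eq_of_le_of_card_ge hle ?_
    rw [hcard]
    have hne : Nat.card (commutator F.Q) ≠ 1 := fun h1 => by
      have hb := eq_bot_of_card_eq _ h1
      have hm : ⁅(⟨F.a1, F.a1_mem⟩ : F.Q), ⟨F.b1, F.b1_mem⟩⁆ ∈ commutator F.Q :=
        commutator_mem_commutator (mem_top _) (mem_top _)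
      rw [hb, mem_bot] at hm
      have h := congrArg Subtype.val hm
      have h2 := F.lam_eq F.a1_mem F.b1_mem (k := 0) (by rw [F.zk_zero]; exact h)
      rw [F.l11] at h2
      exact one_ne_zero h2
    have hd := card_dvd_of_le hle
    rw [hcard] at hd
    rcases (Nat.dvd_prime Nat.prime_three).1 hd with h | h <;> omega
  refine ⟨⟨hp, le_antisymm ?_ ?_, hcom⟩, hcard⟩
  · -- coordinates separate the points
    intro x hx
    rw [← hZ, mem_subgroupOf, ← F.crd_eq_zero x.2]
    by_contra hne
    obtain ⟨k, hk⟩ := Function.ne_iff.1 hne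
    let χ : F.Q →* Multiplicative (ZMod 3) :=
      MonoidHom.mk' (fun q => Multiplicative.ofAdd (F.crd q k)) fun a b =>
        congrArg Multiplicative.ofAdd (congrFun (F.crd_mul a.2 b.2) k)
    have hs : Function.Surjective χ := fun c =>
      ⟨⟨_, F.lift_mem (Pi.single k c.toAdd)⟩, by
        show Multiplicative.ofAdd (F.crd (F.lift _) k) = c
        rw [F.crd_lift, Pi.single_eq_same]; rfl⟩
    haveI : Fact (Nat.card (Multiplicative (ZMod 3))).Prime :=
      ⟨by rw [Nat.card_congr Multiplicative.toAdd, Nat.card_zmod]; exact Nat.prime_three⟩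
    have hco : IsCoatom χ.ker := by
      refine ⟨fun h => hk ?_, fun H hH => ?_⟩
      · have hx' : x ∈ χ.ker := h ▸ mem_top x
        exact congrArg Multiplicative.toAdd (show χ x = 1 from hx')
      · rcases (H.map χ).eq_bot_or_eq_top_of_prime_card with h | h
        · exact absurd hH (not_lt_of_ge ((map_eq_bot_iff H).1 h))
        · rw [eq_top_iff]
          intro y _
          obtain ⟨w, hw, e⟩ := mem_map.1 (h ▸ mem_top (χ y) : χ y ∈ H.map χ)
          have : w⁻¹ * y ∈ χ.ker := by rw [MonoidHom.mem_ker, map_mul, map_inv, e, inv_mul_cancel]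
          have := mul_mem hw (hH.le this)
          rwa [mul_inv_cancel_left] at this
    exact hk (congrArg Multiplicative.toAdd (show χ x = 1 from frattini_le_coatom hco hx))
  · haveI := hp.isNilpotent
    rw [← hcom]
    exact SolvStruct.commutator_le_frattini F.Q

namespace Cfg

variable {G : Type*} [Group G] [Finite G] {F : Frame G} (K : Cfg F)

/-- The configuration. -/
noncomputable def toLoc (R : Refl K) : Loc G where
  el := K.el
  el_add := K.el_add
  el_inj := K.el_inj
  cent_J _ h := K.cent_J h
  norm_sim := K.norm_sim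
  realise := K.realise
  fused := K.fused
  no_sig L hL h := K.no_sig L hL h
  Q := F.Q
  Q_card := F.card_Q
  Q_extra := extraspecial_Q F
  Q_exp _ hq := F.pow_three hq
  Q_le := by rw [K.el_e0]; exact F.Q_le
  Q_norm := by rw [K.el_e0]; exact F.normal
  Q_J _ := K.el_Q
  Q_centre x hx := by rw [K.el_e0]; exact F.toCore.centre x hx
  secant _ hv _ _ hgz hgv u := K.secant hv hgz hgv u
  tangent_core _ h3 hb := K.tangent_core h3 hb
  tangent _ h3 hb := K.tangent h3 hb
  t := R.t
  t_sq := R.t_sq
  t_act := R.t_act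
  P := R.P
  P_card := R.P_card
  P_le := R.P_le
  t_mem := R.t_mem
  P_invol := R.P_invol
  P_norm := R.P_norm
  P_comm := R.P_comm
  P_move := R.P_move
  cQt_card := R.cQt_card
  centT := R.centT
  centT_stab := R.centT_stab

end Cfg

end Cfsg.Agent.Co2Three.Local
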