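import Cfsg.Agent.Lib.Co2Three.Local.Faithful
import Mathlib.Combinatorics.Pigeonhole

/-!
S3336: two anticommuting involutions of the 2-core and a frame adapted to them.
-/

set_option autoImplicit false
set_option linter.style.haveILetI false
set_option linter.unusedSectionVars false

namespace Cfsg.Agent.Co2Three.Local

open Subgroup
open scoped commutatorElement
open Sp4 (sf Pres)

namespace Frame

variable {G : Type*} [Group G] [Finite G] (F : Frame G)

/-- The image of the 2-core. -/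
abbrev Rb : Subgroup (F.Cz ⧸ F.Qc) := F.Rc.map F.bar

theorem card_Rb : Nat.card F.Rb = 32 := by
  let g : F.Rc →* F.Rb := (F.bar.comp F.Rc.subtype).codRestrict F.Rb fun r => mem_map_of_mem F.bar r.2
  have hk : g.ker = F.Qc.subgroupOf F.Rc := by
    ext r
    rw [MonoidHom.mem_ker, mem_subgroupOf, Subtype.ext_iff]
    exact F.bar_eq_one
  have h := card_eq_card_quotient_mul_card_subgroup g.ker
  rw [Nat.card_congr (QuotientGroup.quotientKerEquivOfSurjective g (by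
      rintro ⟨_, r, hr, rfl⟩; exact ⟨⟨r, hr⟩, rfl⟩)).toEquiv, hk,
    Nat.card_congr (subgroupOfEquivOfLe (H := F.Qc) (K := F.Rc) fun q hq => F.Q_le_R hq).toEquiv,
    F.card_Qc, F.card_Rc] at h
  omega

theorem Rb_comm_cases {a b : F.Cz ⧸ F.Qc} (ha : a ∈ F.Rb) (hb : b ∈ F.Rb) :
    a * b = b * a ∨ a * b = F.bar F.tc * (b * a) := by
  obtain ⟨x, hx, rfl⟩ := ha
  obtain ⟨y, hy, rfl⟩ := hb
  rcases F.bracket_cases hx hy with h | h
  · exact Or.inl (commutatorElement_eq_one_iff_mul_comm.1 h)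
  · right; rw [← h, commutatorElement_def]; group

theorem Rb_sq_cases {a : F.Cz ⧸ F.Qc} (ha : a ∈ F.Rb) : a * a = 1 ∨ a * a = F.bar F.tc := by
  obtain ⟨x, hx, rfl⟩ := ha
  exact F.sq_cases hx

theorem Rb_center {a : F.Cz ⧸ F.Qc} (ha : a ∈ F.Rb) (h : ∀ b ∈ F.Rb, a * b = b * a) :
    a = 1 ∨ a = F.bar F.tc := by
  obtain ⟨x, hx, rfl⟩ := ha
  exact F.center_cases hx fun b hb => h _ (mem_map_of_mem F.bar hb)

theorem tau_mem : F.bar F.tc ∈ F.Rb := mem_map_of_mem F.bar F.tc_mem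

/-- Two anticommuting involutions. -/
theorem exists_pair_invol : ∃ a ∈ F.Rb, ∃ b ∈ F.Rb, a * a = 1 ∧ b * b = 1 ∧ b * a = F.bar F.tc * (a * b) := by
  classical
  set τ := F.bar F.tc with hτ
  haveI := Fintype.ofFinite F.Rb
  have htc : ∀ a ∈ F.Rb, a * τ = τ * a := fun a ha => by
    obtain ⟨x, hx, rfl⟩ := ha
    exact F.bar_tc_comm hx
  obtain ⟨a, ha, b, hb, hab⟩ : ∃ a ∈ F.Rb, ∃ b ∈ F.Rb, a * b ≠ b * a := by
    by_contra h
    push Not at h
    have hle : ∀ a : F.Rb, (a : F.Cz ⧸ F.Qc) = 1 ∨ (a : F.Cz ⧸ F.Qc) = τ := fun a => F.Rb_center a.2 (h a a.2)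
    have : Nat.card F.Rb ≤ 2 := by
      refine le_trans (Nat.card_le_card_of_injective (fun a : F.Rb => decide ((a : F.Cz ⧸ F.Qc) = 1)) ?_) (by simp)
      intro x y e
      have e' := decide_eq_decide.1 e
      refine Subtype.ext ?_
      rcases hle x with ex | ex <;> rcases hle y with ey | ey
      · rw [ex, ey]
      · rw [ex, e'.1 ex]
      · rw [e'.2 ey, ey]
      · rw [ex, ey]
    rw [F.card_Rb] at this
    omega
  have hab' : a * b = τ * (b * a) := (F.Rb_comm_cases ha hb).resolve_left hab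
  -- one involution that is not central
  obtain ⟨r, hr, hr2, u, hu, hru⟩ : ∃ r ∈ F.Rb, r * r = 1 ∧ ∃ u ∈ F.Rb, u * r = τ * (r * u) := by
    rcases F.Rb_sq_cases ha with a2 | a2
    · refine ⟨a, ha, a2, b, hb, ?_⟩
      rw [hab', ← mul_assoc τ, hτ, F.bar_tc_sq, one_mul]
    rcases F.Rb_sq_cases hb with b2 | b2
    · exact ⟨b, hb, b2, a, ha, hab'⟩
    -- an element commuting with both
    obtain ⟨c, hc, c1, c2, c3, c4⟩ : ∃ c ∈ F.Rb, c * a = a * c ∧ c * b = b * c ∧ c ≠ 1 ∧ c ≠ τ := by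
      obtain ⟨y, hy⟩ := Fintype.exists_lt_card_fiber_of_mul_lt_card (n := 2)
        (fun c : F.Rb => (decide ((c : F.Cz ⧸ F.Qc) * a = a * c), decide ((c : F.Cz ⧸ F.Qc) * b = b * c))) (by
          rw [← Nat.card_eq_fintype_card (α := F.Rb), F.card_Rb]
          simp)
      obtain ⟨x, z, w, hx, hz, hw, hxz, hxw, hzw⟩ := Finset.two_lt_card_iff.1 hy
      simp only [Finset.mem_filter, Finset.mem_univ, true_and] at hx hz hw
      have key : ∀ p q : F.Rb, (decide ((p : F.Cz ⧸ F.Qc) * a = a * p), decide ((p : F.Cz ⧸ F.Qc) * b = b * p)) =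
          (decide ((q : F.Cz ⧸ F.Qc) * a = a * q), decide ((q : F.Cz ⧸ F.Qc) * b = b * q)) →
          ∀ d ∈ F.Rb, d = a ∨ d = b → ((p⁻¹ * q : F.Rb) : F.Cz ⧸ F.Qc) * d = d * ((p⁻¹ * q : F.Rb) : F.Cz ⧸ F.Qc) := by
        intro p q e d hd hdd
        rw [Prod.mk.injEq, decide_eq_decide, decide_eq_decide] at e
        have e' : (p : F.Cz ⧸ F.Qc) * d = d * p ↔ (q : F.Cz ⧸ F.Qc) * d = d * q := by
          rcases hdd with rfl | rfl
          exacts [e.1, e.2]
        rw [Subgroup.coe_mul, Subgroup.coe_inv]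
        by_cases hp : (p : F.Cz ⧸ F.Qc) * d = d * p
        · exact ((show Commute (p : F.Cz ⧸ F.Qc) d from hp).inv_left.mul_left (e'.1 hp)).eq
        · have p1 := (F.Rb_comm_cases p.2 hd).resolve_left hp
          have q1 := (F.Rb_comm_cases q.2 hd).resolve_left fun h => hp (e'.2 h)
          have hdp : d * (p : F.Cz ⧸ F.Qc)⁻¹ = τ * (p : F.Cz ⧸ F.Qc)⁻¹ * d := by
            calc d * (p : F.Cz ⧸ F.Qc)⁻¹ = (p : F.Cz ⧸ F.Qc)⁻¹ * ((p : F.Cz ⧸ F.Qc) * d) * (p : F.Cz ⧸ F.Qc)⁻¹ := by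
                  group
              _ = (p : F.Cz ⧸ F.Qc)⁻¹ * τ * d := by rw [p1, hτ]; group
              _ = _ := by rw [(show Commute (p : F.Cz ⧸ F.Qc) τ from htc _ p.2).inv_left.eq]
          calc (p : F.Cz ⧸ F.Qc)⁻¹ * q * d = (p : F.Cz ⧸ F.Qc)⁻¹ * τ * d * q := by rw [mul_assoc, q1, hτ]; group
            _ = τ * (p : F.Cz ⧸ F.Qc)⁻¹ * d * q := by
                rw [(show Commute (p : F.Cz ⧸ F.Qc) τ from htc _ p.2).inv_left.eq]
            _ = _ := by rw [← hdp, mul_assoc]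
      by_cases h : ((x⁻¹ * z : F.Rb) : F.Cz ⧸ F.Qc) = τ
      · refine ⟨_, (x⁻¹ * w).2, key x w (hx.trans hw.symm) a ha (Or.inl rfl),
          key x w (hx.trans hw.symm) b hb (Or.inr rfl), fun e => hxw ?_, fun e => hzw ?_⟩
        · exact inv_mul_eq_one.1 (Subtype.ext e)
        · exact mul_left_cancel (Subtype.ext (h.trans e.symm) : x⁻¹ * z = x⁻¹ * w)
      · refine ⟨_, (x⁻¹ * z).2, key x z (hx.trans hz.symm) a ha (Or.inl rfl),
          key x z (hx.trans hz.symm) b hb (Or.inr rfl), fun e => hxz ?_, h⟩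
        exact inv_mul_eq_one.1 (Subtype.ext e)
    rcases F.Rb_sq_cases hc with s2 | s2
    · obtain ⟨d, hd, hcd⟩ : ∃ d ∈ F.Rb, c * d ≠ d * c := by
        by_contra h
        push Not at h
        exact (F.Rb_center hc h).elim c3 c4
      refine ⟨c, hc, s2, d, hd, ?_⟩
      rw [(F.Rb_comm_cases hc hd).resolve_left hcd, ← mul_assoc τ, hτ, F.bar_tc_sq, one_mul]
    · refine ⟨a * c, mul_mem ha hc, ?_, b, hb, ?_⟩
      · rw [show a * c * (a * c) = a * (c * a) * c by group, c1, show a * (a * c) * c = a * a * (c * c) by group,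
          a2, s2, F.bar_tc_sq]
      · rw [show τ * (a * c * b) = τ * (a * (c * b)) by group, c2, ← mul_assoc a, hab', ← mul_assoc τ,
          ← mul_assoc τ τ, hτ, F.bar_tc_sq, one_mul, mul_assoc]
  rcases F.Rb_sq_cases hu with u2 | u2
  · exact ⟨r, hr, u, hu, hr2, u2, hru⟩
  · refine ⟨r, hr, r * u, mul_mem hr hu, hr2, ?_, ?_⟩
    · rw [show r * u * (r * u) = r * (u * r) * u by group, hru, ← mul_assoc r τ, htc r hr,
        show τ * r * (r * u) * u = τ * (r * r) * (u * u) by group, hr2, u2, mul_one, hτ, F.bar_tc_sq]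
    · rw [mul_assoc, hru, ← mul_assoc r τ, htc r hr]
      group

/-- A frame in which the two involutions have standard form. -/
theorem exists_adapted : ∃ F' : Frame G, F'.toExt = F.toExt ∧ ∃ ρ σ : F'.Cz, ρ ∈ F'.Rc ∧ σ ∈ F'.Rc ∧
    (∀ v, F'.act ρ v = ![v 0, -v 1, v 2, -v 3]) ∧ (∀ v, F'.act σ v = ![v 1, v 0, v 3, v 2]) := by
  obtain ⟨_, ⟨ρ, hρ, rfl⟩, _, ⟨σ, hσ, rfl⟩, r2, s2, hsr⟩ := F.exists_pair_invol
  have hu2 : ∀ v, F.act ρ (F.act ρ v) = v := fun v => by
    rw [← F.act_mul, F.act_bar (d := 1) (by rw [map_mul, map_one, r2]), F.act_one]; rfl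
  have hw2 : ∀ v, F.act σ (F.act σ v) = v := fun v => by
    rw [← F.act_mul, F.act_bar (d := 1) (by rw [map_mul, map_one, s2]), F.act_one]; rfl
  have hanti : ∀ v, F.act σ (F.act ρ v) = -F.act ρ (F.act σ v) := fun v => by
    rw [← F.act_mul, F.act_bar (c := σ * ρ) (d := F.tc * (ρ * σ)) (by simp only [map_mul]; exact hsr),
      F.act_mul, F.act_tc, F.act_mul]
  set u := F.act ρ with hu
  set w := F.act σ with hw
  have hne : ∀ v : V4, -v = v → v = 0 := fun v h => by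
    rw [← Sp4.half v]
    nth_rw 1 [← h]
    simp
  -- a symplectic pair in the fixed plane
  obtain ⟨p, hp, hp0⟩ : ∃ p ∈ Sp4.fixed u, p ≠ 0 := by
    by_contra h
    push Not at h
    have hneg : ∀ v, u v = -v := fun v => by
      obtain ⟨p, hp, q, hq, rfl⟩ := Sp4.split hu2 v
      rw [h p hp, zero_add]
      exact Sp4.mem_fixed_neg.1 hq
    have := hanti (Pi.single 0 1)
    rw [hneg, hneg, map_neg, neg_neg] at this
    have h0 := congrArg w (hne _ this)
    rw [hw2, map_zero] at h0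
    exact absurd (congrFun h0 0) (by simp)
  obtain ⟨q0, hq0, hpq⟩ := Sp4.exists_pair hu2 (F.act_pres ρ) hp hp0
  set q := sf p q0 • q0 with hq'
  have hq : q ∈ Sp4.fixed u := ZMod.smul_mem hq0 _
  have hpq1 : sf p q = 1 := by
    rw [hq', Sp4.sf_smul_right]
    exact (by decide : ∀ c : ZMod 3, c ≠ 0 → c * c = 1) _ hpq
  have hmv : ∀ {x}, x ∈ Sp4.fixed u → w x ∈ Sp4.fixed (-u) := fun {x} hx => by
    have := hanti x
    rw [Sp4.mem_fixed.1 hx] at this
    exact Sp4.mem_fixed_neg.2 (neg_eq_iff_eq_neg.1 this.symm)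
  have o : ∀ {x y}, x ∈ Sp4.fixed u → y ∈ Sp4.fixed u → F.lam (F.lift x) (F.lift (w y)) = 0 := fun {x y} hx hy => by
    rw [F.sf_crd']
    exact Sp4.orth (F.act_pres ρ) hx (hmv hy)
  let F' : Frame G :=
    { toExt := F.toExt, a1 := F.lift p, a2 := F.lift (w p), b1 := F.lift q, b2 := F.lift (w q)
      a1_mem := F.lift_mem p, a2_mem := F.lift_mem _, b1_mem := F.lift_mem q, b2_mem := F.lift_mem _
      l11 := by rw [F.sf_crd', hpq1]
      l22 := by rw [F.sf_crd', F.act_pres σ, hpq1]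
      l12 := o hp hq
      l21 := by rw [F.lam_skew (F.lift_mem _) (F.lift_mem _), o hq hp, neg_zero]
      laa := o hp hp
      lbb := o hq hq }
  refine ⟨F', rfl, ρ, σ, hρ, hσ, ?_⟩
  let φ : V4 →+ V4 := AddMonoidHom.mk' (fun v => F.crd (F'.lift v)) fun x y => by
    rw [← F.crd_mul (F'.lift_mem x) (F'.lift_mem y)]
    obtain ⟨d, hd, e⟩ := F'.decomp (mul_mem (F'.lift_mem x) (F'.lift_mem y))
    rw [F'.crd_mul (F'.lift_mem x) (F'.lift_mem y), F'.crd_lift, F'.crd_lift] at e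
    rw [e, F.crd_mul (F'.lift_mem _) (F'.Z_le_Q hd), F.crd_Z hd, add_zero]
  have hφ : ∀ v, φ v = v 0 • p + v 1 • w p + (v 2 • q + v 3 • w q) := fun v => by
    have hsn : ∀ (n : ℕ) (x : V4), F.crd (F.lift x ^ n) = n • x := fun n x => by
      induction n with
      | zero => simp [F.crd_one]
      | succ n ih => rw [pow_succ, F.crd_mul (pow_mem (F.lift_mem x) n) (F.lift_mem x), ih, F.crd_lift, succ_nsmul]
    show F.crd (F.lift p ^ (v 0).val * F.lift (w p) ^ (v 1).val * F.lift q ^ (v 2).val * F.lift (w q) ^ (v 3).val) = _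
    have hm := fun x n => pow_mem (F.lift_mem x) n
    rw [F.crd_mul (mul_mem (mul_mem (hm _ _) (hm _ _)) (hm _ _)) (hm _ _),
      F.crd_mul (mul_mem (hm _ _) (hm _ _)) (hm _ _), F.crd_mul (hm _ _) (hm _ _), hsn, hsn, hsn, hsn]
    have hz : ∀ (c : ZMod 3) (x : V4), c.val • x = c • x := fun c x => by
      rw [← Nat.cast_smul_eq_nsmul (ZMod 3), ZMod.natCast_zmod_val]
    rw [hz, hz, hz, hz]
    abel
  have hinj : Function.Injective φ := fun x y h => by
    have h' := (F.crd_eq_iff (F'.lift_mem x) (F'.lift_mem y)).1 h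
    have := (F'.crd_eq_iff (F'.lift_mem x) (F'.lift_mem y)).2 h'
    rwa [F'.crd_lift, F'.crd_lift] at this
  have hconj : ∀ (c : F.Cz) v, φ (F'.act c v) = F.act c (φ v) := fun c v => by
    have hm : (c : G) * F'.lift v * (c : G)⁻¹ ∈ F.Q := F.normal _ c.2 _ (F'.lift_mem v)
    show F.crd (F'.lift (F'.crd ((c : G) * F'.lift v * (c : G)⁻¹))) = F.act c (F.crd (F'.lift v))
    rw [F.act_crd c (F'.lift_mem v)]
    exact (F.crd_eq_iff (F'.lift_mem _) hm).2 ((F'.crd_eq_iff (F'.lift_mem _) hm).1 (F'.crd_lift _))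
  have hup := Sp4.mem_fixed.1 hp
  have huq := Sp4.mem_fixed.1 hq
  have huwp := Sp4.mem_fixed_neg.1 (hmv hp)
  have huwq := Sp4.mem_fixed_neg.1 (hmv hq)
  constructor
  · intro v
    apply hinj
    rw [hconj, hφ, hφ, ← hu]
    simp only [map_add, ZMod.map_smul, hup, huq, huwp, huwq, smul_neg]
    simp
  · intro v
    apply hinj
    rw [hconj, hφ, hφ, ← hw]
    simp only [map_add, ZMod.map_smul, hw2]
    simp
    abel

end Frame

end Cfsg.Agent.Co2Three.Local
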