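import Cfsg.Agent.Lib.Co2Three.Local.Model
import Mathlib.Tactic.LinearCombination

/-!
S3336: further checks and the linear map of a code.
-/

set_option autoImplicit false
set_option maxRecDepth 100000
set_option maxHeartbeats 800000

namespace Cfsg.Agent.Co2Three.Sp4

/-- A tensor product with the identity on the second factor. -/
def kronI (x y z w : ℕ) : ℕ := pk4 (v4 x 0 y 0) (v4 0 x 0 y) (v4 z 0 w 0) (v4 0 z 0 w)

theorem kron_ok : ((List.range 3).all fun x => (List.range 3).all fun y => (List.range 3).all fun z =>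
    (List.range 3).all fun w => !(isSp (kronI x y z w)) ||
      !(Nat.beq (mm (kronI x y z w) (kronI x y z w)) c1 || Nat.beq (mm (kronI x y z w) (kronI x y z w)) cm) ||
      R0.contains (kronI x y z w)) = true := by decide +kernel

theorem R0_mul : (R0.all fun a => R0.contains (mm cr a) && R0.contains (mm cs a)) = true ∧
    Nat.beq cr 28757350 = true ∧ Nat.beq cs 4960200 = true := by decide +kernel

theorem hs_norm : (hs.all fun p => R0.all fun b => R0.any fun b' => Nat.beq (mm b' p.2.2) (mm p.2.2 b)) = true := by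
  decide +kernel

theorem ups_norm : (ups.all fun p => R0.all fun b => R0.any fun b' => Nat.beq (mm b' p.2) (mm p.2 b)) = true := by
  decide +kernel

theorem blk_comm : (blk.all fun g => Nat.beq (mm g cr) (mm cr g) && Nat.blt g (81 ^ 4)) = true ∧
    (ups.all fun p => Nat.beq (mm p.2 cr) (mm cr p.2) && Nat.blt p.2 (81 ^ 4)) = true ∧
    (hs.all fun p => Nat.blt p.2.1 (81 ^ 4) && Nat.blt p.2.2 (81 ^ 4) && Nat.blt p.1 (81 ^ 4)) = true ∧
    (R0.all fun g => Nat.blt g (81 ^ 4)) = true ∧ (gens.all fun g => Nat.blt g (81 ^ 4)) = true := by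
  decide +kernel

/-- The linear map of a code. -/
def lin (g : ℕ) : V4 →+ V4 :=
  AddMonoidHom.mk' (fun v => (v 0 • dv (col g 0) + v 1 • dv (col g 1)) + (v 2 • dv (col g 2) + v 3 • dv (col g 3)))
    fun u v => by simp only [Pi.add_apply, add_smul]; abel

theorem lin_apply (g : ℕ) (v : V4) :
    lin g v = (v 0 • dv (col g 0) + v 1 • dv (col g 1)) + (v 2 • dv (col g 2) + v 3 • dv (col g 3)) := rfl

theorem code_lin {g : ℕ} (h : g < 81 ^ 4) : code (lin g) = g := by
  have h0 : lin g (Pi.single 0 1) = dv (col g 0) := by simp [lin_apply]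
  have h1 : lin g (Pi.single 1 1) = dv (col g 1) := by simp [lin_apply]
  have h2 : lin g (Pi.single 2 1) = dv (col g 2) := by simp [lin_apply]
  have h3 : lin g (Pi.single 3 1) = dv (col g 3) := by simp [lin_apply]
  rw [code, h0, h1, h2, h3, vc_dv (col_lt _ _), vc_dv (col_lt _ _), vc_dv (col_lt _ _), vc_dv (col_lt _ _)]
  simp only [pk4, col]
  omega

theorem code_mul (f g : V4 →+ V4) : code (f.comp g) = mm (code f) (code g) := code_comp f g

theorem pres_lin {g : ℕ} (hg : g < 81 ^ 4) (h : isSp g = true) (u v : V4) : sf (lin g u) (lin g v) = sf u v := by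
  have key : ∀ i j : Fin 4, sf (lin g (Pi.single i 1)) (lin g (Pi.single j 1)) = sf (Pi.single i 1) (Pi.single j 1) := by
    intro i j
    apply ZMod.val_injective 3
    rw [sf_om, sf_om, ap_code, ap_code, code_lin hg]
    obtain ⟨b0, b1, b2, b3⟩ := vc_single
    have h' : ∀ u ∈ bas, ∀ v ∈ bas, om (ap g u) (ap g v) = om u v := by
      simpa [isSp, List.all_eq_true] using h
    have hb : ∀ k : Fin 4, vc (Pi.single k 1) ∈ bas := by
      intro k
      fin_cases k
      · rw [show vc (Pi.single (⟨0, by norm_num⟩ : Fin 4) 1) = 1 from b0]; simp [bas]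
      · rw [show vc (Pi.single (⟨1, by norm_num⟩ : Fin 4) 1) = 3 from b1]; simp [bas]
      · rw [show vc (Pi.single (⟨2, by norm_num⟩ : Fin 4) 1) = 9 from b2]; simp [bas]
      · rw [show vc (Pi.single (⟨3, by norm_num⟩ : Fin 4) 1) = 27 from b3]; simp [bas]
    exact h' _ (hb i) _ (hb j)
  conv_lhs => rw [v4_decomp u, v4_decomp v]
  simp only [map_add, ZMod.map_smul]
  have e : ∀ a b : V4, sf a b = a 0 * b 2 + a 1 * b 3 - a 2 * b 0 - a 3 * b 1 := fun a b => rfl
  have k00 := key 0 0; have k01 := key 0 1; have k02 := key 0 2; have k03 := key 0 3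
  have k10 := key 1 0; have k11 := key 1 1; have k12 := key 1 2; have k13 := key 1 3
  have k20 := key 2 0; have k21 := key 2 1; have k22 := key 2 2; have k23 := key 2 3
  have k30 := key 3 0; have k31 := key 3 1; have k32 := key 3 2; have k33 := key 3 3
  simp [e] at k00 k01 k02 k03 k10 k11 k12 k13 k20 k21 k22 k23 k30 k31 k32 k33 ⊢
  linear_combination (u 0 * v 0) * k00 + (u 0 * v 1) * k01 + (u 0 * v 2) * k02 + (u 0 * v 3) * k03 +
    (u 1 * v 0) * k10 + (u 1 * v 1) * k11 + (u 1 * v 2) * k12 + (u 1 * v 3) * k13 +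
    (u 2 * v 0) * k20 + (u 2 * v 1) * k21 + (u 2 * v 2) * k22 + (u 2 * v 3) * k23 +
    (u 3 * v 0) * k30 + (u 3 * v 1) * k31 + (u 3 * v 2) * k32 + (u 3 * v 3) * k33

end Cfsg.Agent.Co2Three.Sp4
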