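import Mathlib.Data.ZMod.Basic
import Mathlib.Tactic.IntervalCases
import Mathlib.Algebra.Module.ZMod
import Cfsg.Agent.Lib.Co2Three.Defs

/-!
S3336: vectors and matrices of dimension four over three elements as natural numbers.
-/

set_option autoImplicit false
set_option maxRecDepth 100000

namespace Cfsg.Agent.Co2Three.Sp4

/-- A digit. -/
def dg (v k : ℕ) : ℕ := v / 3 ^ k % 3

/-- Four digits. -/
def v4 (a b c d : ℕ) : ℕ := a % 3 + 3 * (b % 3 + 3 * (c % 3 + 3 * (d % 3)))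

/-- Addition. -/
def vadd (u v : ℕ) : ℕ := v4 (dg u 0 + dg v 0) (dg u 1 + dg v 1) (dg u 2 + dg v 2) (dg u 3 + dg v 3)

/-- Multiplication by a scalar. -/
def vsm (c v : ℕ) : ℕ := v4 (c * dg v 0) (c * dg v 1) (c * dg v 2) (c * dg v 3)

/-- The alternating form. -/
def om (u v : ℕ) : ℕ := (dg u 0 * dg v 2 + dg u 1 * dg v 3 + 2 * (dg u 2 * dg v 0) + 2 * (dg u 3 * dg v 1)) % 3

/-- An image of a basis vector. -/
def col (g k : ℕ) : ℕ := g / 81 ^ k % 81

/-- Packing. -/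
def pk4 (a b c d : ℕ) : ℕ := a + 81 * (b + 81 * (c + 81 * d))

/-- Application. -/
def ap (g v : ℕ) : ℕ :=
  vadd (vadd (vsm (dg v 0) (col g 0)) (vsm (dg v 1) (col g 1)))
    (vadd (vsm (dg v 2) (col g 2)) (vsm (dg v 3) (col g 3)))

/-- Product. -/
def mm (g h : ℕ) : ℕ := pk4 (ap g (col h 0)) (ap g (col h 1)) (ap g (col h 2)) (ap g (col h 3))

/-- Identity. -/
def c1 : ℕ := pk4 1 3 9 27

/-- The element of order three. -/
def cx : ℕ := pk4 1 3 10 30

/-- The code of a vector. -/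
def vc (v : V4) : ℕ := (v 0).val + 3 * ((v 1).val + 3 * ((v 2).val + 3 * (v 3).val))

/-- The vector of a code. -/
def dv (n : ℕ) : V4 := fun k => (dg n k.val : ZMod 3)

theorem dg_lt (v k : ℕ) : dg v k < 3 := Nat.mod_lt _ (by norm_num)

theorem col_lt (g k : ℕ) : col g k < 81 := Nat.mod_lt _ (by norm_num)

theorem v4_lt (a b c d : ℕ) : v4 a b c d < 81 := by
  unfold v4
  omega

theorem vc_lt (v : V4) : vc v < 81 := by
  have h0 := (v 0).val_lt; have h1 := (v 1).val_lt; have h2 := (v 2).val_lt; have h3 := (v 3).val_lt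
  unfold vc
  omega

theorem dg_v4 (a b c d : ℕ) : dg (v4 a b c d) 0 = a % 3 ∧ dg (v4 a b c d) 1 = b % 3 ∧
    dg (v4 a b c d) 2 = c % 3 ∧ dg (v4 a b c d) 3 = d % 3 := by
  simp only [dg, v4]
  omega

theorem dg_vc (v : V4) : dg (vc v) 0 = (v 0).val ∧ dg (vc v) 1 = (v 1).val ∧
    dg (vc v) 2 = (v 2).val ∧ dg (vc v) 3 = (v 3).val := by
  have h0 := (v 0).val_lt; have h1 := (v 1).val_lt; have h2 := (v 2).val_lt; have h3 := (v 3).val_lt
  simp only [dg, vc]
  omega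

theorem vc_eq_v4 (v : V4) : vc v = v4 (v 0).val (v 1).val (v 2).val (v 3).val := by
  have h0 := (v 0).val_lt; have h1 := (v 1).val_lt; have h2 := (v 2).val_lt; have h3 := (v 3).val_lt
  simp only [vc, v4]
  omega

theorem vc_add (u v : V4) : vc (u + v) = vadd (vc u) (vc v) := by
  obtain ⟨a0, a1, a2, a3⟩ := dg_vc u
  obtain ⟨b0, b1, b2, b3⟩ := dg_vc v
  rw [vadd, a0, a1, a2, a3, b0, b1, b2, b3, vc_eq_v4, v4, v4]
  simp only [Pi.add_apply, ZMod.val_add]
  omega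

theorem vc_smul (c : ZMod 3) (v : V4) : vc (c • v) = vsm c.val (vc v) := by
  obtain ⟨b0, b1, b2, b3⟩ := dg_vc v
  rw [vsm, b0, b1, b2, b3, vc_eq_v4, v4, v4]
  simp only [Pi.smul_apply, smul_eq_mul, ZMod.val_mul]
  omega

theorem vc_inj : Function.Injective vc := by
  intro u v h
  obtain ⟨a0, a1, a2, a3⟩ := dg_vc u
  obtain ⟨b0, b1, b2, b3⟩ := dg_vc v
  rw [h] at a0 a1 a2 a3
  funext k
  refine ZMod.val_injective 3 ?_
  fin_cases k <;> simp_all

theorem vc_dv {n : ℕ} (h : n < 81) : vc (dv n) = n := by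
  simp only [vc, dv, dg, ZMod.val_natCast]
  simp
  omega

theorem vc_zero : vc 0 = 0 := by decide

theorem vc_single : vc (Pi.single 0 1) = 1 ∧ vc (Pi.single 1 1) = 3 ∧ vc (Pi.single 2 1) = 9 ∧
    vc (Pi.single 3 1) = 27 := by decide

theorem col_pk4 {a b c d : ℕ} (ha : a < 81) (hb : b < 81) (hc : c < 81) (hd : d < 81) :
    col (pk4 a b c d) 0 = a ∧ col (pk4 a b c d) 1 = b ∧ col (pk4 a b c d) 2 = c ∧ col (pk4 a b c d) 3 = d := by
  simp only [col, pk4]
  omega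

/-- The code of a linear map. -/
def code (f : V4 → V4) : ℕ :=
  pk4 (vc (f (Pi.single 0 1))) (vc (f (Pi.single 1 1))) (vc (f (Pi.single 2 1))) (vc (f (Pi.single 3 1)))

theorem code_lt (f : V4 → V4) : code f < 81 ^ 4 := by
  have h0 := vc_lt (f (Pi.single 0 1)); have h1 := vc_lt (f (Pi.single 1 1))
  have h2 := vc_lt (f (Pi.single 2 1)); have h3 := vc_lt (f (Pi.single 3 1))
  simp only [code, pk4]
  omega

theorem col_code (f : V4 → V4) : col (code f) 0 = vc (f (Pi.single 0 1)) ∧ col (code f) 1 = vc (f (Pi.single 1 1)) ∧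
    col (code f) 2 = vc (f (Pi.single 2 1)) ∧ col (code f) 3 = vc (f (Pi.single 3 1)) :=
  col_pk4 (vc_lt _) (vc_lt _) (vc_lt _) (vc_lt _)

theorem v4_decomp (v : V4) : v = (v 0 • Pi.single 0 1 + v 1 • Pi.single 1 1) +
    (v 2 • Pi.single 2 1 + v 3 • Pi.single 3 1) := by
  funext k
  fin_cases k <;> simp

/-- A linear map is the application of its code. -/
theorem ap_code (f : V4 →+ V4) (v : V4) : vc (f v) = ap (code f) (vc v) := by
  have hs : ∀ (c : ZMod 3) (u : V4), f (c • u) = c • f u := fun c u => ZMod.map_smul f c u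
  conv_lhs => rw [v4_decomp v]
  obtain ⟨c0, c1, c2, c3⟩ := col_code f
  obtain ⟨a0, a1, a2, a3⟩ := dg_vc v
  rw [map_add, map_add, map_add, hs, hs, hs, hs, vc_add, vc_add, vc_add, vc_smul, vc_smul, vc_smul, vc_smul,
    ap, c0, c1, c2, c3, a0, a1, a2, a3]

theorem code_comp (f g : V4 →+ V4) : code (f ∘ g) = mm (code f) (code g) := by
  obtain ⟨c0, c1, c2, c3⟩ := col_code g
  rw [mm, c0, c1, c2, c3, ← ap_code, ← ap_code, ← ap_code, ← ap_code]
  rfl

theorem code_inj (f g : V4 →+ V4) (h : code f = code g) : f = g :=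
  AddMonoidHom.ext fun v => vc_inj (by rw [ap_code, ap_code, h])

theorem code_id : code (id : V4 → V4) = c1 := by decide

/-- The symplectic form. -/
def sf (u v : V4) : ZMod 3 := u 0 * v 2 + u 1 * v 3 - u 2 * v 0 - u 3 * v 1

theorem sf_om (u v : V4) : (sf u v).val = om (vc u) (vc v) := by
  obtain ⟨a0, a1, a2, a3⟩ := dg_vc u
  obtain ⟨b0, b1, b2, b3⟩ := dg_vc v
  rw [om, a0, a1, a2, a3, b0, b1, b2, b3, sf]
  have e : u 0 * v 2 + u 1 * v 3 - u 2 * v 0 - u 3 * v 1 =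
      ((u 0).val * (v 2).val + (u 1).val * (v 3).val + 2 * ((u 2).val * (v 0).val) +
        2 * ((u 3).val * (v 1).val) : ℕ) := by
    push_cast
    simp only [ZMod.natCast_zmod_val]
    rw [show (2 : ZMod 3) = -1 from rfl]
    ring
  rw [e, ZMod.val_natCast]

end Cfsg.Agent.Co2Three.Sp4
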