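import Cfsg.Agent.Lib.Co2Three.Local.Pair

/-!
S3336: the elementary abelian subgroup of order 81, its coordinates and the conjugates of the central element in it.
-/

set_option autoImplicit false
set_option linter.style.haveILetI false
set_option linter.unusedSectionVars false

namespace Cfsg.Agent.Co2Three.Local

open Subgroup
open scoped commutatorElement
open Sp4 (sf X code mm lin c1 cx Ns)

theorem pw_add {G : Type*} [Group G] {a : G} (h : a ^ 3 = 1) (j k : ZMod 3) :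
    a ^ (j + k).val = a ^ j.val * a ^ k.val := by
  rw [← pow_add, ZMod.val_add]
  conv_rhs => rw [← Nat.div_add_mod (j.val + k.val) 3, pow_add, pow_mul, h, one_pow, one_mul]

/-- The translation with given parameters. -/
def Frame.trq {G : Type*} [Group G] [Finite G] (F : Frame G) (a b : ZMod 3) : G := F.lift ![0, 0, a, b]

/-- The map of a translation. -/
def tr (a b : ZMod 3) (v : V4) : V4 :=
  ![v 0 - a * v 1 - b * v 2 + (a * a + b * b) * v 3, v 1 + a * v 3, v 2 + b * v 3, v 3]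

/-- The standard configuration. -/
structure Cfg {G : Type*} [Group G] [Finite G] (F : Frame G) where
  /-- the two involutions -/
  S : Std F
  /-- the conjugate -/
  P : Pr F
  hx : F.im P.yc = cx
  /-- first vector -/
  f1 : G
  /-- second vector -/
  f2 : G
  f1_Q : f1 ∈ F.Q
  f2_Q : f2 ∈ F.Q
  f1_crd : F.crd f1 = Pi.single 0 1
  f2_crd : F.crd f2 = Pi.single 1 1
  f1_bk : P.bk f1 ∈ F.Q
  f2_bk : P.bk f2 ∈ F.Q

theorem exists_cfg {G : Type*} [Group G] [Finite G] (D : Ext G) :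
    ∃ F : Frame G, F.toExt = D ∧ Nonempty (Cfg F) := by
  obtain ⟨F, rfl, ⟨S⟩⟩ := exists_std D
  obtain ⟨g, hg, hgz⟩ := F.nwc
  let P0 : Pr F := ⟨g * F.z * g⁻¹, g, rfl, F.S_le hg, hgz⟩
  obtain ⟨h, hh⟩ := P0.exists_std_conj S
  set P := P0.conj h
  have key : ∀ e : V4, X e = e → ∃ c ∈ F.Q, F.crd c = e ∧ P.bk c ∈ F.Q := fun e he => by
    have hfix : F.act P.yc (F.crd (F.lift e)) = F.crd (F.lift e) := by rw [F.crd_lift, P.act_std hh, he]
    obtain ⟨i, hi⟩ := P.exists_shift S (F.lift_mem e) (P.cent_fixed S (F.lift_mem e) hfix).symm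
    have hz : (F.z ^ i)⁻¹ ∈ zpowers F.z := inv_mem (pow_mem (mem_zpowers _) i)
    exact ⟨_, mul_mem (F.lift_mem e) (F.Z_le_Q hz), by
      rw [F.crd_mul (F.lift_mem e) (F.Z_le_Q hz), F.crd_Z hz, add_zero, F.crd_lift], hi⟩
  obtain ⟨a, ha, ha', ha''⟩ := key (Pi.single 0 1) (by decide)
  obtain ⟨b, hb, hb', hb''⟩ := key (Pi.single 1 1) (by decide)
  exact ⟨F, rfl, ⟨⟨S, P, hh, a, b, ha, hb, ha', hb', ha'', hb''⟩⟩⟩

namespace Cfg

variable {G : Type*} [Group G] [Finite G] {F : Frame G} (K : Cfg F)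
include K

/-- The coordinates. -/
def el (v : V4) : G := F.zk (v 0) * K.f1 ^ (v 1).val * K.f2 ^ (v 2).val * (K.P.y ^ 2) ^ (v 3).val

theorem act_y (v : V4) : F.act K.P.yc v = X v := K.P.act_std K.hx v

theorem y_not : K.P.y ∉ F.Q := K.P.not_Q K.S

theorem comm_fix {c : G} (hc : c ∈ F.Q) (h : F.crd c 2 = 0 ∧ F.crd c 3 = 0) : Commute K.P.y c :=
  K.P.cent_fixed K.S hc (by rw [K.act_y, (Sp4.fix_X _).2 h])

theorem f1_y : Commute K.P.y K.f1 := K.comm_fix K.f1_Q (by rw [K.f1_crd]; decide)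

theorem f2_y : Commute K.P.y K.f2 := K.comm_fix K.f2_Q (by rw [K.f2_crd]; decide)

theorem f12 : Commute K.f1 K.f2 := by
  refine commutatorElement_eq_one_iff_commute.1 ?_
  rw [← F.lam_spec K.f1_Q K.f2_Q, ← F.sf_crd K.f1_Q K.f2_Q, K.f1_crd, K.f2_crd,
    show sf (Pi.single 0 1) (Pi.single 1 1) = 0 by decide, F.zk_zero]

theorem el_add (u v : V4) : K.el (u + v) = K.el u * K.el v := by
  have hY3 : (K.P.y ^ 2) ^ 3 = 1 := by rw [← pow_mul, mul_comm, pow_mul, K.P.y3, one_pow]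
  simp only [el, Pi.add_apply, pw_add (F.pow_three K.f1_Q), pw_add (F.pow_three K.f2_Q), pw_add hY3, F.zk_add]
  have cz : ∀ {a : G}, a ∈ F.Cz → ∀ k, Commute a (F.zk k) := fun ha k => F.commute_Z ha (F.zk_mem k)
  set A := F.zk (u 0); set A' := F.zk (v 0)
  set B := K.f1 ^ (u 1).val; set B' := K.f1 ^ (v 1).val
  set C := K.f2 ^ (u 2).val; set C' := K.f2 ^ (v 2).val
  set D := (K.P.y ^ 2) ^ (u 3).val; set D' := (K.P.y ^ 2) ^ (v 3).val
  have h1 : Commute B A' := cz (pow_mem (F.Q_le K.f1_Q) _) _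
  have h2 : Commute C A' := cz (pow_mem (F.Q_le K.f2_Q) _) _
  have h3 : Commute D A' := cz (pow_mem (pow_mem K.P.mem _) _) _
  have h4 : Commute C B' := (K.f12.pow_pow _ _).symm
  have h5 : Commute D B' := (K.f1_y.pow_left 2).pow_pow _ _
  have h6 : Commute D C' := (K.f2_y.pow_left 2).pow_pow _ _
  calc A * A' * (B * B') * (C * C') * (D * D') = A * (A' * B) * (B' * C) * (C' * D) * D' := by group
    _ = A * (B * A') * (C * B') * (D * C') * D' := by rw [h1.eq, h4.eq, h6.eq]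
    _ = A * B * (A' * C) * (B' * D) * C' * D' := by group
    _ = A * B * (C * A') * (D * B') * C' * D' := by rw [h2.eq, h5.eq]
    _ = A * B * C * (A' * D) * B' * C' * D' := by group
    _ = A * B * C * (D * A') * B' * C' * D' := by rw [h3.eq]
    _ = _ := by group

theorem el_zero : K.el 0 = 1 := by simp [el, F.zk_zero]

theorem el_neg (v : V4) : K.el (-v) = (K.el v)⁻¹ :=
  eq_inv_of_mul_eq_one_left (by rw [← el_add, neg_add_cancel, el_zero])

theorem el_smul (a : ZMod 3) (v : V4) : K.el (a • v) = K.el v ^ a.val := by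
  rcases (by decide : ∀ a : ZMod 3, a = 0 ∨ a = 1 ∨ a = 2) a with rfl | rfl | rfl
  · rw [zero_smul, el_zero]; simp
  · rw [one_smul, show (1 : ZMod 3).val = 1 from rfl, pow_one]
  · rw [show (2 : ZMod 3) = 1 + 1 from rfl, add_smul, one_smul, el_add, show ((1 : ZMod 3) + 1).val = 2 from rfl,
      pow_two]

theorem el_commute (u v : V4) : Commute (K.el u) (K.el v) := by
  show _ * _ = _ * _
  rw [← el_add, ← el_add, add_comm]

theorem el_e0 : K.el e0 = F.z := by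
  simp [el, e0, F.zk_one]

theorem el_e1 : K.el e1 = K.f1 := by simp [el, e1, F.zk_zero, show (1 : ZMod 3).val = 1 from rfl]

theorem el_e2 : K.el e2 = K.f2 := by simp [el, e2, F.zk_zero, show (1 : ZMod 3).val = 1 from rfl]

theorem el_e3 : K.el e3 = K.P.y ^ 2 := by simp [el, e3, F.zk_zero, show (1 : ZMod 3).val = 1 from rfl]

theorem el_mem (v : V4) : K.el v ∈ F.Cz :=
  mul_mem (mul_mem (mul_mem (F.Q_le (F.Z_le_Q (F.zk_mem _))) (pow_mem (F.Q_le K.f1_Q) _))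
    (pow_mem (F.Q_le K.f2_Q) _)) (pow_mem (pow_mem K.P.mem _) _)

theorem el_Q {v : V4} : K.el v ∈ F.Q ↔ v 3 = 0 := by
  have hm : F.zk (v 0) * K.f1 ^ (v 1).val * K.f2 ^ (v 2).val ∈ F.Q :=
    mul_mem (mul_mem (F.Z_le_Q (F.zk_mem _)) (pow_mem K.f1_Q _)) (pow_mem K.f2_Q _)
  rw [el, F.Q.mul_mem_cancel_left hm]
  refine ⟨fun h => ?_, fun h => by rw [h]; simp⟩
  by_contra hne
  refine K.y_not ?_
  rcases (by decide : ∀ a : ZMod 3, a ≠ 0 → a.val = 1 ∨ a.val = 2) _ hne with e | e <;> rw [e, ← pow_mul] at h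
  · have := mul_mem h h
    rwa [← pow_add, show 2 * 1 + 2 * 1 = 3 + 1 from rfl, pow_succ, K.P.y3, one_mul] at this
  · rwa [show 2 * 2 = 3 + 1 from rfl, pow_succ, K.P.y3, one_mul] at h

theorem crd_el {v : V4} (h : v 3 = 0) : F.crd (K.el v) = ![v 1, v 2, 0, 0] := by
  have hp : ∀ {a}, a ∈ F.Q → ∀ n : ℕ, F.crd (a ^ n) = n • F.crd a := fun {a} ha n => by
    induction n with
    | zero => simp [F.crd_one]
    | succ n ih => rw [pow_succ, F.crd_mul (pow_mem ha n) ha, ih, succ_nsmul]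
  rw [el, h, show ((0 : ZMod 3)).val = 0 from rfl, pow_zero, mul_one,
    F.crd_mul (mul_mem (F.Z_le_Q (F.zk_mem _)) (pow_mem K.f1_Q _)) (pow_mem K.f2_Q _),
    F.crd_mul (F.Z_le_Q (F.zk_mem _)) (pow_mem K.f1_Q _), F.crd_Z (F.zk_mem _), hp K.f1_Q, hp K.f2_Q,
    K.f1_crd, K.f2_crd]
  simp only [← Nat.cast_smul_eq_nsmul (ZMod 3), ZMod.natCast_zmod_val]
  funext k
  fin_cases k <;> simp

theorem el_inj : Function.Injective K.el := by
  intro u v h
  have hw : K.el (u - v) = 1 := by rw [sub_eq_add_neg, el_add, h, el_neg, mul_inv_cancel]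
  set w := u - v with hw'
  have h3 : w 3 = 0 := K.el_Q.1 (hw ▸ one_mem _)
  have hc := K.crd_el h3
  rw [hw, F.crd_one] at hc
  have h1 : w 1 = 0 := (congrFun hc 0).symm
  have h2 : w 2 = 0 := (congrFun hc 1).symm
  have h0 : w 0 = 0 := F.zk_inj (by
    have := hw
    simp [el, h1, h2, h3] at this
    rw [this, F.zk_zero])
  refine sub_eq_zero.1 (show w = 0 from funext fun k => ?_)
  fin_cases k <;> assumption

theorem exists_el {q : G} (hq : q ∈ F.Q) (h : F.crd q 2 = 0 ∧ F.crd q 3 = 0) :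
    ∃ a, K.el ![a, F.crd q 0, F.crd q 1, 0] = q := by
  set v : V4 := ![0, F.crd q 0, F.crd q 1, 0]
  have hv : v 3 = 0 := rfl
  have hm : (K.el v)⁻¹ * q ∈ zpowers F.z := (F.crd_eq_iff (K.el_Q.2 hv) hq).1 (by
    rw [K.crd_el hv]
    funext k
    fin_cases k <;> simp [v, h.1, h.2])
  obtain ⟨a, ha⟩ := F.exists_zk hm
  refine ⟨a, ?_⟩
  rw [show (![a, F.crd q 0, F.crd q 1, 0] : V4) = v + ![a, 0, 0, 0] by funext k; fin_cases k <;> simp [v], el_add,
    show K.el ![a, 0, 0, 0] = F.zk a by simp [el], ha, mul_inv_cancel_left]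

/-- The subgroup is self-centralising. -/
theorem cent_J {c : G} (h : ∀ v, Commute c (K.el v)) : ∃ v, c = K.el v := by
  have hc : c ∈ F.Cz := F.mem_Cz.2 (K.el_e0 ▸ h e0)
  set c' : F.Cz := ⟨c, hc⟩
  have f1 := F.act_fix_of_commute (c := c') K.f1_Q (K.el_e1 ▸ h e1)
  have f2 := F.act_fix_of_commute (c := c') K.f2_Q (K.el_e2 ▸ h e2)
  rw [K.f1_crd] at f1
  rw [K.f2_crd] at f2
  have hcol := Sp4.col_code (F.act c')
  have hfix := Sp4.fix_W.1
  simp only [List.all_eq_true, Bool.or_eq_true, Bool.not_eq_true', Bool.and_eq_false_iff, Nat.beq_eq] at hfix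
  obtain ⟨i, hi⟩ : ∃ i : ℕ, F.bar c' = F.bar K.P.yc ^ i := by
    rcases hfix (F.im c') (K.S.im_mem c') with ((h' | h') | h') | h'
    · rw [Frame.im, hcol.1, hcol.2.1, f1, f2] at h'
      exact absurd h' (by decide)
    · exact ⟨0, by rw [pow_zero, ← map_one F.bar, ← F.im_eq_iff, h', F.im_one]⟩
    · exact ⟨1, by rw [pow_one, ← F.im_eq_iff, h', K.hx]⟩
    · exact ⟨2, by rw [pow_two, ← map_mul, ← F.im_eq_iff, h', F.im_mul, K.hx]⟩
  set q := c * (K.P.y ^ i)⁻¹ with hq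
  have hqQ : q ∈ F.Q := (F.bar_eq_one (c := c' * (K.P.yc ^ i)⁻¹)).1
    (by rw [map_mul, map_inv, map_pow, hi, mul_inv_cancel])
  have hcom : ∀ {f}, Commute c f → Commute K.P.y f → Commute q f := fun h1 h2 =>
    h1.mul_left (h2.pow_left i).inv_left
  have hl : ∀ {f}, f ∈ F.Q → Commute q f → sf (F.crd q) (F.crd f) = 0 := fun hf hh => by
    rw [F.sf_crd hqQ hf]
    exact F.lam_eq hqQ hf (by rw [F.zk_zero]; exact commutatorElement_eq_one_iff_commute.2 hh)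
  have q1 := hl K.f1_Q (hcom (K.el_e1 ▸ h e1) K.f1_y)
  have q2 := hl K.f2_Q (hcom (K.el_e2 ▸ h e2) K.f2_y)
  rw [K.f1_crd] at q1
  rw [K.f2_crd] at q2
  simp [sf] at q1 q2
  obtain ⟨a, ha⟩ := K.exists_el hqQ ⟨q1, q2⟩
  refine ⟨![a, F.crd q 0, F.crd q 1, 0] + (2 * (i : ZMod 3)) • e3, ?_⟩
  rw [el_add, ha, el_smul, el_e3, ← pow_mul]
  have : K.P.y ^ (2 * (2 * (i : ZMod 3)).val) = K.P.y ^ i := by
    rw [← Nat.div_add_mod (2 * (2 * (i : ZMod 3)).val) 3, pow_add, pow_mul, K.P.y3, one_pow, one_mul]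
    conv_rhs => rw [← Nat.div_add_mod i 3, pow_add, pow_mul, K.P.y3, one_pow, one_mul]
    congr 1
    rw [show (2 : ZMod 3) * (i : ZMod 3) = ((2 * i : ℕ) : ZMod 3) by push_cast; ring, ZMod.val_natCast]
    omega
  rw [this, hq, inv_mul_cancel_right]

theorem trq_el_Q (a b : ZMod 3) {v : V4} (h : v 3 = 0) :
    F.trq a b * K.el v * (F.trq a b)⁻¹ = K.el ![v 0 - a * v 1 - b * v 2, v 1, v 2, 0] := by
  have hv : v = ![v 0, v 1, v 2, 0] := by funext k; fin_cases k <;> simp [h]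
  have e : ⁅F.trq a b, K.el v⁆ = F.zk (-(a * v 1) - b * v 2) := by
    show ⁅F.lift _, K.el v⁆ = _
    rw [← F.lam_spec (F.lift_mem _) (K.el_Q.2 h), ← F.sf_crd (F.lift_mem _) (K.el_Q.2 h), F.crd_lift, K.crd_el h]
    congr 1
  rw [show (![v 0 - a * v 1 - b * v 2, v 1, v 2, 0] : V4) = ![-(a * v 1) - b * v 2, 0, 0, 0] + v by
      funext k; fin_cases k <;> simp [h]; ring, el_add,
    show K.el ![-(a * v 1) - b * v 2, 0, 0, 0] = F.zk (-(a * v 1) - b * v 2) by simp [el], ← e, commutatorElement_def]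
  group

theorem exists_m (a b : ZMod 3) : ∃ m, F.trq a b * K.el e3 * (F.trq a b)⁻¹ = K.el ![m, a, b, 1] := by
  set q := F.trq a b with hq
  have hqQ : q ∈ F.Q := F.lift_mem _
  set Y : F.Cz := K.P.yc * K.P.yc
  have hY : (Y : G) = K.el e3 := by rw [el_e3, pow_two]; rfl
  have hYq : K.el e3 * q⁻¹ * (K.el e3)⁻¹ ∈ F.Q := hY ▸ F.normal _ Y.2 _ (inv_mem hqQ)
  set d := q * (K.el e3 * q⁻¹ * (K.el e3)⁻¹) with hd
  have hdQ : d ∈ F.Q := mul_mem hqQ hYq
  have hc : F.crd d = ![a, b, 0, 0] := by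
    rw [hd, F.crd_mul hqQ hYq, ← hY, ← F.act_crd Y (inv_mem hqQ), F.crd_inv hqQ, map_neg, F.act_mul, K.act_y,
      K.act_y, hq, Frame.trq, F.crd_lift]
    funext k
    fin_cases k <;> simp [X] <;> ring_nf <;>
      (rw [show (2 : ZMod 3) = -1 from rfl]; ring)
  obtain ⟨m, hm⟩ := K.exists_el hdQ (by rw [hc]; exact ⟨rfl, rfl⟩)
  refine ⟨m, ?_⟩
  rw [hc] at hm
  rw [show (![m, a, b, 1] : V4) = ![m, a, b, 0] + e3 by funext k; fin_cases k <;> simp [e3], el_add,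
    show K.el ![m, a, b, 0] = d from hm, hd]
  group

theorem decomp3 (v : V4) : v = ![v 0, v 1, v 2, 0] + v 3 • e3 := by
  funext k; fin_cases k <;> simp [e3]

theorem trq_el {a b m : ZMod 3} (hm : F.trq a b * K.el e3 * (F.trq a b)⁻¹ = K.el ![m, a, b, 1]) (v : V4) :
    F.trq a b * K.el v * (F.trq a b)⁻¹ =
      K.el ![v 0 - a * v 1 - b * v 2 + m * v 3, v 1 + a * v 3, v 2 + b * v 3, v 3] := by
  conv_lhs => rw [K.decomp3 v, el_add, el_smul]
  rw [show F.trq a b * (K.el ![v 0, v 1, v 2, 0] * K.el e3 ^ (v 3).val) * (F.trq a b)⁻¹ =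
      F.trq a b * K.el ![v 0, v 1, v 2, 0] * (F.trq a b)⁻¹ * (F.trq a b * K.el e3 ^ (v 3).val * (F.trq a b)⁻¹) by group,
    ← conj_pow, hm, K.trq_el_Q a b (by simp), ← el_smul, ← el_add]
  congr 1
  funext k
  fin_cases k <;> simp <;> ring

/-- The parameter of a translation. -/
noncomputable def mu (a b : ZMod 3) : ZMod 3 := Classical.choose (K.exists_m a b)

theorem mu_spec (a b : ZMod 3) : F.trq a b * K.el e3 * (F.trq a b)⁻¹ = K.el ![K.mu a b, a, b, 1] :=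
  Classical.choose_spec (K.exists_m a b)

theorem mu_add (a b a' b' : ZMod 3) :
    K.mu (a + a') (b + b') = K.mu a b + K.mu a' b' - (a * a' + b * b') := by
  have hm : F.trq a b * F.trq a' b' ∈ F.Q := mul_mem (F.lift_mem _) (F.lift_mem _)
  have hz : (F.trq (a + a') (b + b'))⁻¹ * (F.trq a b * F.trq a' b') ∈ zpowers F.z :=
    (F.crd_eq_iff (F.lift_mem _) hm).1 (by
      simp only [Frame.trq, F.crd_lift, F.crd_mul (F.lift_mem _) (F.lift_mem _)]
      funext k; fin_cases k <;> simp)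
  set d := (F.trq (a + a') (b + b'))⁻¹ * (F.trq a b * F.trq a' b') with hd
  have hfix : d * K.el e3 * d⁻¹ = K.el e3 := by
    rw [← (F.commute_Z (K.el_mem e3) hz).eq, mul_inv_cancel_right]
  have e : F.trq (a + a') (b + b') * K.el e3 * (F.trq (a + a') (b + b'))⁻¹ =
      F.trq a b * (F.trq a' b' * K.el e3 * (F.trq a' b')⁻¹) * (F.trq a b)⁻¹ := by
    conv_lhs => rw [← hfix]
    rw [hd]; group
  rw [K.mu_spec, K.mu_spec, K.trq_el (K.mu_spec a b)] at e
  have := congrFun (K.el_inj e) 0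
  simp at this
  rw [this]
  ring

theorem bk_el {v : V4} (h : v 0 = 0) : K.P.bk (K.el v) ∈ F.Q := by
  have hpow : ∀ (a : G) (n : ℕ), K.P.bk a ∈ F.Q → K.P.bk (a ^ n) ∈ F.Q := fun a n ha => by
    induction n with
    | zero => rw [pow_zero, K.P.bk_one]; exact one_mem _
    | succ n ih => rw [pow_succ, K.P.bk_mul]; exact mul_mem ih ha
  rw [el, h, F.zk_zero, one_mul, K.P.bk_mul, K.P.bk_mul]
  exact mul_mem (mul_mem (hpow _ _ K.f1_bk) (hpow _ _ K.f2_bk))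
    (hpow _ _ (hpow _ _ (by rw [K.P.bk_y]; exact F.z_mem)))

theorem mu_ne {a b : ZMod 3} (h : a ≠ 0 ∨ b ≠ 0) : K.mu a b ≠ 0 := by
  intro h0
  have e := K.mu_spec a b
  rw [h0] at e
  have hbk : K.P.bk (K.el ![0, a, b, 1]) ∈ F.Q := K.bk_el rfl
  have hx : K.P.bk (K.el ![0, a, b, 1]) =
      (K.P.g⁻¹ * F.trq a b * K.P.g) * F.z ^ 2 * (K.P.g⁻¹ * F.trq a b * K.P.g)⁻¹ := by
    rw [← e, el_e3, ← K.P.eq, conj_pow]
    unfold Pr.bk
    group
  rw [hx] at hbk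
  have hz := Pr.conj_mem_Q K.S (pow_mem (mem_zpowers F.z) 2) hbk
  rw [← hx] at hz
  obtain ⟨k, hk⟩ := F.exists_zk hz
  have : K.el ![0, a, b, 1] = K.el ((2 * k) • e3) := by
    refine K.P.bk_inj ?_
    rw [← hk, el_smul, el_e3, ← K.P.eq, conj_pow, conj_pow, Ext.zk]
    unfold Pr.bk
    rw [← pow_mul, show K.P.g⁻¹ * (K.P.g * F.z ^ (2 * (2 * k).val) * K.P.g⁻¹) * K.P.g = F.z ^ (2 * (2 * k).val) by group]
    rcases (by decide : ∀ k : ZMod 3, k = 0 ∨ k = 1 ∨ k = 2) k with rfl | rfl | rfl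
    · simp
    · rw [show 2 * ((2 : ZMod 3) * 1).val = 3 + 1 from rfl, pow_succ _ 3, F.z3, one_mul]; simp [show (1 : ZMod 3).val = 1 from rfl]
    · rfl
  have h' := K.el_inj this
  rcases h with h | h
  · exact h (by simpa [e3] using congrFun h' 1)
  · exact h (by simpa [e3] using congrFun h' 2)

theorem mu_eq (a b : ZMod 3) : K.mu a b = a * a + b * b := by
  let n : ZMod 3 × ZMod 3 →+ ZMod 3 := AddMonoidHom.mk' (fun u => K.mu u.1 u.2 - (u.1 * u.1 + u.2 * u.2))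
    fun u v => by
      show K.mu (u.1 + v.1) (u.2 + v.2) - _ = _
      rw [K.mu_add]
      rw [Prod.fst_add, Prod.snd_add]
      have h3 : (3 : ZMod 3) = 0 := rfl
      linear_combination (-(u.1 * v.1) - u.2 * v.2) * h3
  have hlin : ∀ a b : ZMod 3, K.mu a b = a * a + b * b + (a * n (1, 0) + b * n (0, 1)) := fun a b => by
    have : n (a, b) = a * n (1, 0) + b * n (0, 1) := by
      rw [← smul_eq_mul a, ← smul_eq_mul b, ← ZMod.map_smul n a, ← ZMod.map_smul n b, ← map_add]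
      simp
    have h' : n (a, b) = K.mu a b - (a * a + b * b) := rfl
    linear_combination this - h'
  have hall : ∀ a b : ZMod 3, (a ≠ 0 ∨ b ≠ 0) → a * a + b * b + (a * n (1, 0) + b * n (0, 1)) ≠ 0 := fun a b h =>
    hlin a b ▸ K.mu_ne h
  obtain ⟨p0, q0⟩ := (by decide : ∀ p q : ZMod 3,
    (∀ a b : ZMod 3, (a ≠ 0 ∨ b ≠ 0) → a * a + b * b + (a * p + b * q) ≠ 0) → p = 0 ∧ q = 0) _ _ hall
  rw [hlin, p0, q0]; ring

theorem trq_conj (a b : ZMod 3) (v : V4) : F.trq a b * K.el v * (F.trq a b)⁻¹ = K.el (tr a b v) := by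
  rw [tr, ← K.mu_eq, K.trq_el (K.mu_spec a b) v]

theorem exists_V0 (j : ZMod 3) (hj : j ≠ 0) : ∃ q ∈ F.Q, ∃ c ∈ F.Q, K.P.bk c ∈ F.Q ∧ c ∉ zpowers F.z ∧
    q * K.P.y * q⁻¹ = K.P.y * c * F.zk j := by
  obtain ⟨a, b, hab, hne⟩ := (by decide : ∀ j : ZMod 3, j ≠ 0 → ∃ a b : ZMod 3, a * a + b * b = -j ∧ (a ≠ 0 ∨ b ≠ 0)) j hj
  refine ⟨F.trq a b, F.lift_mem _, K.el ![0, -a, -b, 0], K.el_Q.2 rfl, K.bk_el rfl, fun h => ?_, ?_⟩
  · have := F.crd_Z h
    rw [K.crd_el rfl] at this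
    rcases hne with h' | h'
    · exact h' (neg_eq_zero.1 (congrFun this 0))
    · exact h' (neg_eq_zero.1 (congrFun this 1))
  · have hy : K.P.y = K.el (-e3) := by
      rw [el_neg, el_e3]
      exact eq_inv_of_mul_eq_one_left (by rw [← pow_succ']; exact K.P.y3)
    rw [hy, K.trq_conj, show F.zk j = K.el ![j, 0, 0, 0] by simp [el], ← el_add, ← el_add]
    congr 1
    funext k
    fin_cases k <;> simp [tr, e3, hab]

end Cfg

/-- Every conjugate outside the centre is moved by the core in all directions. -/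
theorem exists_V {G : Type*} [Group G] [Finite G] {F : Frame G} (S : Std F) (P : Pr F) (j : ZMod 3) (hj : j ≠ 0) :
    ∃ q ∈ F.Q, ∃ c ∈ F.Q, P.bk c ∈ F.Q ∧ c ∉ zpowers F.z ∧ q * P.y * q⁻¹ = P.y * c * F.zk j := by
  obtain ⟨h, hh⟩ := P.exists_std_conj S
  set P' := P.conj h
  have key : ∀ e : V4, X e = e → ∃ c ∈ F.Q, F.crd c = e ∧ P'.bk c ∈ F.Q := fun e he => by
    have hfix : F.act P'.yc (F.crd (F.lift e)) = F.crd (F.lift e) := by rw [F.crd_lift, P'.act_std hh, he]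
    obtain ⟨i, hi⟩ := P'.exists_shift S (F.lift_mem e) (P'.cent_fixed S (F.lift_mem e) hfix).symm
    have hz : (F.z ^ i)⁻¹ ∈ zpowers F.z := inv_mem (pow_mem (mem_zpowers _) i)
    exact ⟨_, mul_mem (F.lift_mem e) (F.Z_le_Q hz), by
      rw [F.crd_mul (F.lift_mem e) (F.Z_le_Q hz), F.crd_Z hz, add_zero, F.crd_lift], hi⟩
  obtain ⟨a, ha, ha', ha''⟩ := key (Pi.single 0 1) (by decide)
  obtain ⟨b, hb, hb', hb''⟩ := key (Pi.single 1 1) (by decide)
  obtain ⟨q, hq, c, hc, hcb, hcz, he⟩ := (Cfg.mk S P' hh a b ha hb ha' hb' ha'' hb'').exists_V0 j hj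
  have hn : ∀ {x}, x ∈ F.Q → (h : G)⁻¹ * x * (h : G) ∈ F.Q := fun hx => by
    simpa using F.normal _ (inv_mem h.2) _ hx
  refine ⟨_, hn hq, _, hn hc, ?_, fun hz => hcz ?_, ?_⟩
  · change ((h : G) * P.g)⁻¹ * c * ((h : G) * P.g) ∈ F.Q at hcb
    have e' : P.bk ((h : G)⁻¹ * c * (h : G)) = ((h : G) * P.g)⁻¹ * c * ((h : G) * P.g) := by unfold Pr.bk; group
    exact e' ▸ hcb
  · have := F.fix_Z h.2 hz
    rw [show (h : G) * ((h : G)⁻¹ * c * (h : G)) * (h : G)⁻¹ = c by group] at this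
    exact this ▸ hz
  · change q * ((h : G) * P.y * (h : G)⁻¹) * q⁻¹ = (h : G) * P.y * (h : G)⁻¹ * c * F.zk j at he
    calc (h : G)⁻¹ * q * (h : G) * P.y * ((h : G)⁻¹ * q * (h : G))⁻¹
        = (h : G)⁻¹ * (q * ((h : G) * P.y * (h : G)⁻¹) * q⁻¹) * (h : G) := by group
      _ = P.y * ((h : G)⁻¹ * c * (h : G)) * ((h : G)⁻¹ * F.zk j * (h : G)) := by rw [he]; group
      _ = _ := by
        have := F.fix_Z (inv_mem h.2) (F.zk_mem j)
        rw [inv_inv] at this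
        rw [this]

namespace Cfg

variable {G : Type*} [Group G] [Finite G] {F : Frame G} (K : Cfg F)
include K

/-- Moving the central element keeping the opposite point. -/
theorem exists_far {d : ZMod 3} (hd : d ≠ 0) : ∃ h : G, ∃ a b : ZMod 3, (a ≠ 0 ∨ b ≠ 0) ∧
    h * K.el e0 * h⁻¹ = K.el ![1, a, b, d] ∧ h * K.el e3 * h⁻¹ = K.el e3 ∧ K.P.bk h ∈ F.Q := by
  obtain ⟨q, hq, c, hc, hcb, hcz, he⟩ := exists_V K.S K.P.inv (-d) (neg_ne_zero.2 hd)
  change q * K.P.bk F.z * q⁻¹ = K.P.bk F.z * c * F.zk (-d) at he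
  set c' := K.P.g * c * K.P.g⁻¹ with hc'
  have hcQ : c' ∈ F.Q := by simpa [Pr.bk, Pr.inv] using hcb
  have hbk : K.P.bk c' = c := by rw [hc']; unfold Pr.bk; group
  have hcy : Commute K.P.yc.1 c' := by
    refine K.P.bk_inj ?_
    rw [K.P.bk_mul (K.P.yc : G) c', K.P.bk_mul c' (K.P.yc : G), show K.P.bk (K.P.yc : G) = F.z from K.P.bk_y, hbk]
    exact (F.mem_Cz.1 (F.Q_le hc)).symm
  have hf := F.act_fix_of_commute (c := K.P.yc) hcQ hcy
  rw [K.act_y] at hf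
  obtain ⟨a0, ha0⟩ := K.exists_el hcQ ((Sp4.fix_X _).1 hf)
  set v : V4 := ![a0, F.crd c' 0, F.crd c' 1, 0]
  have h00 : a0 = 0 := by
    by_contra hne
    have h1 : K.P.bk (K.el ![0, F.crd c' 0, F.crd c' 1, 0]) ∈ F.Q := K.bk_el rfl
    have h2 : K.P.bk (K.el v) ∈ F.Q := by rw [ha0, hbk]; exact hc
    rw [show v = ![a0, 0, 0, 0] + ![0, F.crd c' 0, F.crd c' 1, 0] by funext k; fin_cases k <;> simp [v], el_add,
      K.P.bk_mul, F.Q.mul_mem_cancel_right h1, show K.el ![a0, 0, 0, 0] = F.z ^ a0.val by simp [el, Ext.zk]] at h2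
    refine K.P.inv.not_Q K.S ?_
    show K.P.bk F.z ∈ F.Q
    rcases (by decide : ∀ a : ZMod 3, a ≠ 0 → a.val = 1 ∨ a.val = 2) _ hne with e | e <;> rw [e] at h2
    · rwa [pow_one] at h2
    · have := mul_mem h2 h2
      rwa [← K.P.bk_mul, ← pow_add, show 2 + 2 = 3 + 1 from rfl, pow_succ, F.z3, one_mul] at this
  have hab : F.crd c' 0 ≠ 0 ∨ F.crd c' 1 ≠ 0 := by
    by_contra hh
    push Not at hh
    refine hcz ?_
    have : c' = 1 := by
      rw [← ha0, show v = 0 by funext k; fin_cases k <;> simp [v, h00, hh.1, hh.2], el_zero]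
    rw [← hbk, this, K.P.bk_one]
    exact one_mem _
  refine ⟨K.P.g * q * K.P.g⁻¹, F.crd c' 0, F.crd c' 1, hab, ?_, ?_, by simpa [Pr.bk, mul_assoc] using hq⟩
  · rw [el_e0, show (![1, F.crd c' 0, F.crd c' 1, d] : V4) = e0 + v + d • e3 by
      funext k; fin_cases k <;> simp [v, h00, e0, e3], el_add, el_add, el_e0, ha0, el_smul, el_e3]
    have hy : K.P.g * F.zk (-d) * K.P.g⁻¹ = (K.P.y ^ 2) ^ d.val := by
      rw [Ext.zk, ← conj_pow, K.P.eq, ← pow_mul]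
      rcases (by decide : ∀ a : ZMod 3, a ≠ 0 → a = 1 ∨ a = 2) d hd with rfl | rfl
      · rfl
      · rw [show 2 * (2 : ZMod 3).val = 3 + 1 from rfl, pow_succ _ 3, K.P.y3, one_mul, show (-(2 : ZMod 3)).val = 1 from rfl, pow_one]
    calc K.P.g * q * K.P.g⁻¹ * F.z * (K.P.g * q * K.P.g⁻¹)⁻¹
        = K.P.g * (q * K.P.bk F.z * q⁻¹) * K.P.g⁻¹ := by unfold Pr.bk; group
      _ = F.z * c' * (K.P.g * F.zk (-d) * K.P.g⁻¹) := by rw [he, hc']; unfold Pr.bk; group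
      _ = _ := by rw [hy]
  · rw [el_e3, ← K.P.eq, conj_pow]
    calc K.P.g * q * K.P.g⁻¹ * (K.P.g * F.z ^ 2 * K.P.g⁻¹) * (K.P.g * q * K.P.g⁻¹)⁻¹
        = K.P.g * (q * F.z ^ 2 * q⁻¹) * K.P.g⁻¹ := by group
      _ = _ := by rw [F.fix_Z (F.Q_le hq) (pow_mem (mem_zpowers _) 2)]

theorem conj_lin {h : G} {M : V4 → V4} (hM : ∀ v, h * K.el v * h⁻¹ = K.el (M v)) (v : V4) :
    M v = v 0 • M e0 + v 1 • M e1 + v 2 • M e2 + v 3 • M e3 := by
  refine K.el_inj ?_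
  have he : v = v 0 • e0 + v 1 • e1 + v 2 • e2 + v 3 • e3 := by
    funext k; fin_cases k <;> simp [e0, e1, e2, e3]
  rw [← hM]
  conv_lhs => rw [he]
  simp only [el_add, el_smul]
  rw [← hM e0, ← hM e1, ← hM e2, ← hM e3, conj_pow, conj_pow, conj_pow, conj_pow]
  group

theorem qf_of_conj {v : V4} {h : G} {k : ZMod 3} (he : h * F.zk k * h⁻¹ = K.el v) : qf v = 0 := by
  haveI : Fact (Nat.Prime 3) := ⟨Nat.prime_three⟩
  by_cases h3 : v 3 = 0
  · have hz := Pr.conj_mem_Q K.S (F.zk_mem k) (he ▸ K.el_Q.2 h3)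
    rw [he] at hz
    have := F.crd_Z hz
    rw [K.crd_el h3] at this
    have h1 : v 1 = 0 := congrFun this 0
    have h2 : v 2 = 0 := congrFun this 1
    simp [qf, h1, h2, h3]
  -- scale and translate
  have hsc : h * F.zk (v 3 * k) * h⁻¹ = K.el (v 3 • v) := by
    rw [el_smul, ← he, conj_pow]
    congr 2
    rw [Ext.zk, Ext.zk, ← pow_mul, ZMod.val_mul]
    conv_rhs => rw [← pow_mod_orderOf, F.order_z, mul_comm]
  have hqf : ∀ c w, c ≠ (0 : ZMod 3) → qf (c • w) = qf w := fun c w hc => by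
    have := (by decide : ∀ c : ZMod 3, c ≠ 0 → c * c = 1) c hc
    simp [qf]
    linear_combination (w 0 * w 3 - w 1 * w 1 - w 2 * w 2) * this
  rw [← hqf _ v h3]
  set w := v 3 • v with hw
  have hw3 : w 3 = 1 := by
    rw [hw, Pi.smul_apply, smul_eq_mul]
    exact (by decide : ∀ c : ZMod 3, c ≠ 0 → c * c = 1) _ h3
  set a := w 1; set b := w 2
  set a' := w 0 - (a * a + b * b) with ha'
  have htr : F.trq a b * K.el ![a', 0, 0, 1] * (F.trq a b)⁻¹ = K.el w := by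
    rw [K.trq_conj]
    congr 1
    funext i
    fin_cases i <;> simp [tr, a, b, a', hw3]
  have ha0 : a' = 0 := by
    by_contra hne
    obtain ⟨g, p, r, hpr, hg0, hg3, -⟩ := K.exists_far (d := -a') (neg_ne_zero.2 hne)
    have hg : g * K.el ![a', 0, 0, 1] * g⁻¹ = K.el ![a', a' * p, a' * r, 0] := by
      rw [show (![a', 0, 0, 1] : V4) = a' • e0 + e3 by funext i; fin_cases i <;> simp [e0, e3], el_add, el_smul,
        show g * (K.el e0 ^ a'.val * K.el e3) * g⁻¹ = (g * K.el e0 ^ a'.val * g⁻¹) * (g * K.el e3 * g⁻¹) by group,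
        ← conj_pow, hg0, hg3, ← el_smul, ← el_add]
      congr 1
      have := (by decide : ∀ c : ZMod 3, c ≠ 0 → c * c = 1) a' hne
      funext i
      fin_cases i <;> simp [e3, this]
    have hx : (g * (F.trq a b)⁻¹ * h) * F.zk (v 3 * k) * (g * (F.trq a b)⁻¹ * h)⁻¹ = K.el ![a', a' * p, a' * r, 0] := by
      rw [← hg]
      calc _ = g * ((F.trq a b)⁻¹ * (h * F.zk (v 3 * k) * h⁻¹) * F.trq a b) * g⁻¹ := by group
        _ = _ := by rw [hsc, ← htr]; group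
    have hz := Pr.conj_mem_Q K.S (F.zk_mem (v 3 * k)) (hx ▸ K.el_Q.2 rfl)
    rw [hx] at hz
    have := F.crd_Z hz
    rw [K.crd_el rfl] at this
    have hmz := (by decide : ∀ x y : ZMod 3, x * y = 0 → x ≠ 0 → y = 0)
    rcases hpr with hp | hp
    · exact hp (hmz _ _ (congrFun this 0) hne)
    · exact hp (hmz _ _ (congrFun this 1) hne)
  show w 0 * w 3 - w 1 * w 1 - w 2 * w 2 = 0
  rw [hw3, ← ha0, ha']
  ring

/-- The central element is conjugate to its inverse. -/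
theorem z_inv : ∃ h : G, h * F.z * h⁻¹ = F.z ^ 2 := by
  obtain ⟨g, a, b, hab, hg0, -, -⟩ := K.exists_far (d := 1) one_ne_zero
  have hq := K.qf_of_conj (h := g) (k := 1) (v := ![1, a, b, 1]) (by rw [F.zk_one, ← hg0, el_e0])
  have htr : F.trq a b * K.el e3 * (F.trq a b)⁻¹ = K.el ![1, a, b, 1] := by
    rw [K.trq_conj]
    congr 1
    simp [qf] at hq
    funext i
    fin_cases i <;> simp [tr, e3]
    linear_combination -hq
  refine ⟨(F.trq a b * K.P.g)⁻¹ * g, ?_⟩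
  rw [el_e0] at hg0
  calc _ = (F.trq a b * K.P.g)⁻¹ * (g * F.z * g⁻¹) * (F.trq a b * K.P.g) := by group
    _ = (F.trq a b * K.P.g)⁻¹ * (F.trq a b * (K.P.g * F.z ^ 2 * K.P.g⁻¹) * (F.trq a b)⁻¹) * (F.trq a b * K.P.g) := by
      rw [hg0, ← htr, el_e3, ← K.P.eq, conj_pow]
    _ = _ := by group

/-- The conjugates of the central element are the singular vectors. -/
theorem fused (v : V4) (hv : v ≠ 0) : (∃ g : G, g * K.el e0 * g⁻¹ = K.el v) ↔ qf v = 0 := by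
  refine ⟨fun ⟨g, hg⟩ => K.qf_of_conj (k := 1) (h := g) (by rw [F.zk_one, ← hg, el_e0]), fun hq => ?_⟩
  obtain ⟨h, hh⟩ := K.z_inv
  rw [el_e0]
  have hinv : ∀ w, (∃ g : G, g * F.z * g⁻¹ = K.el w) → ∃ g : G, g * F.z * g⁻¹ = K.el ((2 : ZMod 3) • w) := by
    rintro w ⟨g, hg⟩
    refine ⟨g * h, ?_⟩
    rw [el_smul, ← hg, conj_pow, show ((2 : ZMod 3)).val = 2 from rfl, ← hh]
    group
  by_cases h3 : v 3 = 0
  · have hq' : v 1 * v 1 + v 2 * v 2 = 0 := by
      simp [qf, h3] at hq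
      linear_combination -hq
    obtain ⟨h1, h2⟩ := (by decide : ∀ a b : ZMod 3, a * a + b * b = 0 → a = 0 ∧ b = 0) _ _ hq'
    have h0 : v 0 ≠ 0 := fun h0 => hv (by funext i; fin_cases i <;> assumption)
    have hv' : v = v 0 • e0 := by funext i; fin_cases i <;> simp [e0, h1, h2, h3]
    rw [hv']
    rcases (by decide : ∀ a : ZMod 3, a ≠ 0 → a = 1 ∨ a = 2) _ h0 with e | e <;> rw [e]
    · exact ⟨1, by rw [one_smul, el_e0]; group⟩
    · exact hinv e0 ⟨1, by rw [el_e0]; group⟩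
  set w := v 3 • v with hw
  have hc := (by decide : ∀ c : ZMod 3, c ≠ 0 → c * c = 1) _ h3
  have hw3 : w 3 = 1 := by rw [hw, Pi.smul_apply, smul_eq_mul, hc]
  have hw0 : w 0 = w 1 * w 1 + w 2 * w 2 := by
    simp [qf] at hq
    simp [hw]
    linear_combination hq +
      (-(v 1 * v 1) - v 2 * v 2) * hc
  have hy : ∃ g : G, g * F.z * g⁻¹ = K.el w := by
    refine ⟨F.trq (w 1) (w 2) * K.P.g * h, ?_⟩
    have e : K.el w = F.trq (w 1) (w 2) * K.el e3 * (F.trq (w 1) (w 2))⁻¹ := by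
      rw [K.trq_conj]
      congr 1
      funext i
      fin_cases i <;> simp [tr, e3, hw3, hw0]
    rw [e, el_e3, ← K.P.eq, conj_pow, ← hh]
    group
  rcases (by decide : ∀ a : ZMod 3, a ≠ 0 → a = 1 ∨ a = 2) _ h3 with e | e
  · rw [hw, e, one_smul] at hy; exact hy
  · have := hinv w hy
    rw [hw, e, smul_smul, show (2 : ZMod 3) * 2 = 1 from rfl, one_smul] at this
    exact this

end Cfg

end Cfsg.Agent.Co2Three.Local
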