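import Cfsg.Agent.Lib.Co2Three.Local.Invol
import Mathlib.GroupTheory.Sylow
import Mathlib.GroupTheory.Commutator.Basic
import Mathlib.GroupTheory.SpecificGroups.Alternating

/-!
S3336: the centraliser of the element of order three, as given by the hypotheses.
-/

set_option autoImplicit false
set_option linter.style.haveILetI false
set_option linter.unusedSectionVars false

namespace Cfsg.Agent.Co2Three.Local

open Subgroup
open scoped commutatorElement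

/-- The data of the hypotheses. -/
structure Ext (G : Type*) [Group G] [Finite G] where
  /-- a Sylow subgroup -/
  S : Sylow 3 G
  /-- the generator of its centre -/
  z : G
  /-- the core of the centraliser -/
  Q : Subgroup G
  /-- the inverse image of the 2-core of the quotient -/
  R : Subgroup G
  /-- an element of the centre of the 2-core -/
  t : G
  S_le : (S : Subgroup G) ≤ centralizer ({z} : Set G)
  center_S : ∀ x ∈ (S : Subgroup G), (∀ s ∈ (S : Subgroup G), x * s = s * x) → x ∈ zpowers z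
  Q_le : Q ≤ centralizer ({z} : Set G)
  normal : ∀ c ∈ centralizer ({z} : Set G), ∀ q ∈ Q, c * q * c⁻¹ ∈ Q
  card_Q : Nat.card Q = 243
  comm_mem : ∀ a ∈ Q, ∀ b ∈ Q, ⁅a, b⁆ ∈ zpowers z
  z_mem : z ∈ Q
  z_ne : z ≠ 1
  z3 : z ^ 3 = 1
  center_Q : ∀ x ∈ Q, (∀ q ∈ Q, x * q = q * x) → x ∈ zpowers z
  R_le : R ≤ centralizer ({z} : Set G)
  Q_le_R : Q ≤ R
  card_R : Nat.card R = 243 * 32
  R_normal : ∀ c ∈ centralizer ({z} : Set G), ∀ r ∈ R, c * r * c⁻¹ ∈ R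
  card_C : Nat.card (centralizer ({z} : Set G)) = 243 * 32 * 60
  /-- the map onto the alternating group -/
  pi : centralizer ({z} : Set G) →* alternatingGroup (Fin 5)
  pi_surj : Function.Surjective pi
  pi_ker : ∀ x, pi x = 1 ↔ (x : G) ∈ R
  t_mem : t ∈ R
  t_not : t ∉ Q
  t_sq : t * t ∈ Q
  R_comm : ∀ a ∈ R, ∀ b ∈ R, ⁅a, b⁆ ∈ Q ∨ ⁅a, b⁆ * t⁻¹ ∈ Q
  R_center : ∀ a ∈ R, (∀ b ∈ R, ⁅a, b⁆ ∈ Q) → a ∈ Q ∨ a * t⁻¹ ∈ Q
  R_sq : ∀ a ∈ R, a * a ∈ Q ∨ a * a * t⁻¹ ∈ Q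
  nwc : ∃ g : G, g * z * g⁻¹ ∈ (S : Subgroup G) ∧ g * z * g⁻¹ ∉ zpowers z

namespace Ext

variable {G : Type*} [Group G] [Finite G] (D : Ext G)
include D

/-- The centraliser. -/
abbrev Cz : Subgroup G := centralizer ({D.z} : Set G)

theorem mem_Cz {x : G} : x ∈ D.Cz ↔ x * D.z = D.z * x := mem_centralizer_singleton_iff

theorem order_z : orderOf D.z = 3 :=
  haveI : Fact (Nat.Prime 3) := ⟨Nat.prime_three⟩
  orderOf_eq_prime D.z3 D.z_ne

/-- Powers of the generator. -/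
def zk (k : ZMod 3) : G := D.z ^ k.val

theorem zk_add (j k : ZMod 3) : D.zk (j + k) = D.zk j * D.zk k := by
  rw [zk, zk, zk, ← pow_add, ZMod.val_add]
  conv_rhs => rw [← pow_mod_orderOf, D.order_z]

theorem zk_zero : D.zk 0 = 1 := by simp [zk]

theorem zk_one : D.zk 1 = D.z := by
  show D.z ^ (1 : ZMod 3).val = D.z
  rw [show (1 : ZMod 3).val = 1 from rfl, pow_one]

theorem zk_inj {j k : ZMod 3} (h : D.zk j = D.zk k) : j = k := by
  refine ZMod.val_injective 3 ?_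
  exact pow_injOn_Iio_orderOf (by rw [Set.mem_Iio, D.order_z]; exact j.val_lt)
    (by rw [Set.mem_Iio, D.order_z]; exact k.val_lt) h

theorem zk_mem (k : ZMod 3) : D.zk k ∈ zpowers D.z := pow_mem (mem_zpowers _) _

theorem exists_zk {x : G} (hx : x ∈ zpowers D.z) : ∃ k, D.zk k = x := by
  classical
  have h := (mem_zpowers_iff_mem_range_orderOf (x := D.z)).1 hx
  obtain ⟨n, hn, rfl⟩ := Finset.mem_image.1 h
  rw [Finset.mem_range, D.order_z] at hn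
  exact ⟨(n : ZMod 3), by rw [zk, ZMod.val_natCast, Nat.mod_eq_of_lt hn]⟩

theorem Z_le_Q : zpowers D.z ≤ D.Q := zpowers_le.2 D.z_mem

theorem commute_Z {x : G} (hx : x ∈ D.Cz) {c : G} (hc : c ∈ zpowers D.z) : Commute x c := by
  obtain ⟨k, rfl⟩ := D.exists_zk hc
  exact (show Commute x D.z from D.mem_Cz.1 hx).pow_right _

theorem fix_Z {x : G} (hx : x ∈ D.Cz) {c : G} (hc : c ∈ zpowers D.z) : x * c * x⁻¹ = c :=
  mul_inv_eq_iff_eq_mul.2 (D.commute_Z hx hc).eq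

theorem bracket_mul_left {a b c : G} (ha : a ∈ D.Q) (hb : b ∈ D.Q) (hc : c ∈ D.Q) :
    ⁅a * b, c⁆ = ⁅a, c⁆ * ⁅b, c⁆ := by
  have h1 : ⁅a * b, c⁆ = a * ⁅b, c⁆ * a⁻¹ * ⁅a, c⁆ := by simp only [commutatorElement_def]; group
  rw [h1, D.fix_Z (D.Q_le ha) (D.comm_mem _ hb _ hc),
    (D.commute_Z (D.Q_le (D.Z_le_Q (D.comm_mem _ hb _ hc))) (D.comm_mem _ ha _ hc)).eq]

theorem conj_bracket {x a b : G} (hx : x ∈ D.Cz) (ha : a ∈ D.Q) (hb : b ∈ D.Q) :
    ⁅x * a * x⁻¹, x * b * x⁻¹⁆ = ⁅a, b⁆ := by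
  rw [show ⁅x * a * x⁻¹, x * b * x⁻¹⁆ = x * ⁅a, b⁆ * x⁻¹ by simp only [commutatorElement_def]; group]
  exact D.fix_Z hx (D.comm_mem _ ha _ hb)

/-- The exponent of a commutator. -/
noncomputable def lam (a b : G) : ZMod 3 := by
  classical exact if ⁅a, b⁆ = 1 then 0 else if ⁅a, b⁆ = D.z then 1 else 2

theorem lam_spec' {a b : G} (h : ⁅a, b⁆ ∈ zpowers D.z) : D.zk (D.lam a b) = ⁅a, b⁆ := by
  classical
  obtain ⟨k, hk⟩ := D.exists_zk h
  rw [lam]
  split_ifs with h1 h2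
  · rw [h1, zk_zero]
  · rw [h2, zk_one]
  · rw [← hk]
    congr 1
    rcases (by decide : ∀ k : ZMod 3, k = 0 ∨ k = 1 ∨ k = 2) k with rfl | rfl | rfl
    · exact absurd (hk.symm.trans D.zk_zero) h1
    · exact absurd (hk.symm.trans D.zk_one) h2
    · rfl

theorem lam_spec {a b : G} (ha : a ∈ D.Q) (hb : b ∈ D.Q) : D.zk (D.lam a b) = ⁅a, b⁆ :=
  D.lam_spec' (D.comm_mem _ ha _ hb)

theorem lam_eq {a b : G} (ha : a ∈ D.Q) (hb : b ∈ D.Q) {k : ZMod 3} (h : ⁅a, b⁆ = D.zk k) : D.lam a b = k :=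
  D.zk_inj ((D.lam_spec ha hb).trans h)

theorem lam_mul_left {a b c : G} (ha : a ∈ D.Q) (hb : b ∈ D.Q) (hc : c ∈ D.Q) :
    D.lam (a * b) c = D.lam a c + D.lam b c :=
  D.lam_eq (mul_mem ha hb) hc (by rw [zk_add, lam_spec _ ha hc, lam_spec _ hb hc, D.bracket_mul_left ha hb hc])

theorem lam_skew {a b : G} (ha : a ∈ D.Q) (hb : b ∈ D.Q) : D.lam a b = -D.lam b a := by
  refine eq_neg_of_add_eq_zero_left (D.zk_inj ?_)
  rw [zk_add, lam_spec _ ha hb, lam_spec _ hb ha, zk_zero, ← commutatorElement_inv a b, mul_inv_cancel]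

theorem lam_mul_right {a b c : G} (ha : a ∈ D.Q) (hb : b ∈ D.Q) (hc : c ∈ D.Q) :
    D.lam a (b * c) = D.lam a b + D.lam a c := by
  rw [D.lam_skew ha (mul_mem hb hc), D.lam_mul_left hb hc ha, neg_add, ← D.lam_skew ha hb, ← D.lam_skew ha hc]

theorem lam_pow_left {a b : G} (ha : a ∈ D.Q) (hb : b ∈ D.Q) : ∀ n : ℕ, D.lam (a ^ n) b = n * D.lam a b
  | 0 => by
    rw [pow_zero, Nat.cast_zero, zero_mul]
    exact D.lam_eq (one_mem _) hb (by rw [commutatorElement_one_left, zk_zero])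
  | n + 1 => by
    rw [pow_succ, D.lam_mul_left (pow_mem ha n) ha hb, lam_pow_left ha hb n]
    push_cast
    ring

theorem lam_conj {x a b : G} (hx : x ∈ D.Cz) (ha : a ∈ D.Q) (hb : b ∈ D.Q) :
    D.lam (x * a * x⁻¹) (x * b * x⁻¹) = D.lam a b :=
  D.lam_eq (D.normal _ hx _ ha) (D.normal _ hx _ hb) (by rw [D.conj_bracket hx ha hb, lam_spec _ ha hb])

theorem lam_self {a : G} (ha : a ∈ D.Q) : D.lam a a = 0 :=
  D.lam_eq ha ha (by rw [commutatorElement_self, zk_zero])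

theorem lam_Z {c b : G} (hc : c ∈ zpowers D.z) (hb : b ∈ D.Q) : D.lam c b = 0 :=
  D.lam_eq (D.Z_le_Q hc) hb
    (by rw [zk_zero]; exact commutatorElement_eq_one_iff_commute.2 (D.commute_Z (D.Q_le hb) hc).symm)

theorem mem_Z_of_lam {x : G} (hx : x ∈ D.Q) (h : ∀ q ∈ D.Q, D.lam x q = 0) : x ∈ zpowers D.z :=
  D.center_Q x hx fun q hq => commutatorElement_eq_one_iff_mul_comm.1 (by
    rw [← D.lam_spec hx hq, h q hq, zk_zero])

end Ext

/-- A symplectic frame of the core. -/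
structure Frame (G : Type*) [Group G] [Finite G] extends Ext G where
  /-- four elements -/
  a1 : G
  /-- second -/
  a2 : G
  /-- third -/
  b1 : G
  /-- fourth -/
  b2 : G
  a1_mem : a1 ∈ Q
  a2_mem : a2 ∈ Q
  b1_mem : b1 ∈ Q
  b2_mem : b2 ∈ Q
  l11 : toExt.lam a1 b1 = 1
  l22 : toExt.lam a2 b2 = 1
  l12 : toExt.lam a1 b2 = 0
  l21 : toExt.lam a2 b1 = 0
  laa : toExt.lam a1 a2 = 0
  lbb : toExt.lam b1 b2 = 0

end Cfsg.Agent.Co2Three.Local
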