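import Cfsg.Agent.Lib.Co2Three.Local.Code
import Mathlib.GroupTheory.Perm.Cycle.Type
import Mathlib.Data.Fintype.Pi

/-!
S3336: involutive maps of four-dimensional symplectic space over three elements.
-/

set_option autoImplicit false
set_option linter.style.haveILetI false

namespace Cfsg.Agent.Co2Three.Sp4

/-- The form is preserved. -/
def Pres (f : V4 →+ V4) : Prop := ∀ u v, sf (f u) (f v) = sf u v

theorem sf_add_right (u v w : V4) : sf u (v + w) = sf u v + sf u w := by simp [sf]; ring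
theorem sf_neg_right (u v : V4) : sf u (-v) = -sf u v := by simp [sf]; ring
theorem sf_self (u : V4) : sf u u = 0 := by simp [sf]; ring
theorem sf_zero_left (v : V4) : sf 0 v = 0 := by simp [sf]
theorem sf_smul_right (c : ZMod 3) (u v : V4) : sf u (c • v) = c * sf u v := by simp [sf]; ring
theorem sf_neg_left (u v : V4) : sf (-u) v = -sf u v := by simp [sf]; ring

theorem sf_nondeg {u : V4} (h : ∀ v, sf u v = 0) : u = 0 := by
  have h0 := h (Pi.single 0 1); have h1 := h (Pi.single 1 1)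
  have h2 := h (Pi.single 2 1); have h3 := h (Pi.single 3 1)
  simp [sf] at h0 h1 h2 h3
  funext k
  fin_cases k <;> assumption

theorem card_V4 : Nat.card V4 = 81 := by simp

/-- A fixed subspace, as an additive subgroup. -/
def fixed (u : V4 →+ V4) : AddSubgroup V4 := AddMonoidHom.eqLocus u (AddMonoidHom.id V4)

theorem mem_fixed {u : V4 →+ V4} {v : V4} : v ∈ fixed u ↔ u v = v := Iff.rfl

theorem mem_fixed_neg {u : V4 →+ V4} {v : V4} : v ∈ fixed (-u) ↔ u v = -v := by
  rw [mem_fixed, AddMonoidHom.neg_apply, neg_eq_iff_eq_neg]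

theorem three_zero : ∀ v : V4, v + v + v = 0 := by decide +kernel

theorem half (v : V4) : -(v + v) = v := neg_eq_of_add_eq_zero_right (three_zero v)

theorem cancel_three : ∀ b d c : ZMod 3, c ≠ 0 → b * c = d * c → b = d := by decide

theorem smul_cancel_three {a c : ZMod 3} {p : V4} (hp : p ≠ 0) (e : a • p = c • p) : a = c := by
  obtain ⟨k, hk⟩ : ∃ k, p k ≠ 0 := Function.ne_iff.1 hp
  exact cancel_three _ _ _ hk (congrFun e k)

variable {u : V4 →+ V4}

/-- The space is the sum of the two eigenspaces. -/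
theorem split (h2 : ∀ v, u (u v) = v) (v : V4) : ∃ p ∈ fixed u, ∃ q ∈ fixed (-u), v = p + q := by
  refine ⟨-(v + u v), ?_, -(v - u v), ?_, ?_⟩
  · rw [mem_fixed, map_neg, map_add, h2, add_comm]
  · rw [mem_fixed_neg, map_neg, map_sub, h2]
    abel
  · calc v = -(v + v) := (half v).symm
      _ = _ := by abel

theorem split_unique {v : V4} (h1 : v ∈ fixed u) (h2 : v ∈ fixed (-u)) : v = 0 := by
  rw [mem_fixed] at h1
  rw [mem_fixed_neg, h1] at h2
  rw [← half v]
  nth_rw 1 [h2]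
  simp

theorem card_split (h2 : ∀ v, u (u v) = v) : Nat.card (fixed u) * Nat.card (fixed (-u)) = 81 := by
  rw [← Nat.card_prod, ← card_V4]
  refine Nat.card_congr (Equiv.ofBijective (fun x : fixed u × fixed (-u) => (x.1 : V4) + x.2) ⟨?_, ?_⟩)
  · rintro ⟨a, b⟩ ⟨c, d⟩ h
    have e : (a : V4) - c = d - b := by rw [sub_eq_sub_iff_add_eq_add]; simpa [add_comm] using h
    have h0 := split_unique ((fixed u).sub_mem a.2 c.2) (by rw [e]; exact (fixed (-u)).sub_mem d.2 b.2)
    rw [h0] at e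
    exact Prod.ext (Subtype.ext (sub_eq_zero.1 h0)) (Subtype.ext (sub_eq_zero.1 e.symm).symm)
  · intro v
    obtain ⟨p, hp, q, hq, e⟩ := split h2 v
    exact ⟨(⟨p, hp⟩, ⟨q, hq⟩), e.symm⟩

theorem orth (hs : Pres u) {p q : V4} (hp : p ∈ fixed u) (hq : q ∈ fixed (-u)) : sf p q = 0 := by
  have h := hs p q
  rw [mem_fixed.1 hp, mem_fixed_neg.1 hq, sf_neg_right] at h
  exact (by decide : ∀ x : ZMod 3, -x = x → x = 0) _ h

theorem exists_pair (h2 : ∀ v, u (u v) = v) (hs : Pres u) {p : V4} (hp : p ∈ fixed u) (hp0 : p ≠ 0) :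
    ∃ q ∈ fixed u, sf p q ≠ 0 := by
  by_contra h
  push Not at h
  refine hp0 (sf_nondeg fun v => ?_)
  obtain ⟨a, ha, b, hb, rfl⟩ := split h2 v
  rw [sf_add_right, h a ha, orth hs hp hb, add_zero]

theorem nine_le (h2 : ∀ v, u (u v) = v) (hs : Pres u) {p : V4} (hp : p ∈ fixed u) (hp0 : p ≠ 0) :
    9 ≤ Nat.card (fixed u) := by
  obtain ⟨q, hq, hpq⟩ := exists_pair h2 hs hp hp0
  have hinj : Function.Injective fun x : ZMod 3 × ZMod 3 =>
      (⟨x.1 • p + x.2 • q, add_mem (ZMod.smul_mem hp _) (ZMod.smul_mem hq _)⟩ : fixed u) := by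
    rintro ⟨a, b⟩ ⟨c, d⟩ h
    have e := congrArg Subtype.val h
    simp only at e
    have h1 := congrArg (sf p) e
    simp only [sf_add_right, sf_smul_right, sf_self, mul_zero, zero_add] at h1
    obtain rfl : b = d := cancel_three _ _ _ hpq h1
    rw [add_left_inj] at e
    obtain rfl : a = c := smul_cancel_three hp0 e
    rfl
  have := Nat.card_le_card_of_injective _ hinj
  simpa using this

theorem pres_neg (hs : Pres u) : Pres (-u) := fun a b => by
  rw [AddMonoidHom.neg_apply, AddMonoidHom.neg_apply, sf_neg_left, sf_neg_right, neg_neg, hs]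

theorem neg_invol (h2 : ∀ v, u (u v) = v) : ∀ v, (-u) ((-u) v) = v := fun v => by
  rw [AddMonoidHom.neg_apply, AddMonoidHom.neg_apply, map_neg, neg_neg, h2]

/-- Not a scalar. -/
def NS (u : V4 →+ V4) : Prop := (∃ v, u v ≠ v) ∧ ∃ v, u v ≠ -v

theorem ns_neg (h : NS u) : NS (-u) := by
  obtain ⟨⟨a, ha⟩, b, hb⟩ := h
  exact ⟨⟨b, fun e => hb (by rw [← neg_eq_iff_eq_neg, ← AddMonoidHom.neg_apply, e])⟩,
    a, fun e => ha (neg_injective e)⟩

theorem fixed_ne (h2 : ∀ v, u (u v) = v) (hn : NS u) : ∃ p ∈ fixed u, p ≠ 0 := by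
  by_contra h
  push Not at h
  obtain ⟨v, hv⟩ := hn.2
  obtain ⟨p, hp, q, hq, rfl⟩ := split h2 v
  rw [h p hp, zero_add] at hv
  exact hv (mem_fixed_neg.1 hq)

/-- Two planes. -/
theorem card_fixed (h2 : ∀ v, u (u v) = v) (hs : Pres u) (hn : NS u) :
    Nat.card (fixed u) = 9 ∧ Nat.card (fixed (-u)) = 9 := by
  obtain ⟨p, hp, hp0⟩ := fixed_ne h2 hn
  obtain ⟨q, hq, hq0⟩ := fixed_ne (neg_invol h2) (ns_neg hn)
  have h1 := nine_le h2 hs hp hp0
  have h3 := nine_le (neg_invol h2) (pres_neg hs) hq hq0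
  have h := card_split h2
  have h4 : Nat.card (fixed (-u)) ≤ 9 := by nlinarith
  have h5 : Nat.card (fixed u) ≤ 9 := by nlinarith
  omega

theorem eq_parts {e : V4 →+ V4} {p q : V4} (hp : e p = p) (hq : e q = -q) {x1 x2 y1 y2 : ZMod 3}
    (h : x1 • p + x2 • q = y1 • p + y2 • q) : x1 • p = y1 • p ∧ x2 • q = y2 • q := by
  have h' := congrArg e h
  simp only [map_add, ZMod.map_smul, hp, hq, smul_neg] at h'
  have hh : x1 • p + x1 • p = y1 • p + y1 • p := by
    calc x1 • p + x1 • p = x1 • p + x2 • q + (x1 • p + -(x2 • q)) := by abel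
      _ = y1 • p + y2 • q + (y1 • p + -(y2 • q)) := by rw [h, h']
      _ = y1 • p + y1 • p := by abel
  have s1 : x1 • p = y1 • p := by rw [← half (x1 • p), ← half (y1 • p), hh]
  exact ⟨s1, by rwa [s1, add_right_inj] at h⟩

theorem scalar_on_plane (h2 : ∀ v, u (u v) = v) (hs : Pres u) (hn : NS u) {e : V4 →+ V4}
    (e2 : ∀ v, e (e v) = v) (es : Pres e) (hc : ∀ v, e (u v) = u (e v)) :
    (∀ p ∈ fixed u, e p = p) ∨ ∀ p ∈ fixed u, e p = -p := by
  have hst : ∀ p ∈ fixed u, e p ∈ fixed u := fun p hp => by rw [mem_fixed, ← hc, mem_fixed.1 hp]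
  have hparts : ∀ p ∈ fixed u, -(p + e p) ∈ fixed u ∧ -(p + e p) ∈ fixed e ∧
      -(p - e p) ∈ fixed u ∧ -(p - e p) ∈ fixed (-e) := fun p hp =>
    ⟨neg_mem (add_mem hp (hst p hp)), by rw [mem_fixed, map_neg, map_add, e2, add_comm],
      neg_mem (sub_mem hp (hst p hp)), by rw [mem_fixed_neg, map_neg, map_sub, e2]; abel⟩
  by_contra h
  push Not at h
  obtain ⟨⟨a, ha, ha'⟩, b, hb, hb'⟩ := h
  obtain ⟨-, -, hau, hae⟩ := hparts a ha
  obtain ⟨hbu, hbe, -, -⟩ := hparts b hb
  set q := -(a - e a)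
  set p := -(b + e b)
  have hp0 : p ≠ 0 := fun h0 => hb' (eq_neg_of_add_eq_zero_right (neg_eq_zero.1 h0))
  have hq0 : q ≠ 0 := fun h0 => ha' (sub_eq_zero.1 (neg_eq_zero.1 h0)).symm
  obtain ⟨r, hr, hpr⟩ := exists_pair h2 hs hbu hp0
  -- `p` and `q` span the plane
  have hinj : Function.Injective fun x : ZMod 3 × ZMod 3 =>
      (⟨x.1 • p + x.2 • q, add_mem (ZMod.smul_mem hbu _) (ZMod.smul_mem hau _)⟩ : fixed u) := by
    rintro ⟨x1, x2⟩ ⟨y1, y2⟩ h
    have ev := congrArg Subtype.val h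
    simp only at ev
    obtain ⟨s1, s2⟩ := eq_parts (mem_fixed.1 hbe) (mem_fixed_neg.1 hae) ev
    exact Prod.ext (smul_cancel_three hp0 s1) (smul_cancel_three hq0 s2)
  have hbij := (Nat.bijective_iff_injective_and_card _).2 ⟨hinj, by rw [(card_fixed h2 hs hn).1]; simp⟩
  obtain ⟨⟨x1, x2⟩, hx⟩ := hbij.2 ⟨r, hr⟩
  have hr' : r = x1 • p + x2 • q := (congrArg Subtype.val hx).symm
  refine hpr ?_
  rw [hr', sf_add_right, sf_smul_right, sf_self, sf_smul_right, orth es hbe hae, mul_zero, mul_zero, add_zero]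

/-- An involution commuting with a non-scalar one is a combination of it and the scalars. -/
theorem four_cases (h2 : ∀ v, u (u v) = v) (hs : Pres u) (hn : NS u) {e : V4 →+ V4}
    (e2 : ∀ v, e (e v) = v) (es : Pres e) (hc : ∀ v, e (u v) = u (e v)) :
    e = AddMonoidHom.id V4 ∨ e = -AddMonoidHom.id V4 ∨ e = u ∨ e = -u := by
  have key : ∀ f : V4 →+ V4, (∀ p ∈ fixed u, e p = f p) → (∀ p ∈ fixed (-u), e p = f p) → e = f :=
    fun f ha hb => AddMonoidHom.ext fun v => by
      obtain ⟨p, hp, q, hq, rfl⟩ := split h2 v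
      rw [map_add, map_add, ha p hp, hb q hq]
  rcases scalar_on_plane h2 hs hn e2 es hc with a | a <;>
    rcases scalar_on_plane (neg_invol h2) (pres_neg hs) (ns_neg hn) e2 es
      (fun v => by rw [AddMonoidHom.neg_apply, AddMonoidHom.neg_apply, map_neg, hc]) with b | b
  · exact Or.inl (key _ (fun p hp => a p hp) fun p hp => b p hp)
  · exact Or.inr (Or.inr (Or.inl (key _ (fun p hp => by rw [a p hp, mem_fixed.1 hp])
      fun p hp => by rw [b p hp, mem_fixed_neg.1 hp])))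
  · exact Or.inr (Or.inr (Or.inr (key _ (fun p hp => by rw [a p hp, AddMonoidHom.neg_apply, mem_fixed.1 hp])
      fun p hp => by rw [b p hp, AddMonoidHom.neg_apply, mem_fixed_neg.1 hp, neg_neg])))
  · exact Or.inr (Or.inl (key _ (fun p hp => a p hp) fun p hp => b p hp))

/-- A map of order five of a small space is trivial. -/
theorem five_small {P : AddSubgroup V4} (hP : Nat.card P = 9) {f : V4 →+ V4}
    (h5 : ∀ v, f (f (f (f (f v)))) = v) (hst : ∀ p ∈ P, f p ∈ P) : ∀ p ∈ P, f p = p := by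
  classical
  haveI : Fact (Nat.Prime 5) := ⟨Nat.prime_five⟩
  haveI := Fintype.ofFinite P
  let F : Function.End P := fun v => ⟨f v.1, hst _ v.2⟩
  have hFp : F ^ 5 ^ 1 = 1 := by
    funext v
    exact Subtype.ext (h5 v.1)
  have h := Equiv.Perm.card_fixedPoints_modEq hFp
  let A : AddSubgroup P := AddMonoidHom.eqLocus (f.comp P.subtype) P.subtype
  have e : Function.fixedPoints F ≃ A :=
    { toFun := fun v => ⟨v.1, congrArg Subtype.val v.2⟩
      invFun := fun v => ⟨v.1, Subtype.ext v.2⟩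
      left_inv := fun _ => rfl
      right_inv := fun _ => rfl }
  rw [Fintype.card_congr e, ← Nat.card_eq_fintype_card, ← Nat.card_eq_fintype_card, hP] at h
  have hd : Nat.card A ∣ 9 := hP ▸ AddSubgroup.card_addSubgroup_dvd_card A
  have hA : Nat.card A = 9 := by
    obtain ⟨i, hi, e⟩ := (Nat.dvd_prime_pow Nat.prime_three).1 (show Nat.card A ∣ 3 ^ 2 from hd)
    rw [e] at h ⊢
    interval_cases i <;> simp_all [Nat.ModEq]
  have htop : A = ⊤ := AddSubgroup.eq_top_of_card_eq _ (hA.trans hP.symm)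
  intro p hp
  have : (⟨p, hp⟩ : P) ∈ A := htop ▸ AddSubgroup.mem_top _
  exact this

/-- Order five and a non-scalar involution do not commute. -/
theorem five_id (h2 : ∀ v, u (u v) = v) (hs : Pres u) (hn : NS u) {f : V4 →+ V4}
    (h5 : ∀ v, f (f (f (f (f v)))) = v) (hc : ∀ v, f (u v) = u (f v)) : ∀ v, f v = v := by
  obtain ⟨h9, h9'⟩ := card_fixed h2 hs hn
  intro v
  obtain ⟨p, hp, q, hq, rfl⟩ := split h2 v
  rw [map_add, five_small h9 h5 (fun a ha => by rw [mem_fixed, ← hc, mem_fixed.1 ha]) p hp,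
    five_small h9' h5 (fun a ha => by rw [mem_fixed_neg, ← hc, mem_fixed_neg.1 ha, map_neg]) q hq]

end Cfsg.Agent.Co2Three.Sp4
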