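import Cfsg.Agent.Lib.Co2Three.Local.Act
import Cfsg.Agent.Lib.Co2Three.Local.Invol
import Mathlib.GroupTheory.Perm.Cycle.Type
import Mathlib.GroupTheory.SpecificGroups.Alternating.Simple

/-!
S3336: the centraliser acts faithfully on the core modulo its centre.
-/

set_option autoImplicit false
set_option linter.style.haveILetI false
set_option linter.unusedSectionVars false

namespace Cfsg.Agent.Co2Three.Local

open Subgroup
open scoped commutatorElement
open Sp4 (sf Pres NS)

/-- The even permutations have no faithful symplectic action on a space of dimension four. -/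
theorem no_A5 (φ : alternatingGroup (Fin 5) → (V4 →+ V4)) (h1 : φ 1 = AddMonoidHom.id V4)
    (hm : ∀ a b v, φ (a * b) v = φ a (φ b v)) (hp : ∀ a, Pres (φ a))
    (hi : ∀ a, φ a = AddMonoidHom.id V4 → a = 1) : False := by
  obtain ⟨a, b, w, ha, hb, hab, hwa, hwb, ha1, hb1, hab1, hne⟩ : ∃ a b w : alternatingGroup (Fin 5),
      a * a = 1 ∧ b * b = 1 ∧ a * b = b * a ∧ w * a * w⁻¹ = b ∧ w * b * w⁻¹ = a * b ∧
      a ≠ 1 ∧ b ≠ 1 ∧ a * b ≠ 1 ∧ a ≠ b :=
    ⟨⟨Equiv.swap 0 1 * Equiv.swap 2 3, Equiv.Perm.mem_alternatingGroup.2 (by decide)⟩,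
      ⟨Equiv.swap 0 2 * Equiv.swap 1 3, Equiv.Perm.mem_alternatingGroup.2 (by decide)⟩,
      ⟨Equiv.swap 1 2 * Equiv.swap 2 3, Equiv.Perm.mem_alternatingGroup.2 (by decide)⟩, by decide⟩
  have hinv : ∀ {x : alternatingGroup (Fin 5)}, x * x = 1 → ∀ v, φ x (φ x v) = v := fun {x} hx v => by
    rw [← hm, hx, h1]; rfl
  have hinj : ∀ {x y}, φ x = φ y → x = y := fun {x y} h => by
    have : φ (y⁻¹ * x) = AddMonoidHom.id V4 := AddMonoidHom.ext fun v => by
      rw [hm, h, ← hm, inv_mul_cancel, h1]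
    exact inv_mul_eq_one.1 (hi _ this) |>.symm
  have hminus : ∀ {x y}, w * x * w⁻¹ = y → φ x = -AddMonoidHom.id V4 → φ y = -AddMonoidHom.id V4 := by
    intro x y h hx
    refine AddMonoidHom.ext fun v => ?_
    rw [← h, hm, hm, hx, AddMonoidHom.neg_apply, AddMonoidHom.id_apply, map_neg, ← hm, mul_inv_cancel, h1]
    rfl
  have hne' : φ a ≠ -AddMonoidHom.id V4 := fun h => hne (hinj (h.trans (hminus hwa h).symm))
  have hns : NS (φ a) := by
    refine ⟨?_, ?_⟩
    · by_contra h
      push Not at h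
      exact ha1 (hi a (AddMonoidHom.ext h))
    · by_contra h
      push Not at h
      exact hne' (AddMonoidHom.ext h)
  rcases Sp4.four_cases (hinv ha) (hp a) hns (hinv hb) (hp b)
      (fun v => by rw [← hm, ← hm, hab]) with h | h | h | h
  · exact hb1 (hi b h)
  · have h2 := hminus hwb h
    refine ha1 (hi a (AddMonoidHom.ext fun v => ?_))
    have e : φ a (φ b v) = -v := by rw [← hm, h2]; rfl
    rw [h, AddMonoidHom.neg_apply, AddMonoidHom.id_apply, map_neg, neg_inj] at e
    exact e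
  · exact hne (hinj h).symm
  · have hab' : φ (a * b) = -AddMonoidHom.id V4 := AddMonoidHom.ext fun v => by
      rw [hm, h, AddMonoidHom.neg_apply, map_neg, hinv ha]; rfl
    have hbneg : φ b = -AddMonoidHom.id V4 := by
      refine AddMonoidHom.ext fun u => ?_
      have e' : b = w⁻¹ * (a * b) * w := by rw [← hwb]; group
      rw [e', hm, hm, hab', AddMonoidHom.neg_apply, AddMonoidHom.id_apply, map_neg, ← hm, inv_mul_cancel, h1]
      rfl
    exact ha1 (hi a (AddMonoidHom.ext fun u => neg_inj.1 (DFunLike.congr_fun (h.symm.trans hbneg) u)))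

/-- A map of order five of a group of order 16 with an invariant subgroup of order 8 is the identity. -/
theorem five_fix {H : Type*} [Group H] [Finite H] (ψ : H →* H) (h5 : ∀ a, ψ (ψ (ψ (ψ (ψ a)))) = a)
    (M : Subgroup H) (hM : ∀ a ∈ M, ψ a ∈ M) (h8 : Nat.card M = 8) (h16 : Nat.card H = 16) : ∀ a, ψ a = a := by
  classical
  haveI : Fact (Nat.Prime 5) := ⟨Nat.prime_five⟩
  haveI := Fintype.ofFinite H
  let A : Subgroup H := MonoidHom.eqLocus ψ (MonoidHom.id H)
  have key : ∀ N : Subgroup H, (∀ a ∈ N, ψ a ∈ N) → Nat.card ↥(A ⊓ N) % 5 = Nat.card N % 5 := by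
    intro N hN
    let F : Function.End N := fun v => ⟨ψ v.1, hN _ v.2⟩
    have hFp : F ^ 5 ^ 1 = 1 := by
      funext v
      exact Subtype.ext (h5 v.1)
    have h : Fintype.card N % 5 = Fintype.card (Function.fixedPoints F) % 5 :=
      Equiv.Perm.card_fixedPoints_modEq hFp
    have e : Function.fixedPoints F ≃ ↥(A ⊓ N) :=
      { toFun := fun v => ⟨v.1.1, congrArg Subtype.val v.2, v.1.2⟩
        invFun := fun v => ⟨⟨v.1, v.2.2⟩, Subtype.ext v.2.1⟩
        left_inv := fun _ => rfl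
        right_inv := fun _ => rfl }
    rw [Fintype.card_congr e, ← Nat.card_eq_fintype_card, ← Nat.card_eq_fintype_card] at h
    exact h.symm
  have h2 := key ⊤ fun a _ => mem_top _
  rw [inf_top_eq, card_top, h16] at h2
  have h1 := key M hM
  rw [h8] at h1
  have hd : Nat.card ↥(A ⊓ M) ∣ 8 := h8 ▸ card_dvd_of_le inf_le_right
  have hd' : Nat.card ↥(A ⊓ M) ∣ Nat.card A := card_dvd_of_le inf_le_left
  have hA : Nat.card A ∣ 16 := h16 ▸ card_subgroup_dvd_card A
  have hA16 : Nat.card A = 16 := by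
    have := Nat.le_of_dvd Nat.card_pos hd'
    have := Nat.le_of_dvd (by norm_num) hA
    have h8' : Nat.card ↥(A ⊓ M) = 8 := by
      generalize Nat.card ↥(A ⊓ M) = n at *
      have := Nat.le_of_dvd (by norm_num) hd
      interval_cases n <;> simp_all
    rw [h8'] at hd'
    generalize Nat.card A = n at *
    interval_cases n <;> simp_all
  intro a
  have : a ∈ A := (eq_top_of_card_eq A (hA16.trans h16.symm)).symm ▸ mem_top a
  exact this

namespace Frame

variable {G : Type*} [Group G] [Finite G] (F : Frame G)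

/-- The core in the centraliser. -/
abbrev Qc : Subgroup F.Cz := F.Q.subgroupOf F.Cz

/-- The inverse image of the 2-core in the centraliser. -/
abbrev Rc : Subgroup F.Cz := F.R.subgroupOf F.Cz

instance : F.Qc.Normal :=
  ⟨fun n hn g => mem_subgroupOf.2 (F.normal _ g.2 _ (mem_subgroupOf.1 hn))⟩

instance : F.Rc.Normal :=
  ⟨fun n hn g => mem_subgroupOf.2 (F.R_normal _ g.2 _ (mem_subgroupOf.1 hn))⟩

/-- The quotient map. -/
abbrev bar : F.Cz →* F.Cz ⧸ F.Qc := QuotientGroup.mk' F.Qc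

theorem bar_eq_one {c : F.Cz} : F.bar c = 1 ↔ (c : G) ∈ F.Q :=
  (QuotientGroup.eq_one_iff c).trans mem_subgroupOf

theorem act_bar {c d : F.Cz} (h : F.bar c = F.bar d) : F.act c = F.act d :=
  F.act_congr (mem_subgroupOf.1 (QuotientGroup.eq.1 h))

/-- The involution of the centraliser. -/
def tc : F.Cz := ⟨F.t, F.R_le F.t_mem⟩

theorem bar_tc_sq : F.bar F.tc * F.bar F.tc = 1 := by
  rw [← map_mul, bar_eq_one]
  exact F.t_sq

theorem bar_tc_ne : F.bar F.tc ≠ 1 := fun h => F.t_not (F.bar_eq_one.1 h)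

theorem bar_cases {r : F.Cz} (hr : (r : G) ∈ F.Q ∨ (r : G) * F.t⁻¹ ∈ F.Q) :
    F.bar r = 1 ∨ F.bar r = F.bar F.tc := by
  rcases hr with h | h
  · exact Or.inl (F.bar_eq_one.2 h)
  · refine Or.inr (mul_inv_eq_one.1 ?_)
    rw [← map_inv, ← map_mul, bar_eq_one]
    exact h

theorem bracket_cases {a b : F.Cz} (ha : a ∈ F.Rc) (hb : b ∈ F.Rc) :
    ⁅F.bar a, F.bar b⁆ = 1 ∨ ⁅F.bar a, F.bar b⁆ = F.bar F.tc := by
  rw [← map_commutatorElement]
  exact F.bar_cases (F.R_comm _ ha _ hb)

theorem sq_cases {a : F.Cz} (ha : a ∈ F.Rc) :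
    F.bar a * F.bar a = 1 ∨ F.bar a * F.bar a = F.bar F.tc := by
  rw [← map_mul]
  exact F.bar_cases (F.R_sq _ ha)

theorem center_cases {a : F.Cz} (ha : a ∈ F.Rc) (h : ∀ b ∈ F.Rc, Commute (F.bar a) (F.bar b)) :
    F.bar a = 1 ∨ F.bar a = F.bar F.tc := by
  refine F.bar_cases (F.R_center _ ha fun b hb => ?_)
  have h1 : F.bar ⁅a, (⟨b, F.R_le hb⟩ : F.Cz)⁆ = 1 := by
    rw [map_commutatorElement, commutatorElement_eq_one_iff_commute]
    exact h _ hb
  exact F.bar_eq_one.1 h1

theorem tc_mem : F.tc ∈ F.Rc := F.t_mem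

theorem bar_tc_comm {a : F.Cz} (ha : a ∈ F.Rc) : Commute (F.bar a) (F.bar F.tc) := by
  rcases F.bracket_cases ha F.tc_mem with h | h
  · exact commutatorElement_eq_one_iff_commute.1 h
  · rw [commutatorElement_def] at h
    have h' : F.bar a * F.bar F.tc * (F.bar a)⁻¹ = F.bar F.tc * F.bar F.tc := by
      conv_rhs => lhs; rw [← h]
      group
    rw [F.bar_tc_sq, mul_inv_eq_one, mul_eq_left] at h'
    exact absurd h' F.bar_tc_ne

theorem bar_tc_central (c : F.Cz) : Commute (F.bar c) (F.bar F.tc) := by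
  have hm : c * F.tc * c⁻¹ ∈ F.Rc := Subgroup.Normal.conj_mem inferInstance _ F.tc_mem _
  rcases F.center_cases hm (fun b hb => by
      have hb' : c⁻¹ * b * c ∈ F.Rc := by
        simpa using Subgroup.Normal.conj_mem (inferInstance : F.Rc.Normal) _ hb c⁻¹
      have := (F.bar_tc_comm hb').symm
      have := this.map (MulAut.conj (F.bar c)).toMonoidHom
      simpa [map_mul, mul_assoc] using this) with h | h
  · exact absurd (by simpa using h) F.bar_tc_ne
  · rw [map_mul, map_mul, map_inv, mul_inv_eq_iff_eq_mul] at h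
    exact h

theorem bar_pow_four {a : F.Cz} (ha : a ∈ F.Rc) : F.bar a ^ 4 = 1 := by
  rw [show 4 = 2 * 2 from rfl, pow_mul, pow_two (F.bar a)]
  rcases F.sq_cases ha with h | h <;> rw [h]
  · exact one_pow 2
  · rw [pow_two, F.bar_tc_sq]

/-- There are elements of order five. -/
theorem exists_five : ∃ x : F.Cz, x ∉ F.Rc ∧ F.bar x ^ 5 = 1 := by
  obtain ⟨a, ha⟩ : ∃ a : alternatingGroup (Fin 5), orderOf a = 5 := by
    haveI : Fact (Nat.Prime 5) := ⟨Nat.prime_five⟩
    exact exists_prime_orderOf_dvd_card' 5 (by rw [nat_card_alternatingGroup, Nat.card_fin]; decide)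
  obtain ⟨c, rfl⟩ := F.pi_surj a
  refine ⟨c ^ 4, fun h => ?_, ?_⟩
  · have h' := (F.pi_ker (c ^ 4)).2 (mem_subgroupOf.1 h)
    rw [map_pow, ← orderOf_dvd_iff_pow_eq_one, ha] at h'
    norm_num at h'
  · have h5 : c ^ 5 ∈ F.Rc := mem_subgroupOf.2 ((F.pi_ker (c ^ 5)).1 (by rw [map_pow]; exact orderOf_dvd_iff_pow_eq_one.1 (dvd_of_eq ha)))
    rw [← F.bar_pow_four h5, map_pow, map_pow, ← pow_mul, ← pow_mul]

theorem act_five {x : F.Cz} (h : F.bar x ^ 5 = 1) (v : V4) :
    F.act x (F.act x (F.act x (F.act x (F.act x v)))) = v := by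
  simp only [← F.act_mul, ← mul_assoc]
  rw [F.act_bar (d := 1) (by rw [map_one, ← h]; simp [pow_succ, mul_assoc]), F.act_one]
  rfl

/-- The kernel of the action. -/
noncomputable def K : Subgroup F.Cz where
  carrier := {c | F.act c = AddMonoidHom.id V4}
  one_mem' := F.act_one
  mul_mem' {a b} ha hb := AddMonoidHom.ext fun v => by
    rw [act_mul, show F.act a = _ from ha, show F.act b = _ from hb]; rfl
  inv_mem' {a} ha := AddMonoidHom.ext fun v => by
    have := F.act_inj (c := a) (d := 1) (ha.trans F.act_one.symm)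
    rw [mul_one] at this
    rw [this]

theorem mem_K {c : F.Cz} : c ∈ F.K ↔ F.act c = AddMonoidHom.id V4 := Iff.rfl

instance : F.K.Normal :=
  ⟨fun n hn g => AddMonoidHom.ext fun v => by
    rw [act_mul, act_mul, show F.act n = _ from hn, AddMonoidHom.id_apply, act_inv_apply]; rfl⟩

theorem card_Rc : Nat.card F.Rc = 243 * 32 := by
  rw [Nat.card_congr (subgroupOfEquivOfLe F.R_le).toEquiv, F.card_R]

theorem card_Qc : Nat.card F.Qc = 243 := by
  rw [Nat.card_congr (subgroupOfEquivOfLe F.Q_le).toEquiv, F.card_Q]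

/-- The Sylow group in the centraliser. -/
abbrev Sc : Sylow 3 F.Cz := F.S.subtype F.S_le

theorem card_S : Nat.card (F.S : Subgroup G) = 729 := by
  haveI : Fact (Nat.Prime 3) := ⟨Nat.prime_three⟩
  have h := (F.Sc).card_eq_multiplicity
  rw [F.card_C] at h
  have e : Nat.card (F.Sc : Subgroup F.Cz) = Nat.card (F.S : Subgroup G) :=
    Nat.card_congr (subgroupOfEquivOfLe F.S_le).toEquiv
  rw [← e, h, show 243 * 32 * 60 = 3 ^ 6 * 640 from rfl, Nat.factorization_mul (by norm_num) (by norm_num),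
    Finsupp.add_apply, Nat.Prime.factorization_pow Nat.prime_three, Finsupp.single_eq_same,
    Nat.factorization_eq_zero_of_not_dvd (by norm_num : ¬ 3 ∣ 640)]
  norm_num

theorem Q_le_S : F.Q ≤ (F.S : Subgroup G) := by
  have h : F.Qc ≤ (F.Sc : Subgroup F.Cz) := by
    haveI : Fact (Nat.Prime 3) := ⟨Nat.prime_three⟩
    exact (IsPGroup.of_card (show Nat.card F.Qc = 3 ^ 5 by rw [F.card_Qc]; rfl)).le_sylow_of_normal F.Sc
  intro q hq
  have := h (x := ⟨q, F.Q_le hq⟩) hq
  exact this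

theorem K_cap_S {c : F.Cz} (hc : c ∈ F.K) (hS : (c : G) ∈ (F.S : Subgroup G)) : (c : G) ∈ F.Q := by
  by_contra hcQ
  have hmem := (F.act_eq_id (c := c)).1 hc
  have hμ : ∀ q ∈ F.Q, F.zk (F.lam (c : G) q) = ⁅(c : G), q⁆ := fun q hq => F.lam_spec' (hmem q hq)
  have hb : ∀ a ∈ F.Q, ∀ b ∈ F.Q, F.lam (c : G) (a * b) = F.lam (c : G) a + F.lam (c : G) b := by
    intro a ha b hb
    apply F.zk_inj
    rw [F.zk_add, hμ _ (mul_mem ha hb), hμ a ha, hμ b hb,
      show ⁅(c : G), a * b⁆ = ⁅(c : G), a⁆ * (a * ⁅(c : G), b⁆ * a⁻¹) by simp only [commutatorElement_def]; group,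
      F.fix_Z (F.Q_le ha) (hmem b hb)]
  have hz : ∀ d ∈ zpowers F.z, F.lam (c : G) d = 0 := fun d hd => F.zk_inj (by
    rw [hμ d (F.Z_le_Q hd), F.zk_zero]
    exact commutatorElement_eq_one_iff_commute.2 (F.commute_Z c.2 hd))
  have hfac : ∀ q ∈ F.Q, F.lam (c : G) q = F.lam (c : G) (F.lift (F.crd q)) := by
    intro q hq
    obtain ⟨d, hd, e⟩ := F.decomp hq
    conv_lhs => rw [e]
    rw [hb _ (F.lift_mem _) _ (F.Z_le_Q hd), hz d hd, add_zero]
  let χ : V4 →+ ZMod 3 := AddMonoidHom.mk' (fun v => F.lam (c : G) (F.lift v)) fun u v => by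
    have := hfac _ (mul_mem (F.lift_mem u) (F.lift_mem v))
    rw [hb _ (F.lift_mem u) _ (F.lift_mem v), F.crd_mul (F.lift_mem u) (F.lift_mem v), F.crd_lift, F.crd_lift] at this
    exact this.symm
  set w : V4 := ![χ (Pi.single 2 1), χ (Pi.single 3 1), -χ (Pi.single 0 1), -χ (Pi.single 1 1)] with hw
  have hχ : ∀ v, χ v = sf w v := fun v => by
    conv_lhs => rw [Sp4.v4_decomp v]
    simp only [map_add, ZMod.map_smul, smul_eq_mul]
    simp [sf, hw]
    ring
  set y : G := (F.lift w)⁻¹ * (c : G) with hy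
  have hyS : y ∈ (F.S : Subgroup G) := mul_mem (inv_mem (F.Q_le_S (F.lift_mem w))) hS
  have hyc : ∀ q ∈ F.Q, y * q = q * y := by
    intro q hq
    have h1 : ⁅(c : G), q⁆ = ⁅F.lift w, q⁆ := by
      rw [← hμ q hq, ← F.lam_spec (F.lift_mem w) hq, hfac q hq, ← F.sf_crd (F.lift_mem w) hq, F.crd_lift]
      exact congrArg F.zk (hχ _)
    have h2 : (c : G) * q * (c : G)⁻¹ = F.lift w * q * (F.lift w)⁻¹ := by
      simpa [commutatorElement_def] using h1
    calc y * q = (F.lift w)⁻¹ * ((c : G) * q * (c : G)⁻¹) * (c : G) := by rw [hy]; group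
      _ = q * y := by rw [h2, hy]; group
  have hsub : F.Q ⊔ zpowers (c : G) = (F.S : Subgroup G) := by
    have hle : F.Q ⊔ zpowers (c : G) ≤ (F.S : Subgroup G) := sup_le F.Q_le_S (zpowers_le.2 hS)
    refine eq_of_le_of_card_ge hle ?_
    have hd := card_dvd_of_le hle
    have hd' : 243 ∣ Nat.card ↥(F.Q ⊔ zpowers (c : G)) := F.card_Q ▸ card_dvd_of_le le_sup_left
    have hne : Nat.card ↥(F.Q ⊔ zpowers (c : G)) ≠ 243 := fun h => hcQ
      ((eq_of_le_of_card_ge le_sup_left (by rw [h, F.card_Q])).symm.le (mem_sup_right (mem_zpowers _)))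
    rw [F.card_S] at hd ⊢
    obtain ⟨k, hk⟩ := hd'
    rw [hk] at hd hne ⊢
    have : k ∣ 3 := Nat.dvd_of_mul_dvd_mul_left (by norm_num : 0 < 243) hd
    rcases (Nat.dvd_prime Nat.prime_three).1 this with rfl | rfl <;> omega
  have hcy : (c : G) = F.lift w * y := by rw [hy]; group
  have hyz : y ∈ zpowers F.z := by
    refine F.center_S y hyS fun s hs => ?_
    rw [← hsub] at hs
    have hy' : y ∈ centralizer ((F.Q ⊔ zpowers (c : G) : Subgroup G) : Set G) := by
      rw [sup_eq_closure, centralizer_closure]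
      rintro s' (hq | hq)
      · exact (hyc s' hq).symm
      · obtain ⟨k, rfl⟩ := mem_zpowers_iff.1 hq
        have hcy' : Commute (c : G) y := by
          rw [hcy]
          exact (show Commute (F.lift w) y from (hyc _ (F.lift_mem w)).symm).mul_left (Commute.refl y)
        exact (hcy'.zpow_left k).eq
    exact (mem_centralizer_iff.1 hy' s hs).symm
  exact hcQ (by rw [hcy]; exact mul_mem (F.lift_mem w) (F.Z_le_Q hyz))

theorem pi_range_dichotomy (L : Subgroup F.Cz) [L.Normal] :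
    L.map F.pi = ⊥ ∨ L.map F.pi = ⊤ := by
  haveI : IsSimpleGroup (alternatingGroup (Fin 5)) := alternatingGroup.isSimpleGroup (by simp)
  exact (Subgroup.Normal.map (inferInstance : L.Normal) F.pi F.pi_surj).eq_bot_or_eq_top

theorem le_Rc_of_map_bot {L : Subgroup F.Cz} (h : L.map F.pi = ⊥) : L ≤ F.Rc := fun c hc =>
  mem_subgroupOf.2 ((F.pi_ker c).1 (mem_bot.1 (h ▸ mem_map_of_mem F.pi hc)))

theorem K_le_Rc : F.K ≤ F.Rc := by
  haveI : Fact (Nat.Prime 3) := ⟨Nat.prime_three⟩
  rcases F.pi_range_dichotomy F.K with h | h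
  · exact F.le_Rc_of_map_bot h
  exfalso
  obtain ⟨a, ha⟩ : ∃ a : alternatingGroup (Fin 5), orderOf a = 3 :=
    exists_prime_orderOf_dvd_card' 3 (by rw [nat_card_alternatingGroup, Nat.card_fin]; decide)
  obtain ⟨k, hk, rfl⟩ := mem_map.1 (h ▸ mem_top a : a ∈ F.K.map F.pi)
  have hn : orderOf k ≠ 0 := (orderOf_pos k).ne'
  set m := orderOf k / 3 ^ (orderOf k).factorization 3 with hm
  have hm3 : ¬ 3 ∣ m := Nat.not_dvd_ordCompl Nat.prime_three hn
  have hmul : 3 ^ (orderOf k).factorization 3 * m = orderOf k := Nat.ordProj_mul_ordCompl_eq_self _ 3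
  have hp : IsPGroup 3 (zpowers (k ^ m)) := by
    refine IsPGroup.of_card (n := (orderOf k).factorization 3) ?_
    rw [Nat.card_zpowers, orderOf_pow' k (fun h0 : m = 0 => hm3 (h0 ▸ dvd_zero 3)),
      Nat.gcd_eq_right (Dvd.intro_left _ hmul)]
    exact Nat.div_eq_of_eq_mul_left (Nat.pos_of_ne_zero fun h0 : m = 0 => hm3 (h0 ▸ dvd_zero 3)) hmul.symm
  obtain ⟨P, hP⟩ := hp.exists_le_sylow
  obtain ⟨g, hg⟩ := MulAction.exists_smul_eq F.Cz P F.Sc
  have hmem : g * k ^ m * g⁻¹ ∈ (F.Sc : Subgroup F.Cz) := by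
    rw [← hg, Sylow.coe_subgroup_smul]
    exact ⟨k ^ m, hP (mem_zpowers _), rfl⟩
  have hQ := F.K_cap_S (Subgroup.Normal.conj_mem inferInstance _ (pow_mem hk m) g) hmem
  have hR : F.pi (g * k ^ m * g⁻¹) = 1 := (F.pi_ker _).2 (F.Q_le_R hQ)
  rw [map_mul, map_mul, map_inv, conj_eq_one_iff, map_pow, ← orderOf_dvd_iff_pow_eq_one, ha] at hR
  exact hm3 hR

/-- A normal subgroup mapped onto the alternating group meets the 2-core outside the kernel. -/
theorem no_complement (L : Subgroup F.Cz) [L.Normal] (htop : L.map F.pi = ⊤)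
    (hLK : ∀ c ∈ L, c ∈ F.Rc → c ∈ F.K) : False := by
  classical
  have hex : ∀ a : alternatingGroup (Fin 5), ∃ c ∈ L, F.pi c = a := fun a => mem_map.1 (htop ▸ mem_top a)
  choose s hs hs' using hex
  have key : ∀ c ∈ L, ∀ d ∈ L, F.pi c = F.pi d → F.act c = F.act d := by
    intro c hc d hd h
    have hk : c⁻¹ * d ∈ F.K := hLK _ (mul_mem (inv_mem hc) hd)
      (mem_subgroupOf.2 ((F.pi_ker _).1 (by rw [map_mul, map_inv, h, inv_mul_cancel])))
    refine AddMonoidHom.ext fun v => ?_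
    conv_rhs => rw [show d = c * (c⁻¹ * d) by group, act_mul, F.mem_K.1 hk]
    rfl
  refine no_A5 (fun a => F.act (s a)) ?_ ?_ (fun a => F.act_pres _) ?_
  · exact (key _ (hs 1) 1 (one_mem L) (by rw [hs', map_one])).trans F.act_one
  · intro a b v
    show F.act (s (a * b)) v = F.act (s a) (F.act (s b) v)
    rw [← F.act_mul, key _ (hs _) _ (mul_mem (hs a) (hs b)) (by rw [map_mul, hs', hs', hs'])]
  · intro a ha
    rw [← hs' a]
    exact (F.pi_ker _).2 (mem_subgroupOf.1 (F.K_le_Rc (F.mem_K.2 ha)))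

theorem act_sq_of_tc_mem (ht : F.tc ∈ F.K) {r : F.Cz} (hr : r ∈ F.Rc) :
    ∀ v, F.act r (F.act r v) = v := fun v => by
  rw [← F.act_mul]
  rcases F.sq_cases hr with h | h
  · rw [F.act_bar (d := 1) (by rw [map_mul, h, map_one]), F.act_one]; rfl
  · rw [F.act_bar (d := F.tc) (by rw [map_mul, h]), F.mem_K.1 ht]; rfl

theorem act_comm_of_tc_mem (ht : F.tc ∈ F.K) {r b : F.Cz} (hr : r ∈ F.Rc) (hb : b ∈ F.Rc) :
    ∀ v, F.act r (F.act b v) = F.act b (F.act r v) := fun v => by
  rw [← F.act_mul, ← F.act_mul]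
  rcases F.bracket_cases hr hb with h | h
  · rw [F.act_bar (d := b * r) (by rw [map_mul, map_mul]; exact commutatorElement_eq_one_iff_mul_comm.1 h)]
  · rw [F.act_bar (d := F.tc * (b * r)) (by
      rw [map_mul, map_mul, map_mul, ← h, commutatorElement_def]; group), F.act_mul F.tc, F.mem_K.1 ht]
    rfl

theorem act_scalar_of_tc_mem (ht : F.tc ∈ F.K) {r : F.Cz} (hr : r ∈ F.Rc) :
    F.act r = AddMonoidHom.id V4 ∨ F.act r = -AddMonoidHom.id V4 := by
  by_contra hns
  push Not at hns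
  have hN : NS (F.act r) := by
    constructor
    · by_contra h
      push Not at h
      exact hns.1 (AddMonoidHom.ext h)
    · by_contra h
      push Not at h
      exact hns.2 (AddMonoidHom.ext h)
  obtain ⟨x, hx, hx5⟩ := F.exists_five
  have h2 := F.act_sq_of_tc_mem ht hr
  set u := F.act r with hu
  set f := F.act x with hf
  have hf5 : ∀ v, f (f (f (f (f v)))) = v := F.act_five hx5
  have hm : x * r * x⁻¹ ∈ F.Rc := Subgroup.Normal.conj_mem inferInstance _ hr x
  have he : ∀ v, F.act (x * r * x⁻¹) (f v) = f (u v) := fun v => by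
    rw [hf, hu, ← F.act_mul, ← F.act_mul, inv_mul_cancel_right]
  have hcomm2 : ∀ v, f (f (u v)) = u (f (f v)) := by
    rcases Sp4.four_cases h2 (F.act_pres r) hN (F.act_sq_of_tc_mem ht hm) (F.act_pres _)
      (F.act_comm_of_tc_mem ht hm hr) with h | h | h | h
    · refine absurd ?_ hns.1
      refine AddMonoidHom.ext fun v => ?_
      have := he v
      rw [h, AddMonoidHom.id_apply] at this
      exact (Function.LeftInverse.injective (g := fun w => f (f (f (f w)))) hf5 this).symm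
    · refine absurd ?_ hns.2
      refine AddMonoidHom.ext fun v => ?_
      have := he v
      rw [h, AddMonoidHom.neg_apply, AddMonoidHom.id_apply, ← map_neg] at this
      exact (Function.LeftInverse.injective (g := fun w => f (f (f (f w)))) hf5 this).symm
    · intro v
      rw [h] at he
      rw [he, he]
    · intro v
      have he' : ∀ v, f (u v) = -u (f v) := fun v => by rw [← he, h]; rfl
      rw [he', map_neg, he', neg_neg]
  have hid : ∀ v, f (f v) = v :=
    Sp4.five_id h2 (F.act_pres r) hN (f := f.comp f) (fun v => by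
      show f (f (f (f (f (f (f (f (f (f v))))))))) = v
      rw [hf5, hf5]) hcomm2
  refine hx (F.K_le_Rc (F.mem_K.2 (AddMonoidHom.ext fun v => ?_)))
  conv_rhs => rw [AddMonoidHom.id_apply, ← hf5 v, hid, hid]

theorem tc_not_K : F.tc ∉ F.K := by
  classical
  intro ht
  by_cases hall : ∀ r ∈ F.Rc, r ∈ F.K
  · exact F.no_complement ⊤ (Subgroup.map_top_of_surjective _ F.pi_surj) fun c _ hc => hall c hc
  push Not at hall
  obtain ⟨r0, hr0, hr0K⟩ := hall
  -- the elements centralising the 2-core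
  let L : Subgroup F.Cz :=
    { carrier := {c | ∀ r ∈ F.Rc, Commute (F.bar c) (F.bar r)}
      one_mem' := fun r _ => by rw [map_one]; exact Commute.one_left _
      mul_mem' := fun {a b} ha hb r hr => by rw [map_mul]; exact (ha r hr).mul_left (hb r hr)
      inv_mem' := fun {a} ha r hr => by rw [map_inv]; exact (ha r hr).inv_left }
  haveI : L.Normal := ⟨fun n hn g r hr => by
    have := (hn _ (Subgroup.Normal.conj_mem (inferInstance : F.Rc.Normal) _ hr g⁻¹)).map
      (MulAut.conj (F.bar g)).toMonoidHom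
    simpa [mul_assoc] using this⟩
  have hLK : ∀ c ∈ L, c ∈ F.Rc → c ∈ F.K := by
    intro c hc hcR
    rcases F.center_cases hcR hc with h | h
    · exact F.mem_K.2 (by rw [F.act_bar (d := 1) (by rw [h, map_one]), F.act_one])
    · exact F.mem_K.2 (by rw [F.act_bar h]; exact F.mem_K.1 ht)
  rcases F.pi_range_dichotomy L with h | h
  swap
  · exact F.no_complement L h hLK
  obtain ⟨x, hx, hx5⟩ := F.exists_five
  refine hx (F.le_Rc_of_map_bot h fun r hr => ?_)
  -- the subgroup of the centre of the 2-core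
  let T : Subgroup F.Rc :=
    { carrier := {r | ∀ b ∈ F.Rc, Commute (F.bar r.1) (F.bar b)}
      one_mem' := fun b _ => by show Commute (F.bar 1) _; rw [map_one]; exact Commute.one_left _
      mul_mem' := fun {a b} ha hb r hr => by
        show Commute (F.bar (a.1 * b.1)) _
        rw [map_mul]; exact (ha r hr).mul_left (hb r hr)
      inv_mem' := fun {a} ha r hr => by
        show Commute (F.bar a.1⁻¹) _
        rw [map_inv]; exact (ha r hr).inv_left }
  have hTt : ∀ r : F.Rc, r ∈ T → F.bar r.1 = 1 ∨ F.bar r.1 = F.bar F.tc := fun r hr => F.center_cases r.2 hr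
  have hTmem : ∀ r : F.Rc, (F.bar r.1 = 1 ∨ F.bar r.1 = F.bar F.tc) → r ∈ T := by
    intro r hr b hb
    rcases hr with e | e <;> rw [e]
    · exact Commute.one_left _
    · exact (F.bar_tc_comm hb).symm
  haveI : T.Normal := ⟨fun n hn g => hTmem _ (by
    show F.bar (g.1 * n.1 * g.1⁻¹) = 1 ∨ F.bar (g.1 * n.1 * g.1⁻¹) = _
    rw [map_mul, map_mul, map_inv, ← (hn _ g.2).eq, mul_inv_cancel_right]
    exact hTt n hn)⟩
  have hTK : ∀ r : F.Rc, r ∈ T → r.1 ∈ F.K := fun r hr => hLK r.1 hr r.2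
  -- its order
  have hTcard : Nat.card T = 486 := by
    have e : T ≃ F.Qc × Fin 2 :=
      Equiv.symm <| Equiv.ofBijective (fun p : F.Qc × Fin 2 =>
        (⟨⟨p.1.1 * F.tc ^ p.2.val, mul_mem (mem_subgroupOf.2 (F.Q_le_R p.1.2)) (pow_mem F.tc_mem _)⟩, hTmem _ (by
          show F.bar (p.1.1 * F.tc ^ p.2.val) = 1 ∨ F.bar (p.1.1 * F.tc ^ p.2.val) = _
          rw [map_mul, F.bar_eq_one.2 p.1.2, one_mul, map_pow]
          obtain ⟨_ | _ | n, hn⟩ := p.2
          · exact Or.inl (pow_zero _)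
          · exact Or.inr (pow_one _)
          · omega)⟩ : T)) ⟨by
        rintro ⟨q, i⟩ ⟨q', i'⟩ e
        have e' := congrArg (fun w : T => w.1.1) e
        simp only at e'
        have eb := congrArg F.bar e'
        rw [map_mul, map_mul, F.bar_eq_one.2 q.2, F.bar_eq_one.2 q'.2, one_mul, one_mul, map_pow, map_pow] at eb
        obtain rfl : i = i' := by
          fin_cases i <;> fin_cases i' <;>
            first
              | rfl
              | (exact absurd (by simpa using eb.symm) F.bar_tc_ne)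
              | (exact absurd (by simpa using eb) F.bar_tc_ne)
        rw [Prod.mk.injEq]
        exact ⟨Subtype.ext (mul_right_cancel e'), rfl⟩, by
        rintro ⟨r, hr⟩
        rcases hTt r hr with e | e
        · exact ⟨(⟨r.1, F.bar_eq_one.1 e⟩, 0), Subtype.ext (Subtype.ext (by simp))⟩
        · exact ⟨(⟨r.1 * F.tc⁻¹, mem_subgroupOf.2 ((F.bar_eq_one (c := r.1 * F.tc⁻¹)).1
            (by rw [map_mul, map_inv, e, mul_inv_cancel]))⟩, 1),
            Subtype.ext (Subtype.ext (by simp))⟩⟩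
    rw [Nat.card_congr e, Nat.card_prod, F.card_Qc, Nat.card_fin]
  have hH : Nat.card (F.Rc ⧸ T) = 16 := by
    have h := card_eq_card_quotient_mul_card_subgroup T
    rw [F.card_Rc, hTcard] at h
    omega
  -- the invariant hyperplane
  let χ : F.Rc →* Multiplicative (ZMod 2) :=
    MonoidHom.mk' (fun r => if r.1 ∈ F.K then 1 else Multiplicative.ofAdd 1) fun a b => by
      show (if a.1 * b.1 ∈ F.K then (1 : Multiplicative (ZMod 2)) else _) = _
      by_cases ha : a.1 ∈ F.K
      · simp [ha, F.K.mul_mem_cancel_left ha]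
      · by_cases hb : b.1 ∈ F.K
        · simp [hb, ha, F.K.mul_mem_cancel_right hb]
        · have hab : a.1 * b.1 ∈ F.K := by
            have h1 := (F.act_scalar_of_tc_mem ht a.2).resolve_left ha
            have h2 := (F.act_scalar_of_tc_mem ht b.2).resolve_left hb
            exact F.mem_K.2 (AddMonoidHom.ext fun v => by
              rw [act_mul, h1, h2]; exact neg_neg v)
          simp [ha, hb, hab]
          rfl
  have hχT : T ≤ χ.ker := fun r hr => if_pos (hTK r hr)
  let M : Subgroup (F.Rc ⧸ T) := χ.ker.map (QuotientGroup.mk' T)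
  have hχs : Function.Surjective χ := fun y => by
    rcases (by decide : ∀ y : Multiplicative (ZMod 2), y = 1 ∨ y = Multiplicative.ofAdd 1) y with rfl | rfl
    · exact ⟨1, map_one χ⟩
    · exact ⟨⟨r0, hr0⟩, if_neg hr0K⟩
  have hM : Nat.card M = 8 := by
    have h1 := card_mul_index χ.ker
    rw [index_eq_card, Nat.card_congr (QuotientGroup.quotientKerEquivOfSurjective χ hχs).toEquiv, F.card_Rc,
      show Nat.card (Multiplicative (ZMod 2)) = 2 by rw [Nat.card_congr Multiplicative.toAdd]; simp] at h1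
    have h2 := card_eq_card_quotient_mul_card_subgroup (T.subgroupOf χ.ker)
    rw [Nat.card_congr (subgroupOfEquivOfLe hχT).toEquiv, hTcard] at h2
    have h3 : Nat.card (χ.ker ⧸ T.subgroupOf χ.ker) = Nat.card M := by
      let g : χ.ker →* M := ((QuotientGroup.mk' T).comp χ.ker.subtype).codRestrict M fun r => ⟨r.1, r.2, rfl⟩
      have hk : g.ker = T.subgroupOf χ.ker := by
        ext r
        rw [MonoidHom.mem_ker, mem_subgroupOf, ← QuotientGroup.eq_one_iff, Subtype.ext_iff]
        rfl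
      rw [← hk]
      exact Nat.card_congr (QuotientGroup.quotientKerEquivOfSurjective g
        (by rintro ⟨_, r, hr, rfl⟩; exact ⟨⟨r, hr⟩, rfl⟩)).toEquiv
    rw [h3] at h2
    omega
  -- conjugation
  let cj : F.Rc →* F.Rc := ((MulAut.conj x).toMonoidHom.comp F.Rc.subtype).codRestrict F.Rc
    fun r => Subgroup.Normal.conj_mem inferInstance _ r.2 x
  have hcj : ∀ r : F.Rc, (cj r).1 = x * r.1 * x⁻¹ := fun r => rfl
  have hcjT : T ≤ T.comap cj := fun r hr => hTmem _ (by
    rw [hcj, map_mul, map_mul, map_inv]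
    rcases hTt r hr with e | e <;> rw [e]
    · left; group
    · right; rw [(F.bar_tc_central x).eq, mul_inv_cancel_right])
  let ψ := QuotientGroup.map T T cj hcjT
  have hψ5 : ∀ a, ψ (ψ (ψ (ψ (ψ a)))) = a := by
    intro a
    obtain ⟨r, rfl⟩ := QuotientGroup.mk'_surjective T a
    simp only [ψ, QuotientGroup.mk'_apply, QuotientGroup.map_mk]
    rw [QuotientGroup.eq]
    refine hTmem _ (Or.inl ?_)
    simp only [Subgroup.coe_mul, Subgroup.coe_inv, hcj, map_mul, map_inv]
    have h5 : F.bar x * (F.bar x * (F.bar x * (F.bar x * F.bar x))) = 1 := by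
      rw [← hx5]; simp [pow_succ, mul_assoc]
    calc _ = (F.bar x * (F.bar x * (F.bar x * (F.bar x * F.bar x)))) * (F.bar r.1)⁻¹ *
          (F.bar x * (F.bar x * (F.bar x * (F.bar x * F.bar x))))⁻¹ * F.bar r.1 := by simp only [mul_inv_rev, inv_inv, mul_assoc]
      _ = 1 := by rw [h5]; group
  have hψM : ∀ a ∈ M, ψ a ∈ M := by
    rintro _ ⟨r, hr, rfl⟩
    refine ⟨cj r, ?_, rfl⟩
    have hrK : r.1 ∈ F.K := by
      by_contra hn
      exact absurd ((if_neg hn : χ r = _).symm.trans hr) (by decide)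
    exact if_pos (by rw [hcj]; exact Subgroup.Normal.conj_mem inferInstance _ hrK x)
  have hfix := five_fix ψ hψ5 M hψM hM hH
  have hx' : ∀ r : F.Rc, ⁅F.bar x, F.bar r.1⁆ = 1 := by
    intro r
    have h := hfix (QuotientGroup.mk' T r)
    simp only [ψ, QuotientGroup.mk'_apply, QuotientGroup.map_mk] at h
    rw [QuotientGroup.eq] at h
    have hX : F.bar x * F.bar r.1 * (F.bar x)⁻¹ = F.bar r.1 ∨
        F.bar x * F.bar r.1 * (F.bar x)⁻¹ = F.bar r.1 * F.bar F.tc := by
      rcases hTt _ h with e | e <;>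
        simp only [Subgroup.coe_mul, Subgroup.coe_inv, hcj, map_mul, map_inv] at e
      · exact Or.inl (inv_mul_eq_one.1 e)
      · right
        have hc := F.bar_tc_central r.1
        rw [inv_mul_eq_iff_eq_mul] at e
        calc _ = F.bar x * F.bar r.1 * (F.bar x)⁻¹ * F.bar F.tc * (F.bar F.tc)⁻¹ := by group
          _ = F.bar r.1 * (F.bar F.tc)⁻¹ := by rw [← e]
          _ = _ := by rw [inv_eq_of_mul_eq_one_left F.bar_tc_sq]
    rw [commutatorElement_def, mul_inv_eq_one]
    rcases hX with e | e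
    · exact e
    exfalso
    set X := F.bar x
    set R' := F.bar r.1
    set τ := F.bar F.tc
    have hXτ : X * τ * X⁻¹ = τ := by rw [(F.bar_tc_central x).eq, mul_inv_cancel_right]
    have step : ∀ n : ℕ, X ^ n * R' * (X ^ n)⁻¹ = R' * τ ^ n := by
      intro n
      induction n with
      | zero => simp
      | succ n ih =>
        rw [pow_succ' X, show X * X ^ n * R' * (X * X ^ n)⁻¹ = X * (X ^ n * R' * (X ^ n)⁻¹) * X⁻¹ by group, ih,
          show X * (R' * τ ^ n) * X⁻¹ = X * R' * X⁻¹ * (X * τ * X⁻¹) ^ n by rw [conj_pow]; group, hXτ, e,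
          pow_succ' τ, mul_assoc]
    have h5 := step 5
    rw [hx5, inv_one, mul_one, one_mul, left_eq_mul, show (5 : ℕ) = 2 * 2 + 1 from rfl, pow_succ, pow_mul,
      pow_two τ, F.bar_tc_sq, one_pow, one_mul] at h5
    exact F.bar_tc_ne h5
  exact commutatorElement_eq_one_iff_commute.1 (hx' ⟨r, hr⟩)

/-- The action is faithful modulo the core. -/
theorem mem_K_iff {c : F.Cz} : c ∈ F.K ↔ (c : G) ∈ F.Q := by
  refine ⟨fun h => ?_, fun h => F.mem_K.2 (F.act_Q h)⟩
  by_contra hc
  refine F.tc_not_K ?_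
  have hR := F.K_le_Rc h
  have hQK : ∀ {k : F.Cz}, F.bar k = F.bar F.tc → k ∈ F.K → F.tc ∈ F.K := fun {k} hk hK =>
    F.mem_K.2 (by rw [← F.act_bar hk]; exact F.mem_K.1 hK)
  by_cases hall : ∀ b ∈ F.Rc, Commute (F.bar c) (F.bar b)
  · rcases F.center_cases hR hall with e | e
    · exact absurd (F.bar_eq_one.1 e) hc
    · exact hQK e h
  · push Not at hall
    obtain ⟨b, hb, hne⟩ := hall
    refine hQK (k := ⁅c, b⁆) ?_ ?_
    · rw [map_commutatorElement]
      exact (F.bracket_cases hR hb).resolve_left fun e => hne (commutatorElement_eq_one_iff_commute.1 e)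
    · rw [commutatorElement_def, mul_assoc, mul_assoc, ← mul_assoc b]
      exact mul_mem h (Subgroup.Normal.conj_mem inferInstance _ (inv_mem h) b)

theorem act_eq_iff {c d : F.Cz} : F.act c = F.act d ↔ F.bar c = F.bar d :=
  ⟨fun h => QuotientGroup.eq.2 (mem_subgroupOf.2 (F.mem_K_iff.1 (F.mem_K.2 (F.act_inj h)))), F.act_bar⟩

/-- The involution inverts the core modulo the centre. -/
theorem act_tc (v : V4) : F.act F.tc v = -v := by
  have hsq : ∀ v, F.act F.tc (F.act F.tc v) = v := fun v => by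
    rw [← F.act_mul, F.act_bar (d := 1) (by rw [map_mul, F.bar_tc_sq, map_one]), F.act_one]; rfl
  by_contra hne
  have hN : NS (F.act F.tc) := by
    refine ⟨?_, v, hne⟩
    by_contra h
    push Not at h
    exact F.tc_not_K (F.mem_K.2 (AddMonoidHom.ext h))
  obtain ⟨x, hx, hx5⟩ := F.exists_five
  have hid := Sp4.five_id hsq (F.act_pres _) hN (F.act_five hx5) fun w => by
    rw [← F.act_mul, ← F.act_mul, F.act_bar (c := x * F.tc) (d := F.tc * x) (by
      rw [map_mul, map_mul]; exact F.bar_tc_central x)]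
  exact hx (F.K_le_Rc (F.mem_K.2 (AddMonoidHom.ext hid)))

/-- The core has exponent three. -/
theorem pow_three {q : G} (hq : q ∈ F.Q) : q ^ 3 = 1 := by
  have hz : q ^ 3 ∈ zpowers F.z := by
    rw [← F.crd_eq_zero (pow_mem hq 3), show q ^ 3 = q * q * q by simp [pow_succ],
      F.crd_mul (mul_mem hq hq) hq, F.crd_mul hq hq, Sp4.three_zero]
  set u := F.t * q * F.t⁻¹ with hu
  have huQ : u ∈ F.Q := F.normal _ (F.R_le F.t_mem) _ hq
  have hq' : q * u ∈ zpowers F.z := by
    rw [← F.crd_eq_zero (mul_mem hq huQ), F.crd_mul hq huQ]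
    have := F.act_crd F.tc hq
    rw [act_tc] at this
    rw [hu, show F.t = ((F.tc : F.Cz) : G) from rfl, ← this, add_neg_cancel]
  obtain ⟨k, hk⟩ := F.exists_zk hq'
  have hz3 : ∀ d ∈ zpowers F.z, d ^ 3 = 1 := fun d hd => by
    obtain ⟨n, rfl⟩ := mem_zpowers_iff.1 hd
    rw [← zpow_natCast, ← zpow_mul, mul_comm, zpow_mul, zpow_natCast, F.z3, one_zpow]
  have h1 : u = q⁻¹ * F.zk k := by rw [hk, inv_mul_cancel_left]
  have h2 : u ^ 3 = q ^ 3 := by
    rw [hu, conj_pow]
    exact F.fix_Z (F.R_le F.t_mem) hz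
  rw [h1, ((F.commute_Z (inv_mem (F.Q_le hq)) (F.zk_mem k)) : Commute q⁻¹ (F.zk k)).mul_pow,
    hz3 _ (F.zk_mem k), mul_one, inv_pow, inv_eq_iff_mul_eq_one, ← pow_two] at h2
  have h9 := hz3 _ hz
  rwa [pow_succ, h2, one_mul] at h9

end Frame

end Cfsg.Agent.Co2Three.Local
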