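import Cfsg.Agent.Lib.Co2Three.Local.Basis
import Cfsg.Agent.Lib.Co2Three.Local.Checks

/-!
S3336: the image of the centraliser is the normaliser of the group of order 32.
-/

set_option autoImplicit false
set_option linter.style.haveILetI false
set_option linter.unusedSectionVars false

namespace Cfsg.Agent.Co2Three.Sp4

theorem isSp_code {f : V4 →+ V4} (h : Pres f) : isSp (code f) = true := by
  obtain ⟨b0, b1, b2, b3⟩ := vc_single
  have key : ∀ a b : V4, om (ap (code f) (vc a)) (ap (code f) (vc b)) = om (vc a) (vc b) := fun a b => by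
    rw [← ap_code, ← ap_code, ← sf_om, ← sf_om, h a b]
  simp only [isSp, bas, List.all_cons, List.all_nil, Bool.and_true, Bool.and_eq_true, ← b0, ← b1, ← b2, ← b3, key,
    Nat.beq_refl, and_self]

theorem neg_eq_self_three : ∀ x : ZMod 3, -x = x → x = 0 := by decide

theorem vc_U {v : V4} (h : (![v 0, -v 1, v 2, -v 3] : V4) = v) :
    vc v = v4 (v 0).val 0 (v 2).val 0 := by
  have h1 : v 1 = 0 := neg_eq_self_three _ (by simpa using congrFun h 1)
  have h3 : v 3 = 0 := neg_eq_self_three _ (by simpa using congrFun h 3)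
  rw [vc_eq_v4, h1, h3]; rfl

theorem dg_add_three {x y : ℕ} (hx : x < 3) (hy : y < 3) : dg (x + 3 * y) 0 = x ∧ dg (x + 3 * y) 1 = y := by
  simp only [dg]; omega

end Cfsg.Agent.Co2Three.Sp4

namespace Cfsg.Agent.Co2Three.Local

open Subgroup
open scoped commutatorElement
open Sp4 (sf Pres code mm vc lin cr cs c1 cm R0 hs ups blk Ns gens)

/-- Standard position of two involutions of the 2-core. -/
structure Std {G : Type*} [Group G] [Finite G] (F : Frame G) where
  /-- first -/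
  ρ : F.Cz
  /-- second -/
  σ : F.Cz
  ρ_mem : ρ ∈ F.Rc
  σ_mem : σ ∈ F.Rc
  act_ρ : ∀ v, F.act ρ v = ![v 0, -v 1, v 2, -v 3]
  act_σ : ∀ v, F.act σ v = ![v 1, v 0, v 3, v 2]

theorem exists_std {G : Type*} [Group G] [Finite G] (D : Ext G) :
    ∃ F : Frame G, F.toExt = D ∧ Nonempty (Std F) := by
  obtain ⟨F, rfl⟩ := D.exists_frame
  obtain ⟨F', h, ρ, σ, h1, h2, h3, h4⟩ := F.exists_adapted
  exact ⟨F', h, ⟨⟨ρ, σ, h1, h2, h3, h4⟩⟩⟩

namespace Frame

variable {G : Type*} [Group G] [Finite G] (F : Frame G)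

/-- The code of the action. -/
noncomputable def im (g : F.Cz) : ℕ := code (F.act g)

theorem act_comp (g h : F.Cz) : F.act (g * h) = (F.act g).comp (F.act h) := AddMonoidHom.ext (F.act_mul g h)

theorem im_mul (g h : F.Cz) : F.im (g * h) = mm (F.im g) (F.im h) := by
  rw [im, act_comp, Sp4.code_mul]; rfl

theorem im_one : F.im 1 = c1 := by rw [im, act_one]; exact Sp4.code_id

theorem im_eq_iff {g h : F.Cz} : F.im g = F.im h ↔ F.bar g = F.bar h :=
  ⟨fun e => F.act_eq_iff.1 (Sp4.code_inj _ _ e), fun e => by rw [im, im, F.act_bar e]⟩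

theorem im_tc : F.im F.tc = cm := by
  have : F.act F.tc = -AddMonoidHom.id V4 := AddMonoidHom.ext F.act_tc
  rw [im, this]
  show code (fun v : V4 => -v) = cm
  decide

theorem im_lt (g : F.Cz) : F.im g < 81 ^ 4 := Sp4.code_lt _

theorem lin_im (g : F.Cz) : lin (F.im g) = F.act g :=
  Sp4.code_inj _ _ (Sp4.code_lin (F.im_lt g))

end Frame

namespace Std

variable {G : Type*} [Group G] [Finite G] {F : Frame G} (P : Std F)
include P

theorem im_ρ : F.im P.ρ = cr := by
  have : (⇑(F.act P.ρ) : V4 → V4) = fun v => ![v 0, -v 1, v 2, -v 3] := funext P.act_ρ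
  rw [Frame.im, this, Nat.eq_of_beq_eq_true Sp4.R0_mul.2.1]
  decide

theorem im_σ : F.im P.σ = cs := by
  have : (⇑(F.act P.σ) : V4 → V4) = fun v => ![v 1, v 0, v 3, v 2] := funext P.act_σ
  rw [Frame.im, this, Nat.eq_of_beq_eq_true Sp4.R0_mul.2.2]
  decide

theorem fixU {f : V4 →+ V4} (hc : ∀ v, f (F.act P.ρ v) = F.act P.ρ (f v)) :
    vc (f (Pi.single 0 1)) = Sp4.v4 (f (Pi.single 0 1) 0).val 0 (f (Pi.single 0 1) 2).val 0 ∧
    vc (f (Pi.single 2 1)) = Sp4.v4 (f (Pi.single 2 1) 0).val 0 (f (Pi.single 2 1) 2).val 0 ∧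
    vc (f (Pi.single 1 1)) = Sp4.v4 0 (f (Pi.single 1 1) 1).val 0 (f (Pi.single 1 1) 3).val ∧
    vc (f (Pi.single 3 1)) = Sp4.v4 0 (f (Pi.single 3 1) 1).val 0 (f (Pi.single 3 1) 3).val := by
  have e0 : F.act P.ρ (Pi.single 0 1) = Pi.single 0 1 := by rw [P.act_ρ]; decide
  have e2 : F.act P.ρ (Pi.single 2 1) = Pi.single 2 1 := by rw [P.act_ρ]; decide
  have e1 : F.act P.ρ (Pi.single 1 1) = -Pi.single 1 1 := by rw [P.act_ρ]; decide
  have e3 : F.act P.ρ (Pi.single 3 1) = -Pi.single 3 1 := by rw [P.act_ρ]; decide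
  have g : ∀ x, F.act P.ρ x = -x → f x 0 = 0 ∧ f x 2 = 0 := fun x hx => by
    have h := hc x
    rw [hx, map_neg, P.act_ρ] at h
    exact ⟨Sp4.neg_eq_self_three _ (by simpa using congrFun h 0), Sp4.neg_eq_self_three _ (by simpa using congrFun h 2)⟩
  refine ⟨Sp4.vc_U ?_, Sp4.vc_U ?_, ?_, ?_⟩
  · rw [← P.act_ρ, ← hc, e0]
  · rw [← P.act_ρ, ← hc, e2]
  · obtain ⟨h0, h2⟩ := g _ e1
    rw [Sp4.vc_eq_v4, h0, h2]; rfl
  · obtain ⟨h0, h2⟩ := g _ e3
    rw [Sp4.vc_eq_v4, h0, h2]; rfl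

theorem im_kron {r : F.Cz} (hr : r ∈ F.Rc) (h1 : ∀ v, F.act r (F.act P.ρ v) = F.act P.ρ (F.act r v))
    (h2 : ∀ v, F.act r (F.act P.σ v) = F.act P.σ (F.act r v)) : F.im r ∈ R0 := by
  obtain ⟨a0, a2, -, -⟩ := P.fixU h1
  set f := F.act r with hf
  have s1 : Pi.single 1 1 = F.act P.σ (Pi.single 0 1) := by rw [P.act_σ]; decide
  have s3 : Pi.single 3 1 = F.act P.σ (Pi.single 2 1) := by rw [P.act_σ]; decide
  set p := f (Pi.single 0 1) with hp
  set q := f (Pi.single 2 1) with hq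
  have a1 : vc (f (Pi.single 1 1)) = Sp4.v4 0 (p 0).val 0 (p 2).val := by
    rw [s1, h2, P.act_σ, Sp4.vc_eq_v4]
    have h3 : p 1 = 0 ∧ p 3 = 0 := by
      have h := h1 (Pi.single 0 1)
      rw [show F.act P.ρ (Pi.single 0 1) = Pi.single 0 1 by rw [P.act_ρ]; decide, P.act_ρ] at h
      exact ⟨Sp4.neg_eq_self_three _ (by simpa using (congrFun h 1).symm),
        Sp4.neg_eq_self_three _ (by simpa using (congrFun h 3).symm)⟩
    rw [← hp]
    simp [h3.1, h3.2]
  have a3 : vc (f (Pi.single 3 1)) = Sp4.v4 0 (q 0).val 0 (q 2).val := by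
    rw [s3, h2, P.act_σ, Sp4.vc_eq_v4]
    have h3 : q 1 = 0 ∧ q 3 = 0 := by
      have h := h1 (Pi.single 2 1)
      rw [show F.act P.ρ (Pi.single 2 1) = Pi.single 2 1 by rw [P.act_ρ]; decide, P.act_ρ] at h
      exact ⟨Sp4.neg_eq_self_three _ (by simpa using (congrFun h 1).symm),
        Sp4.neg_eq_self_three _ (by simpa using (congrFun h 3).symm)⟩
    rw [← hq]
    simp [h3.1, h3.2]
  have e : F.im r = Sp4.kronI (p 0).val (p 2).val (q 0).val (q 2).val := by
    rw [Frame.im, Sp4.code, a0, a1, a2, a3]; rfl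
  have hk := Sp4.kron_ok
  simp only [List.all_eq_true, List.mem_range, Bool.or_eq_true, Bool.not_eq_true', Nat.beq_eq,
    List.contains_iff_mem] at hk
  have := hk _ (p 0).val_lt _ (p 2).val_lt _ (q 0).val_lt _ (q 2).val_lt
  rw [← e] at this
  rcases this with (h | h) | h
  · rw [show Sp4.isSp (F.im r) = true from Sp4.isSp_code (F.act_pres r)] at h
    exact absurd h (by simp)
  · simp only [Bool.or_eq_false_iff] at h
    rcases F.sq_cases hr with hs | hs
    · have : mm (F.im r) (F.im r) = c1 := by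
        rw [← F.im_mul, ← F.im_one, F.im_eq_iff, map_mul, map_one, hs]
      rw [this] at h
      exact absurd h.1 (by simp)
    · have : mm (F.im r) (F.im r) = cm := by
        rw [← F.im_mul, ← F.im_tc, F.im_eq_iff, map_mul, hs]
      rw [this] at h
      exact absurd h.2 (by simp)
  · exact h

theorem comm_or {a b : F.Cz} (ha : a ∈ F.Rc) (hb : b ∈ F.Rc) :
    (∀ v, F.act a (F.act b v) = F.act b (F.act a v)) ∨ ∀ v, F.act a (F.act b v) = -F.act b (F.act a v) := by
  rcases F.bracket_cases ha hb with h | h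
  · left; intro v
    rw [← F.act_mul, ← F.act_mul, F.act_bar (d := b * a) (by
      rw [map_mul, map_mul]; exact commutatorElement_eq_one_iff_mul_comm.1 h)]
  · right; intro v
    rw [← F.act_mul, ← F.act_mul, F.act_bar (c := a * b) (d := F.tc * (b * a)) (by
      simp only [map_mul]; rw [← h, commutatorElement_def]; group), F.act_mul F.tc, F.act_tc]

theorem im_R {r : F.Cz} (hr : r ∈ F.Rc) : F.im r ∈ R0 := by
  have hu2 : ∀ v, F.act P.ρ (F.act P.ρ v) = v := fun v => by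
    rw [P.act_ρ, P.act_ρ]; funext k; fin_cases k <;> simp
  have hw2 : ∀ v, F.act P.σ (F.act P.σ v) = v := fun v => by
    rw [P.act_σ, P.act_σ]; funext k; fin_cases k <;> simp
  have hanti : ∀ v, F.act P.σ (F.act P.ρ v) = -F.act P.ρ (F.act P.σ v) := fun v => by
    rw [P.act_σ, P.act_ρ, P.act_ρ, P.act_σ]; funext k; fin_cases k <;> simp
  have hcl : ∀ a ∈ R0, mm cr a ∈ R0 ∧ mm cs a ∈ R0 := by
    have h := Sp4.R0_mul.1
    simp only [List.all_eq_true, Bool.and_eq_true, List.contains_iff_mem] at h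
    exact h
  have hsq : ∀ a b : F.Cz, F.bar a * F.bar a = 1 → mm (F.im a) (F.im (a * b)) = F.im b := fun a b h => by
    rw [← F.im_mul, F.im_eq_iff, map_mul, map_mul, ← mul_assoc, h, one_mul]
  have ρsq : F.bar P.ρ * F.bar P.ρ = 1 := by
    rw [← map_mul, ← map_one F.bar, ← F.im_eq_iff, F.im_one, F.im_mul, P.im_ρ]; decide +kernel
  have σsq : F.bar P.σ * F.bar P.σ = 1 := by
    rw [← map_mul, ← map_one F.bar, ← F.im_eq_iff, F.im_one, F.im_mul, P.im_σ]; decide +kernel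
  have step1 : ∀ r ∈ F.Rc, (∀ v, F.act r (F.act P.ρ v) = F.act P.ρ (F.act r v)) → F.im r ∈ R0 := by
    intro r hr h1
    rcases P.comm_or hr P.σ_mem with h2 | h2
    · exact P.im_kron hr h1 h2
    · rw [← hsq P.ρ r ρsq, P.im_ρ]
      refine (hcl _ (P.im_kron (mul_mem P.ρ_mem hr) (fun v => ?_) fun v => ?_)).1
      · rw [F.act_mul, h1, F.act_mul]
      · rw [F.act_mul, h2, map_neg, F.act_mul, hanti]
  rcases P.comm_or hr P.ρ_mem with h1 | h1
  · exact step1 r hr h1
  · rw [← hsq P.σ r σsq, P.im_σ]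
    refine (hcl _ (step1 _ (mul_mem P.σ_mem hr) fun v => ?_)).2
    rw [F.act_mul, h1, map_neg, F.act_mul, hanti, neg_neg]

theorem exists_R {a : ℕ} (ha : a ∈ R0) : ∃ r ∈ F.Rc, F.im r = a := by
  classical
  have hex : ∀ x : F.Rb, ∃ r ∈ F.Rc, F.bar r = x := fun x => mem_map.1 x.2
  choose s hs hs' using hex
  let Φ : F.Rb → R0.toFinset := fun x => ⟨F.im (s x), List.mem_toFinset.2 (P.im_R (hs x))⟩
  have hinj : Function.Injective Φ := fun x y e => Subtype.ext (by
    rw [← hs' x, ← hs' y]; exact F.im_eq_iff.1 (congrArg Subtype.val e))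
  have hle : Nat.card R0.toFinset ≤ Nat.card F.Rb := by
    rw [Nat.card_eq_finsetCard, F.card_Rb]
    exact R0.toFinset_card_le.trans (le_of_eq (Nat.eq_of_beq_eq_true Sp4.R0_closed.2.2.2))
  obtain ⟨x, hx⟩ := (hinj.bijective_of_nat_card_le hle).2 ⟨a, List.mem_toFinset.2 ha⟩
  exact ⟨s x, hs x, congrArg Subtype.val hx⟩

set_option maxHeartbeats 1200000 in
theorem im_mem (g : F.Cz) : F.im g ∈ Ns := by
  have hRc : g * P.ρ * g⁻¹ ∈ F.Rc := Subgroup.Normal.conj_mem inferInstance _ P.ρ_mem g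
  set b := F.im (g * P.ρ * g⁻¹) with hb
  have hb2 : mm b b = c1 := by
    rw [hb, ← F.im_mul, ← F.im_one, F.im_eq_iff]
    have : F.bar P.ρ * F.bar P.ρ = 1 := by
      rw [← map_mul, ← map_one F.bar, ← F.im_eq_iff, F.im_one, F.im_mul, P.im_ρ]; decide +kernel
    rw [map_mul F.bar _ (g * P.ρ * g⁻¹), map_mul, map_mul, map_inv, map_one,
      show F.bar g * F.bar P.ρ * (F.bar g)⁻¹ * (F.bar g * F.bar P.ρ * (F.bar g)⁻¹) =
        F.bar g * (F.bar P.ρ * F.bar P.ρ) * (F.bar g)⁻¹ by group, this]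
    group
  have hbne : b ≠ c1 ∧ b ≠ cm := by
    constructor
    · intro e
      rw [hb, ← F.im_one, F.im_eq_iff, map_mul, map_mul, map_inv, map_one, conj_eq_one_iff, ← map_one F.bar,
        ← F.im_eq_iff, F.im_one, P.im_ρ] at e
      revert e; decide +kernel
    · intro e
      rw [hb, ← F.im_tc, F.im_eq_iff, map_mul, map_mul, map_inv, mul_inv_eq_iff_eq_mul,
        ← (F.bar_tc_central g).eq, mul_right_inj, ← F.im_eq_iff, F.im_tc, P.im_ρ] at e
      revert e; decide +kernel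
  have h0 := Sp4.R0_invol
  simp only [List.all_eq_true, Bool.or_eq_true, Bool.not_eq_true', List.any_eq_true, Nat.beq_eq] at h0
  obtain ⟨p, hp, hpb⟩ : ∃ p ∈ hs, p.1 = b := by
    rcases h0 b (P.im_R hRc) with ((h | h) | h) | h
    · rw [hb2] at h; exact absurd h (by simp)
    · exact absurd h hbne.1
    · exact absurd h hbne.2
    · exact h
  have h1 := Sp4.hs_ok
  simp only [List.all_eq_true, Bool.and_eq_true, Nat.beq_eq] at h1
  obtain ⟨⟨⟨⟨e1, e2⟩, e3⟩, hsp⟩, -⟩ := h1 p hp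
  have hlt := Sp4.blk_comm.2.2.1
  simp only [List.all_eq_true, Bool.and_eq_true] at hlt
  obtain ⟨⟨l1, l2⟩, l3⟩ := hlt p hp
  have l1 : p.2.1 < 81 ^ 4 := by simpa using l1
  have l2 : p.2.2 < 81 ^ 4 := by simpa using l2
  have l3 : p.1 < 81 ^ 4 := by simpa using l3
  set H := lin p.2.1 with hH
  set H' := lin p.2.2 with hH'
  have cH : code H = p.2.1 := Sp4.code_lin l1
  have cH' : code H' = p.2.2 := Sp4.code_lin l2
  have i1 : ∀ v, H' (H v) = v := DFunLike.congr_fun (Sp4.code_inj (H'.comp H) (AddMonoidHom.id V4)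
    (by rw [Sp4.code_mul, cH, cH', e1]; exact Sp4.code_id.symm))
  have i2 : ∀ v, H (H' v) = v := DFunLike.congr_fun (Sp4.code_inj (H.comp H') (AddMonoidHom.id V4)
    (by rw [Sp4.code_mul, cH, cH', e2]; exact Sp4.code_id.symm))
  have i3 : ∀ v, H (F.act P.ρ v) = F.act (g * P.ρ * g⁻¹) (H v) := DFunLike.congr_fun
    (Sp4.code_inj (H.comp (F.act P.ρ)) ((F.act (g * P.ρ * g⁻¹)).comp H) (by
      rw [Sp4.code_mul, Sp4.code_mul, cH]
      show mm _ (F.im P.ρ) = mm b _
      rw [P.im_ρ, e3, hpb]))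
  set k := H'.comp (F.act g) with hk
  have kc : ∀ v, k (F.act P.ρ v) = F.act P.ρ (k v) := fun v => by
    have : F.act g (F.act P.ρ v) = F.act (g * P.ρ * g⁻¹) (F.act g v) := by
      rw [← F.act_mul, ← F.act_mul, inv_mul_cancel_right]
    show H' (F.act g (F.act P.ρ v)) = F.act P.ρ (H' (F.act g v))
    rw [this]
    conv_lhs => rw [← i2 (F.act g v), ← i3, i1]
  have kp : Pres k := fun u v => by
    show sf (H' _) (H' _) = _
    rw [hH', Sp4.pres_lin l2 hsp, F.act_pres]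
  have nH : ∀ b ∈ R0, ∃ b' ∈ R0, mm b' p.2.2 = mm p.2.2 b := by
    have h := Sp4.hs_norm
    simp only [List.all_eq_true, List.any_eq_true, Nat.beq_eq] at h
    exact h p hp
  have kn : ∀ a ∈ gens, ∃ c : F.Cz, c ∈ F.Rc ∧ ∀ v, k (lin a v) = F.act c (k v) := by
    intro a ha
    have hg := Sp4.R0_closed.2.2.1
    simp only [List.all_eq_true, List.contains_iff_mem] at hg
    obtain ⟨r, hr, rfl⟩ := P.exists_R (hg a ha)
    obtain ⟨b', hb', eb⟩ := nH _ (P.im_R (Subgroup.Normal.conj_mem (inferInstance : F.Rc.Normal) _ hr g))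
    obtain ⟨c, hc, rfl⟩ := P.exists_R hb'
    refine ⟨c, hc, fun v => ?_⟩
    have e : F.act g (F.act r v) = F.act (g * r * g⁻¹) (F.act g v) := by
      rw [← F.act_mul, ← F.act_mul, inv_mul_cancel_right]
    have e' : ∀ w, H' (F.act (g * r * g⁻¹) w) = F.act c (H' w) := DFunLike.congr_fun
      (Sp4.code_inj (H'.comp (F.act (g * r * g⁻¹))) ((F.act c).comp H') (by
        rw [Sp4.code_mul, Sp4.code_mul, cH']; exact eb.symm))
    show H' (F.act g (lin (F.im r) v)) = F.act c (H' (F.act g v))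
    rw [F.lin_im, e, e']
  -- the block
  obtain ⟨a0, a2, -, -⟩ := P.fixU kc
  have hu := Sp4.ups_ok
  simp only [List.all_eq_true, List.mem_range, Bool.or_eq_true, Bool.not_eq_true', List.any_eq_true, Nat.beq_eq,
    Bool.and_eq_true, List.contains_iff_mem] at hu
  obtain ⟨x0, x1⟩ := Sp4.dg_add_three (k (Pi.single 0 1) 0).val_lt (k (Pi.single 0 1) 2).val_lt
  obtain ⟨y0, y1⟩ := Sp4.dg_add_three (k (Pi.single 2 1) 0).val_lt (k (Pi.single 2 1) 2).val_lt
  obtain ⟨p', hp', q0, q2⟩ : ∃ p ∈ ups, Sp4.col p.1 0 = vc (k (Pi.single 0 1)) ∧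
      Sp4.col p.1 2 = vc (k (Pi.single 2 1)) := by
    have := hu.1 ((k (Pi.single 0 1) 0).val + 3 * (k (Pi.single 0 1) 2).val)
      (by have := (k (Pi.single 0 1) 0).val_lt; have := (k (Pi.single 0 1) 2).val_lt; omega)
      ((k (Pi.single 2 1) 0).val + 3 * (k (Pi.single 2 1) 2).val)
      (by have := (k (Pi.single 2 1) 0).val_lt; have := (k (Pi.single 2 1) 2).val_lt; omega)
    rw [x0, x1, y0, y1, ← a0, ← a2] at this
    rcases this with h | h
    · rw [← Sp4.sf_om, kp] at h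
      exact absurd h (by decide)
    · exact h
  obtain ⟨⟨⟨⟨ub, u1⟩, u2⟩, usp⟩, -⟩ := hu.2 p' hp'
  have hl := Sp4.blk_comm.1
  simp only [List.all_eq_true, Bool.and_eq_true, Nat.beq_eq] at hl
  have hl2 := Sp4.blk_comm.2.1
  simp only [List.all_eq_true, Bool.and_eq_true, Nat.beq_eq] at hl2
  have m1 : p'.1 < 81 ^ 4 := by simpa using (hl _ ub).2
  have m2 : p'.2 < 81 ^ 4 := by simpa using (hl2 _ hp').2
  set U := lin p'.1 with hU
  set U' := lin p'.2 with hU'
  have cU : code U = p'.1 := Sp4.code_lin m1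
  have cU' : code U' = p'.2 := Sp4.code_lin m2
  have j1 : ∀ v, U' (U v) = v := DFunLike.congr_fun (Sp4.code_inj (U'.comp U) (AddMonoidHom.id V4)
    (by rw [Sp4.code_mul, cU, cU', u1]; exact Sp4.code_id.symm))
  have j2 : ∀ v, U (U' v) = v := DFunLike.congr_fun (Sp4.code_inj (U.comp U') (AddMonoidHom.id V4)
    (by rw [Sp4.code_mul, cU, cU', u2]; exact Sp4.code_id.symm))
  set j := U'.comp k with hj
  have jc : ∀ v, j (F.act P.ρ v) = F.act P.ρ (j v) := by
    have : ∀ w, U' (F.act P.ρ w) = F.act P.ρ (U' w) := DFunLike.congr_fun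
      (Sp4.code_inj (U'.comp (F.act P.ρ)) ((F.act P.ρ).comp U') (by
        rw [Sp4.code_mul, Sp4.code_mul, cU']
        show mm _ (F.im P.ρ) = mm (F.im P.ρ) _
        rw [P.im_ρ]; exact (hl2 _ hp').1))
    intro v
    show U' (k (F.act P.ρ v)) = F.act P.ρ (U' (k v))
    rw [kc, this]
  have je : j (Pi.single 0 1) = Pi.single 0 1 ∧ j (Pi.single 2 1) = Pi.single 2 1 := by
    obtain ⟨c0, -, c2, -⟩ := Sp4.col_code U
    rw [cU, q0] at c0
    rw [cU, q2] at c2
    exact ⟨by show U' (k _) = _; rw [Sp4.vc_inj c0, j1], by show U' (k _) = _; rw [Sp4.vc_inj c2, j1]⟩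
  have jn : Sp4.inN (code j) = true := by
    simp only [Sp4.inN, List.all_eq_true, List.any_eq_true, Nat.beq_eq]
    intro a ha
    obtain ⟨c, hc, ec⟩ := kn a ha
    have hn := Sp4.ups_norm
    simp only [List.all_eq_true, List.any_eq_true, Nat.beq_eq] at hn
    obtain ⟨b', hb', eb⟩ := hn p' hp' _ (P.im_R hc)
    obtain ⟨c', hc', rfl⟩ := P.exists_R hb'
    refine ⟨_, hb', ?_⟩
    have hga : a < 81 ^ 4 := by
      have h := Sp4.blk_comm.2.2.2.2
      simp only [List.all_eq_true] at h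
      simpa using h a ha
    rw [← Sp4.code_lin hga, ← Sp4.code_mul j (lin a), Frame.im, ← Sp4.code_mul (F.act c') j]
    congr 1
    refine funext fun v => ?_
    show F.act c' (U' (k v)) = U' (k (lin a v))
    rw [ec]
    exact (DFunLike.congr_fun (Sp4.code_inj (U'.comp (F.act c)) ((F.act c').comp U') (by
      rw [Sp4.code_mul, Sp4.code_mul, cU']; exact eb.symm)) (k v)).symm
  have jp : Sp4.isSp (code j) = true := Sp4.isSp_code fun u v => by
    show sf (U' _) (U' _) = _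
    rw [hU', Sp4.pres_lin m2 usp, kp]
  obtain ⟨-, -, b1, b3⟩ := P.fixU jc
  obtain ⟨z0, z1⟩ := Sp4.dg_add_three (j (Pi.single 1 1) 1).val_lt (j (Pi.single 1 1) 3).val_lt
  obtain ⟨w0, w1⟩ := Sp4.dg_add_three (j (Pi.single 3 1) 1).val_lt (j (Pi.single 3 1) 3).val_lt
  have cj : code j = Sp4.blockOf 1 ((j (Pi.single 1 1) 1).val + 3 * (j (Pi.single 1 1) 3).val) 3
      ((j (Pi.single 3 1) 1).val + 3 * (j (Pi.single 3 1) 3).val) := by
    rw [Sp4.code, je.1, je.2, b1, b3, Sp4.blockOf, z0, z1, w0, w1]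
    rfl
  have hlow := Sp4.low_complete
  simp only [List.all_eq_true, List.mem_range, Bool.or_eq_true, Bool.not_eq_true', List.contains_iff_mem] at hlow
  have hm := hlow ((j (Pi.single 1 1) 1).val + 3 * (j (Pi.single 1 1) 3).val)
      (by have := (j (Pi.single 1 1) 1).val_lt; have := (j (Pi.single 1 1) 3).val_lt; omega)
      ((j (Pi.single 3 1) 1).val + 3 * (j (Pi.single 3 1) 3).val)
      (by have := (j (Pi.single 3 1) 1).val_lt; have := (j (Pi.single 3 1) 3).val_lt; omega)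
  rw [← cj, jp, jn] at hm
  have hblk : mm p'.1 (code j) ∈ blk := by
    rcases hm with (h | h) | h
    · exact absurd h (by simp)
    · exact absurd h (by simp)
    · exact h p' hp'
  have hkj : code k = mm p'.1 (code j) := by
    rw [← cU, ← Sp4.code_mul]
    exact congrArg _ (funext fun v => (j2 (k v)).symm)
  have hgk : F.im g = mm p.2.1 (code k) := by
    rw [← cH, ← Sp4.code_mul]
    exact congrArg _ (funext fun v => (i2 (F.act g v)).symm)
  have hN : (hs.flatMap fun p => blk.map (mm p.2.1)) = Ns := eq_of_beq Sp4.Ns_prod.1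
  rw [← hN, List.mem_flatMap]
  exact ⟨p, hp, List.mem_map.2 ⟨_, hblk, by rw [hgk, hkj]⟩⟩

/-- Every element of the normaliser occurs. -/
theorem exists_im {n : ℕ} (hn : n ∈ Ns) : ∃ g : F.Cz, F.im g = n := by
  classical
  have hex : ∀ x : F.Cz ⧸ F.Qc, ∃ g, F.bar g = x := QuotientGroup.mk'_surjective F.Qc
  choose s hs' using hex
  let Φ : F.Cz ⧸ F.Qc → Ns.toFinset := fun x => ⟨F.im (s x), List.mem_toFinset.2 (P.im_mem _)⟩
  have hinj : Function.Injective Φ := fun x y e => by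
    rw [← hs' x, ← hs' y]; exact F.im_eq_iff.1 (congrArg Subtype.val e)
  have hle : Nat.card Ns.toFinset ≤ Nat.card (F.Cz ⧸ F.Qc) := by
    have h := card_eq_card_quotient_mul_card_subgroup F.Qc
    rw [F.card_Qc, F.card_C] at h
    rw [Nat.card_eq_finsetCard]
    exact Ns.toFinset_card_le.trans (le_of_eq ((Nat.eq_of_beq_eq_true Sp4.Ns_prod.2).trans (by omega)))
  obtain ⟨x, hx⟩ := (hinj.bijective_of_nat_card_le hle).2 ⟨n, List.mem_toFinset.2 hn⟩
  exact ⟨s x, congrArg Subtype.val hx⟩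

end Std

end Cfsg.Agent.Co2Three.Local
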