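import Cfsg.Agent.Lib.Co2Three.Local.Refl
import Cfsg.Agent.Lib.Co2Three.Local.ReflDefs
import Cfsg.Agent.Lib.Co2Three.Local.Tangent
import Mathlib.GroupTheory.Sylow

/-!
S3336: the quaternion group at the central point and the centraliser of the central element and the reflection.
-/

set_option autoImplicit false
set_option linter.style.haveILetI false
set_option linter.unusedSectionVars false

namespace Cfsg.Agent.Co2Three.Sp4

/-- The code of the reflection. -/
def ct : ℕ := mm cm cr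

/-- The elements fixing the plane of the centraliser of the reflection. -/
def inP (g : ℕ) : Bool := Nat.beq (mm g ct) (mm ct g) && Nat.beq (col g 1) 3 && Nat.beq (col g 3) 27

/-- Their list. -/
def Ps : List ℕ := Ns.filter inP

set_option maxRecDepth 100000 in
set_option maxHeartbeats 800000 in
theorem Ps_ok : Ps.toFinset.card = 8 ∧ inP ct = true ∧ inP c1 = true ∧
    (Ps.all fun g => (!Nat.beq (mm g g) c1 || Nat.beq g c1 || Nat.beq g ct) &&
      (!(Nat.beq (mm g (mm cx cx)) (mm (mm cx cx) g) ||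
          Nat.beq (mm g (mm (mm cx cx) (mm cx cx))) (mm (mm (mm cx cx) (mm cx cx)) g)) ||
        Nat.beq g c1 || Nat.beq g ct)) = true ∧
    ((List.range 3).all fun a => (List.range 3).all fun b => (List.range 3).all fun c => (List.range 3).all fun d =>
      !(sl a b c d) || Ns.any fun g => Nat.beq (mm g ct) (mm ct g) && quot1 g == (a, b, c, d)) = true := by
  decide +kernel

end Cfsg.Agent.Co2Three.Sp4

namespace Cfsg.Agent.Co2Three.Local

open Subgroup
open scoped commutatorElement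
open Sp4 (sf X code mm c1 cx ct inP Ps Ns Mt)

namespace Cfg

variable {G : Type*} [Group G] [Finite G] {F : Frame G} (K : Cfg F)
include K

/-- The properties of the reflection used below. -/
structure IsRefl (t : F.Cz) : Prop where
  sq : t * t = 1
  act_eq : ∀ v, F.act t v = T v
  el_eq : ∀ v, (t : G) * K.el v * (t : G)⁻¹ = K.el (refl1 v)

variable {K} {t : F.Cz}

namespace IsRefl

omit K in
theorem im_eq {K : Cfg F} (h : K.IsRefl t) : F.im t = ct := by
  have : (⇑(F.act t) : V4 → V4) = T := funext h.act_eq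
  rw [Frame.im, this]
  decide

omit K in
theorem fixQ {K : Cfg F} (h : K.IsRefl t) {x : G} (hx : x ∈ F.Q) :
    Commute x (t : G) ↔ F.crd x 0 = 0 ∧ F.crd x 2 = 0 := by
  have hc := F.act_crd t hx
  rw [h.act_eq] at hc
  constructor
  · intro hcom
    rw [show (t : G) * x * (t : G)⁻¹ = x by rw [← hcom.eq, mul_inv_cancel_right]] at hc
    exact ⟨Sp4.neg_eq_self_three _ (congrFun hc 0), Sp4.neg_eq_self_three _ (congrFun hc 2)⟩
  · rintro ⟨h0, h2⟩
    have hfix : T (F.crd x) = F.crd x := by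
      funext k
      fin_cases k <;> simp [T, h0, h2]
    rw [hfix, F.crd_eq_iff hx (F.normal _ t.2 _ hx)] at hc
    set u := x⁻¹ * ((t : G) * x * (t : G)⁻¹) with hu
    have hu2 : u * u = 1 := by
      have ht : (t : G) * t = 1 := congrArg Subtype.val h.sq
      have e : (t : G) * (x * u) * (t : G)⁻¹ = x := by
        rw [hu]
        calc (t : G) * (x * (x⁻¹ * ((t : G) * x * (t : G)⁻¹))) * (t : G)⁻¹
            = ((t : G) * t) * x * ((t : G) * t)⁻¹ := by group
          _ = x := by rw [ht]; group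
      have e2 : (t : G) * (x * u) * (t : G)⁻¹ = x * u * u := by
        have hfz := F.fix_Z t.2 hc
        calc (t : G) * (x * u) * (t : G)⁻¹ = ((t : G) * x * (t : G)⁻¹) * ((t : G) * u * (t : G)⁻¹) := by group
          _ = x * u * u := by rw [hfz, hu]; group
      rw [e, mul_assoc] at e2
      exact (mul_eq_left.1 e2.symm)
    obtain ⟨k, hk⟩ := F.exists_zk hc
    have hk0 : k = 0 := by
      rw [← hk, ← F.zk_add, ← F.zk_zero] at hu2
      exact (by decide : ∀ k : ZMod 3, k + k = 0 → k = 0) _ (F.zk_inj hu2)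
    rw [hk0, F.zk_zero, eq_comm, hu, inv_mul_eq_one] at hk
    show x * (t : G) = (t : G) * x
    conv_lhs => rw [hk]
    group

omit K in
theorem exists_lift {K : Cfg F} (h : K.IsRefl t) {g : F.Cz} (hg : Commute (F.bar g) (F.bar t)) :
    ∃ c : F.Cz, Commute c t ∧ F.bar c = F.bar g := by
  set t' := g * t * g⁻¹ with ht'
  have ht'2 : t' * t' = 1 := by
    calc t' * t' = g * (t * t) * g⁻¹ := by rw [ht']; group
      _ = 1 := by rw [h.sq]; group
  set u := t' * t with hu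
  have huQ : (u : G) ∈ F.Q := F.bar_eq_one.1 (by
    rw [hu, ht', map_mul, map_mul, map_mul, map_inv, hg.eq, mul_inv_cancel_right, ← map_mul, h.sq, map_one])
  have hu3 : u ^ 3 = 1 := Subtype.ext (F.pow_three huQ)
  have hti : t⁻¹ = t := inv_eq_of_mul_eq_one_right h.sq
  have hti' : t'⁻¹ = t' := inv_eq_of_mul_eq_one_right ht'2
  have hinv : t * u = u⁻¹ * t := by
    rw [hu, mul_inv_rev, hti, hti']
    group
  set w := u * u with hw
  have hww : w * w = u := by
    calc w * w = u ^ 3 * u := by rw [hw, pow_three]; simp only [mul_assoc]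
      _ = u := by rw [hu3, one_mul]
  have htw : t * w⁻¹ = w * t := by
    have h1 : t * u⁻¹ = u * t := by
      calc t * u⁻¹ = u * (u⁻¹ * t) * u⁻¹ := by group
        _ = u * (t * u) * u⁻¹ := by rw [hinv]
        _ = u * t := by group
    calc t * w⁻¹ = t * u⁻¹ * u⁻¹ := by rw [hw]; group
      _ = u * (t * u⁻¹) := by rw [← mul_assoc, h1]
      _ = w * t := by rw [h1, hw]; group
  have hconj : w * t * w⁻¹ = t' := by
    calc w * t * w⁻¹ = w * (t * w⁻¹) := by group
      _ = w * w * t := by rw [htw]; group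
      _ = t' * (t * t) := by rw [hww, hu]; group
      _ = t' := by rw [h.sq, mul_one]
  refine ⟨w⁻¹ * g, ?_, ?_⟩
  · show w⁻¹ * g * t = t * (w⁻¹ * g)
    calc w⁻¹ * g * t = w⁻¹ * t' * g := by rw [ht']; group
      _ = w⁻¹ * (w * t * w⁻¹) * g := by rw [hconj]
      _ = t * (w⁻¹ * g) := by group
  · rw [map_mul, map_inv, (F.bar_eq_one (c := w)).2 (mul_mem huQ huQ), inv_one, one_mul]

omit K in
theorem commute_T {K : Cfg F} (h : K.IsRefl t) {c : F.Cz} (hc : Commute c t) (v : V4) :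
    F.act c (T v) = T (F.act c v) := by
  rw [← h.act_eq, ← h.act_eq, ← F.act_mul, hc.eq, F.act_mul]

omit K in
theorem plane {K : Cfg F} (h : K.IsRefl t) {c : F.Cz} (hc : Commute c t) :
    F.act c (Pi.single 1 1) 0 = 0 ∧ F.act c (Pi.single 1 1) 2 = 0 ∧
    F.act c (Pi.single 3 1) 0 = 0 ∧ F.act c (Pi.single 3 1) 2 = 0 := by
  have key : ∀ v, T v = v → F.act c v 0 = 0 ∧ F.act c v 2 = 0 := fun v hv => by
    have h' := h.commute_T hc v
    rw [hv] at h'
    exact ⟨Sp4.neg_eq_self_three _ (congrFun h' 0).symm, Sp4.neg_eq_self_three _ (congrFun h' 2).symm⟩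
  obtain ⟨a, b⟩ := key (Pi.single 1 1) (by decide)
  obtain ⟨a', b'⟩ := key (Pi.single 3 1) (by decide)
  exact ⟨a, b, a', b'⟩

/-- The subgroup fixing the plane. -/
noncomputable def Lg {K : Cfg F} (_h : K.IsRefl t) : Subgroup F.Cz where
  carrier := {c | Commute c t ∧ F.act c (Pi.single 1 1) = Pi.single 1 1 ∧ F.act c (Pi.single 3 1) = Pi.single 3 1}
  one_mem' := ⟨Commute.one_left t, by rw [F.act_one]; rfl, by rw [F.act_one]; rfl⟩
  mul_mem' := fun {a b} ha hb => ⟨ha.1.mul_left hb.1, by rw [F.act_mul, hb.2.1, ha.2.1],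
    by rw [F.act_mul, hb.2.2, ha.2.2]⟩
  inv_mem' := fun {a} ha => by
    refine ⟨ha.1.inv_left, ?_, ?_⟩
    · conv_lhs => rw [← ha.2.1]
      rw [← F.act_mul, inv_mul_cancel, F.act_one]; rfl
    · conv_lhs => rw [← ha.2.2]
      rw [← F.act_mul, inv_mul_cancel, F.act_one]; rfl

omit K in
theorem im_mem_Ps {K : Cfg F} (h : K.IsRefl t) {c : F.Cz} (hc : c ∈ h.Lg) : F.im c ∈ Ps := by
  refine List.mem_filter.2 ⟨K.S.im_mem c, ?_⟩
  simp only [inP, Bool.and_eq_true, Nat.beq_eq]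
  refine ⟨⟨?_, ?_⟩, ?_⟩
  · rw [← h.im_eq, ← F.im_mul, ← F.im_mul, hc.1.eq]
  · rw [Frame.im, (Sp4.col_code _).2.1, hc.2.1, Sp4.vc_single.2.1]
  · rw [Frame.im, (Sp4.col_code _).2.2.2, hc.2.2, Sp4.vc_single.2.2.2]

omit K in
theorem exists_of_Ps {K : Cfg F} (h : K.IsRefl t) {n : ℕ} (hn : n ∈ Ps) : ∃ c ∈ h.Lg, F.im c = n := by
  obtain ⟨hN, hp⟩ := List.mem_filter.1 hn
  simp only [inP, Bool.and_eq_true, Nat.beq_eq] at hp
  obtain ⟨⟨hc, h1⟩, h3⟩ := hp
  obtain ⟨g, hg⟩ := K.S.exists_im hN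
  obtain ⟨c, hct, hcg⟩ := h.exists_lift (g := g) (by
    show F.bar g * F.bar t = F.bar t * F.bar g
    rw [← map_mul, ← map_mul, ← F.im_eq_iff, F.im_mul, F.im_mul, h.im_eq, hg, hc])
  have him : F.im c = n := (F.im_eq_iff.2 hcg).trans hg
  refine ⟨c, ⟨hct, Sp4.vc_inj ?_, Sp4.vc_inj ?_⟩, him⟩
  · rw [← (Sp4.col_code (F.act c)).2.1, show code (F.act c) = F.im c from rfl, him, h1, Sp4.vc_single.2.1]
  · rw [← (Sp4.col_code (F.act c)).2.2.2, show code (F.act c) = F.im c from rfl, him, h3, Sp4.vc_single.2.2.2]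

omit K in
theorem card_Qt {K : Cfg F} (h : K.IsRefl t) : Nat.card ↥(F.Q ⊓ centralizer {(t : G)}) = 27 := by
  let f : ZMod 3 × ZMod 3 × ZMod 3 → ↥(F.Q ⊓ centralizer {(t : G)}) := fun p =>
    ⟨F.zk p.1 * F.lift ![0, p.2.1, 0, p.2.2], mul_mem (F.Z_le_Q (F.zk_mem _)) (F.lift_mem _),
      mem_centralizer_singleton_iff.2 ((h.fixQ (mul_mem (F.Z_le_Q (F.zk_mem _)) (F.lift_mem _))).2 (by
        rw [F.crd_mul (F.Z_le_Q (F.zk_mem _)) (F.lift_mem _), F.crd_Z (F.zk_mem _), zero_add, F.crd_lift]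
        exact ⟨rfl, rfl⟩)).eq⟩
  have hf : Function.Bijective f := by
    constructor
    · rintro ⟨a, b, c⟩ ⟨a', b', c'⟩ he
      have e : F.zk a * F.lift ![0, b, 0, c] = F.zk a' * F.lift ![0, b', 0, c'] := congrArg Subtype.val he
      have e2 := congrArg F.crd e
      rw [F.crd_mul (F.Z_le_Q (F.zk_mem _)) (F.lift_mem _), F.crd_mul (F.Z_le_Q (F.zk_mem _)) (F.lift_mem _),
        F.crd_Z (F.zk_mem _), F.crd_Z (F.zk_mem _), zero_add, zero_add, F.crd_lift, F.crd_lift] at e2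
      obtain rfl : b = b' := congrFun e2 1
      obtain rfl : c = c' := congrFun e2 3
      obtain rfl : a = a' := F.zk_inj (mul_right_cancel e)
      rfl
    · rintro ⟨x, hxQ, hxt⟩
      obtain ⟨d, hd, e⟩ := F.decomp hxQ
      obtain ⟨h0, h2⟩ := (h.fixQ hxQ).1 (mem_centralizer_singleton_iff.1 hxt)
      obtain ⟨a, ha⟩ := F.exists_zk hd
      refine ⟨(a, F.crd x 1, F.crd x 3), Subtype.ext ?_⟩
      have hv : (![0, F.crd x 1, 0, F.crd x 3] : V4) = F.crd x := by
        funext k; fin_cases k <;> simp [h0, h2]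
      show F.zk a * F.lift ![0, F.crd x 1, 0, F.crd x 3] = x
      conv_rhs => rw [e]
      rw [hv, ha]
      exact (F.commute_Z (F.Q_le (F.lift_mem _)) hd).symm.eq
  rw [← Nat.card_congr (Equiv.ofBijective f hf)]
  simp

omit K in
theorem card_Lg {K : Cfg F} (h : K.IsRefl t) : Nat.card h.Lg = 216 := by
  classical
  choose s hs hs' using fun n : Ps.toFinset => h.exists_of_Ps (List.mem_toFinset.1 n.2)
  have hQ : ∀ q : ↥(F.Q ⊓ centralizer {(t : G)}), (⟨(q : G), F.Q_le q.2.1⟩ : F.Cz) ∈ h.Lg := fun q => by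
    have ha : F.act (⟨(q : G), F.Q_le q.2.1⟩ : F.Cz) = AddMonoidHom.id V4 := F.act_Q q.2.1
    exact ⟨Subtype.ext (mem_centralizer_singleton_iff.1 q.2.2), by rw [ha]; rfl, by rw [ha]; rfl⟩
  let f : Ps.toFinset × ↥(F.Q ⊓ centralizer {(t : G)}) → h.Lg := fun p =>
    ⟨s p.1 * ⟨(p.2 : G), F.Q_le p.2.2.1⟩, mul_mem (hs p.1) (hQ p.2)⟩
  have him : ∀ (n : Ps.toFinset) (q : ↥(F.Q ⊓ centralizer {(t : G)})),
      F.im (s n * ⟨(q : G), F.Q_le q.2.1⟩) = n := fun n q => by
    rw [← hs' n, F.im_eq_iff, map_mul, (F.bar_eq_one (c := (⟨(q : G), F.Q_le q.2.1⟩ : F.Cz))).2 q.2.1, mul_one]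
  have hf : Function.Bijective f := by
    constructor
    · rintro ⟨n, q⟩ ⟨n', q'⟩ he
      have e : s n * ⟨(q : G), F.Q_le q.2.1⟩ = s n' * ⟨(q' : G), F.Q_le q'.2.1⟩ := congrArg Subtype.val he
      obtain rfl : n = n' := Subtype.ext (by rw [← him n q, ← him n' q', e])
      exact Prod.ext rfl (Subtype.ext (congrArg Subtype.val (mul_left_cancel e) :))
    · rintro ⟨c, hc⟩
      set n : Ps.toFinset := ⟨F.im c, List.mem_toFinset.2 (h.im_mem_Ps hc)⟩
      have hq : (((s n)⁻¹ * c : F.Cz) : G) ∈ F.Q := F.bar_eq_one.1 (by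
        rw [map_mul, map_inv, inv_mul_eq_one, ← F.im_eq_iff, hs'])
      have hqt : Commute (((s n)⁻¹ * c : F.Cz) : G) (t : G) :=
        congrArg Subtype.val ((hs n).1.inv_left.mul_left hc.1).eq
      exact ⟨(n, ⟨_, hq, mem_centralizer_singleton_iff.2 hqt.eq⟩), Subtype.ext (mul_inv_cancel_left (s n) c)⟩
  rw [← Nat.card_congr (Equiv.ofBijective f hf), Nat.card_prod, Nat.card_eq_finsetCard, Sp4.Ps_ok.1, h.card_Qt]

end IsRefl

variable (K)

/-- The reflection, the quaternion group and the centraliser. -/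
theorem exists_refl : Nonempty (Refl K) := by
  classical
  haveI : Fact (Nat.Prime 2) := ⟨Nat.prime_two⟩
  obtain ⟨t, ht2, htT, htel⟩ := K.exists_t
  have h : K.IsRefl t := ⟨ht2, htT, htel⟩
  have hCz : centralizer ({K.el e0} : Set G) = F.Cz := by rw [K.el_e0]
  have memH : ∀ {x : G}, x ∈ centralizer ({K.el e0} : Set G) ⊓ centralizer {(t : G)} ↔
      ∃ hx : x ∈ F.Cz, Commute (⟨x, hx⟩ : F.Cz) t := fun {x} => by
    rw [hCz, mem_inf]
    exact ⟨fun hh => ⟨hh.1, Subtype.ext (mem_centralizer_singleton_iff.1 hh.2)⟩,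
      fun ⟨hx, hc⟩ => ⟨hx, mem_centralizer_singleton_iff.2 (congrArg Subtype.val hc.eq)⟩⟩
  obtain ⟨P₈, hP₈⟩ := Sylow.exists_subgroup_card_pow_prime 2 (n := 3) (G := h.Lg) (by rw [h.card_Lg]; norm_num)
  -- two-elements
  have h8 : ∀ p ∈ P₈, ((p : F.Cz) : G) ^ 8 = 1 := fun p hp => by
    have h1 := congrArg Subtype.val (pow_card_eq_one' (x := (⟨p, hp⟩ : P₈)))
    rw [hP₈] at h1
    exact congrArg (fun c : h.Lg => ((c : F.Cz) : G)) h1
  have htriv : ∀ x : G, x ∈ F.Q → x ^ 8 = 1 → x = 1 := fun x hx hx8 => by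
    calc x = (x ^ 3) ^ 3 * (x ^ 8)⁻¹ := by group
      _ = 1 := by rw [F.pow_three hx, hx8, one_pow, inv_one, one_mul]
  have hcomm : ∀ p ∈ P₈, ∀ q ∈ F.Q ⊓ centralizer {(t : G)}, Commute ((p : F.Cz) : G) q := by
    intro p hp q hq
    obtain ⟨hqQ, hqt⟩ := hq
    obtain ⟨h0, h2⟩ := (h.fixQ hqQ).1 (mem_centralizer_singleton_iff.1 hqt)
    have hdec : F.crd q = F.crd q 1 • Pi.single 1 1 + F.crd q 3 • Pi.single 3 1 := by
      funext k; fin_cases k <;> simp [h0, h2]
    have hfix : F.act (p : F.Cz) (F.crd q) = F.crd q := by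
      rw [hdec, map_add, ZMod.map_smul, ZMod.map_smul, p.2.2.1, p.2.2.2]
    rw [F.act_crd _ hqQ, eq_comm, F.crd_eq_iff hqQ (F.normal _ p.1.2 _ hqQ)] at hfix
    set u := q⁻¹ * (((p : F.Cz) : G) * q * ((p : F.Cz) : G)⁻¹) with hu
    have hpow : ∀ n : ℕ, ((p : F.Cz) : G) ^ n * q * (((p : F.Cz) : G) ^ n)⁻¹ = q * u ^ n := by
      intro n
      induction n with
      | zero => simp
      | succ n ih =>
        calc ((p : F.Cz) : G) ^ (n + 1) * q * (((p : F.Cz) : G) ^ (n + 1))⁻¹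
            = ((p : F.Cz) : G) * (((p : F.Cz) : G) ^ n * q * (((p : F.Cz) : G) ^ n)⁻¹) * ((p : F.Cz) : G)⁻¹ := by
              group
          _ = (((p : F.Cz) : G) * q * ((p : F.Cz) : G)⁻¹) * (((p : F.Cz) : G) * u ^ n * ((p : F.Cz) : G)⁻¹) := by
              rw [ih]; group
          _ = q * u ^ (n + 1) := by
            rw [F.fix_Z p.1.2 (pow_mem hfix n), pow_succ' u n, ← mul_assoc,
              show q * u = ((p : F.Cz) : G) * q * ((p : F.Cz) : G)⁻¹ by rw [hu]; group]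
    have h1 := hpow 8
    rw [h8 p hp, one_mul, inv_one, mul_one] at h1
    have hu1 : u = 1 := htriv u (F.Z_le_Q hfix) (mul_eq_left.1 h1.symm)
    rw [hu, inv_mul_eq_one] at hu1
    exact (eq_mul_inv_iff_mul_eq.1 hu1).symm
  -- the product decomposition
  have hdecomp : ∀ c : h.Lg, ∃ q ∈ F.Q ⊓ centralizer {(t : G)}, ∃ p ∈ P₈, ((c : F.Cz) : G) = q * ((p : F.Cz) : G) := by
    have hQL : ∀ q : ↥(F.Q ⊓ centralizer {(t : G)}), (⟨(q : G), F.Q_le q.2.1⟩ : F.Cz) ∈ h.Lg := fun q => by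
      have ha : F.act (⟨(q : G), F.Q_le q.2.1⟩ : F.Cz) = AddMonoidHom.id V4 := F.act_Q q.2.1
      exact ⟨Subtype.ext (mem_centralizer_singleton_iff.1 q.2.2), by rw [ha]; rfl, by rw [ha]; rfl⟩
    let f : ↥(F.Q ⊓ centralizer {(t : G)}) × P₈ → h.Lg := fun x =>
      (⟨⟨(x.1 : G), F.Q_le x.1.2.1⟩, hQL x.1⟩ : h.Lg) * (x.2 : h.Lg)
    have hinj : Function.Injective f := by
      rintro ⟨q, p⟩ ⟨q', p'⟩ he
      have e : (q : G) * (((p : h.Lg) : F.Cz) : G) = (q' : G) * (((p' : h.Lg) : F.Cz) : G) :=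
        congrArg (fun c : h.Lg => ((c : F.Cz) : G)) he
      have hd : (q' : G)⁻¹ * q = ((((p' * p⁻¹ : P₈) : h.Lg) : F.Cz) : G) := by
        have : (((p' * p⁻¹ : P₈) : h.Lg) : F.Cz).1 = (((p' : h.Lg) : F.Cz) : G) * (((p : h.Lg) : F.Cz) : G)⁻¹ := rfl
        rw [this, inv_mul_eq_iff_eq_mul, ← mul_assoc, ← e, mul_inv_cancel_right]
      have h1 := htriv _ (mul_mem (inv_mem q'.2.1) q.2.1) (by rw [hd]; exact h8 _ (p' * p⁻¹).2)
      obtain rfl : q = q' := Subtype.ext (inv_mul_eq_one.1 h1).symm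
      exact Prod.ext rfl (Subtype.ext (mul_left_cancel he))
    have hbij := (Nat.bijective_iff_injective_and_card f).2 ⟨hinj, by
      rw [Nat.card_prod, h.card_Qt, hP₈, h.card_Lg]; norm_num⟩
    intro c
    obtain ⟨⟨q, p⟩, rfl⟩ := hbij.2 c
    exact ⟨q, q.2, p, p.2, rfl⟩
  -- all two-elements of the subgroup
  have huniq : ∀ c : h.Lg, ((c : F.Cz) : G) ^ 8 = 1 → c ∈ P₈ := by
    intro c hc
    obtain ⟨q, hq, p, hp, e⟩ := hdecomp c
    rw [e, ((hcomm p hp q hq).symm).mul_pow, h8 p hp, mul_one] at hc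
    rw [htriv q hq.1 hc, one_mul] at e
    exact (show c = p from Subtype.ext (Subtype.ext e)) ▸ hp
  have htL : t ∈ h.Lg := ⟨Commute.refl t, by rw [htT]; decide, by rw [htT]; decide⟩
  have ht8 : (t : G) ^ 8 = 1 := by
    have h1 : (t : G) ^ 2 = 1 := by rw [pow_two]; exact congrArg Subtype.val ht2
    rw [show (8 : ℕ) = 2 * 4 from rfl, pow_mul, h1, one_pow]
  set P : Subgroup G := (P₈.map h.Lg.subtype).map F.Cz.subtype with hP
  have memP : ∀ {x : G}, x ∈ P ↔ ∃ p ∈ P₈, ((p : F.Cz) : G) = x := fun {x} => by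
    rw [hP]
    simp only [mem_map, coe_subtype]
    exact ⟨fun ⟨_, ⟨p, hp, e1⟩, e2⟩ => ⟨p, hp, by rw [← e2, ← e1]⟩, fun ⟨p, hp, e⟩ => ⟨_, ⟨p, hp, rfl⟩, e⟩⟩
  -- the map onto the special linear group
  have hdet : ∀ c : F.Cz, Commute c t → (Mt (F.act c)).det = 1 := fun c hc => by
    obtain ⟨a, b, a', b'⟩ := h.plane hc
    have h' := F.act_pres c (Pi.single 1 1) (Pi.single 3 1)
    simp [sf, a, b, a', b'] at h'
    rw [Mt, Matrix.det_fin_two_of]
    linear_combination h'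
  have hmul : ∀ c d : F.Cz, Commute c t → Commute d t →
      Mt (F.act (c * d)) = Mt (F.act c) * Mt (F.act d) := fun c d hc hd => by
    obtain ⟨a, b, a', b'⟩ := h.plane hd
    have key : ∀ w : V4, w 0 = 0 → w 2 = 0 → ∀ k, F.act c w k =
        F.act c (Pi.single 1 1) k * w 1 + F.act c (Pi.single 3 1) k * w 3 := by
      intro w h0 h2 k
      conv_lhs => rw [Sp4.v4_decomp w]
      simp only [map_add, ZMod.map_smul, h0, h2, zero_smul, zero_add]
      simp
      ring
    ext i j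
    fin_cases i <;> fin_cases j <;>
      simp [Mt, Matrix.mul_apply, Fin.sum_univ_two, F.act_mul, key _ a b, key _ a' b']
  let f : ↥(centralizer ({K.el e0} : Set G) ⊓ centralizer {(t : G)}) →*
      Matrix.SpecialLinearGroup (Fin 2) (ZMod 3) :=
    MonoidHom.mk' (fun x => ⟨Mt (F.act ⟨x.1, (memH.1 x.2).1⟩), hdet _ (memH.1 x.2).2⟩) fun x y =>
      Subtype.ext (hmul ⟨x.1, (memH.1 x.2).1⟩ ⟨y.1, (memH.1 y.2).1⟩ (memH.1 x.2).2 (memH.1 y.2).2)
  have hker : ∀ c : F.Cz, Commute c t → (Mt (F.act c) = 1 ↔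
      ∃ q ∈ F.Q ⊓ centralizer {(t : G)}, ∃ p ∈ P, (c : G) = q * p) := by
    intro c hc
    constructor
    · intro hM
      obtain ⟨a, b, a', b'⟩ := h.plane hc
      have m11 := congrFun (congrFun hM 0) 0
      have m13 := congrFun (congrFun hM 0) 1
      have m31 := congrFun (congrFun hM 1) 0
      have m33 := congrFun (congrFun hM 1) 1
      simp [Mt] at m11 m13 m31 m33
      have hL : c ∈ h.Lg := by
        refine ⟨hc, ?_, ?_⟩
        · funext k; fin_cases k <;> simp [a, b, m11, m31]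
        · funext k; fin_cases k <;> simp [a', b', m13, m33]
      obtain ⟨q, hq, p, hp, e⟩ := hdecomp ⟨c, hL⟩
      exact ⟨q, hq, _, memP.2 ⟨p, hp, rfl⟩, e⟩
    · rintro ⟨q, hq, x, hx, e⟩
      obtain ⟨p, hp, rfl⟩ := memP.1 hx
      have ec : c = ⟨q, F.Q_le hq.1⟩ * (p : F.Cz) := Subtype.ext e
      have ha : F.act (⟨q, F.Q_le hq.1⟩ : F.Cz) = AddMonoidHom.id V4 := F.act_Q hq.1
      rw [ec]
      ext i j
      fin_cases i <;> fin_cases j <;> simp [Mt, F.act_mul, ha, p.2.2.1, p.2.2.2]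
  refine ⟨{
    t := (t : G)
    t_sq := congrArg Subtype.val ht2
    t_act := htel
    P := P
    P_card := ?_
    P_le := ?_
    t_mem := memP.2 ⟨⟨t, htL⟩, huniq _ ht8, rfl⟩
    P_invol := ?_
    P_norm := ?_
    P_comm := ?_
    P_move := ?_
    cQt_card := h.card_Qt
    centT := ⟨f, ?_, ?_⟩
    centT_stab := ?_ }⟩
  · rw [hP, Subgroup.card_subtype, Subgroup.card_subtype, hP₈]; norm_num
  · intro x hx
    obtain ⟨p, -, rfl⟩ := memP.1 hx
    exact memH.2 ⟨p.1.2, p.2.1⟩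
  · intro x hx hxx
    obtain ⟨p, hp, rfl⟩ := memP.1 hx
    have hpp : (p : F.Cz) * (p : F.Cz) = 1 := Subtype.ext hxx
    have hmm : mm (F.im (p : F.Cz)) (F.im (p : F.Cz)) = c1 := by rw [← F.im_mul, hpp, F.im_one]
    have hck := Sp4.Ps_ok.2.2.2.1
    simp only [List.all_eq_true, Bool.and_eq_true, Bool.or_eq_true, Bool.not_eq_true', Nat.beq_eq] at hck
    rcases (hck _ (h.im_mem_Ps p.2)).1 with (h' | h') | h'
    · rw [hmm] at h'; exact absurd h' (by simp)
    · refine Or.inl (htriv _ (F.bar_eq_one.1 (by rw [← map_one F.bar, ← F.im_eq_iff, h', F.im_one])) (h8 p hp))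
    · refine Or.inr ?_
      have hQ : (((p : F.Cz) * t : F.Cz) : G) ∈ F.Q := F.bar_eq_one.1 (by
        rw [map_mul, F.im_eq_iff.1 (h'.trans h.im_eq.symm), ← map_mul, ht2, map_one])
      have h1 := htriv _ hQ (by
        show (((p : F.Cz) : G) * (t : G)) ^ 8 = 1
        rw [(show Commute ((p : F.Cz) : G) (t : G) from congrArg Subtype.val p.2.1.eq).mul_pow, h8 p hp, ht8,
          one_mul])
      calc ((p : F.Cz) : G) = (((p : F.Cz) * t : F.Cz) : G) * (t : G) := by
            rw [Subgroup.coe_mul, mul_assoc, show (t : G) * t = 1 from congrArg Subtype.val ht2, mul_one]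
        _ = t := by rw [h1, one_mul]
  · intro g hg x hx
    obtain ⟨hgC, hgt⟩ := memH.1 hg
    obtain ⟨p, hp, rfl⟩ := memP.1 hx
    set c : F.Cz := ⟨g, hgC⟩ with hc
    have hcomm' : Commute (c * (p : F.Cz) * c⁻¹) t := (hgt.mul_left p.2.1).mul_left hgt.inv_left
    have hfix : ∀ v, T v = v → F.act (c * (p : F.Cz) * c⁻¹) v = v := fun v hv => by
      have hw : T (F.act c⁻¹ v) = F.act c⁻¹ v := by rw [← h.commute_T hgt.inv_left, hv]
      have hw' : F.act c⁻¹ v = F.act c⁻¹ v 1 • Pi.single 1 1 + F.act c⁻¹ v 3 • Pi.single 3 1 := by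
        funext k
        fin_cases k
        · simp; exact Sp4.neg_eq_self_three _ (congrFun hw 0)
        · simp
        · simp; exact Sp4.neg_eq_self_three _ (congrFun hw 2)
        · simp
      rw [F.act_mul, F.act_mul, hw', map_add, ZMod.map_smul, ZMod.map_smul, p.2.2.1, p.2.2.2, ← hw', F.act_inv_apply]
    have hm : c * (p : F.Cz) * c⁻¹ ∈ h.Lg := ⟨hcomm', hfix _ (by decide), hfix _ (by decide)⟩
    refine memP.2 ⟨⟨_, hm⟩, huniq _ ?_, rfl⟩
    show (g * ((p : F.Cz) : G) * g⁻¹) ^ 8 = 1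
    rw [conj_pow, h8 p hp, mul_one, mul_inv_cancel]
  · intro x hx q hq
    obtain ⟨p, hp, rfl⟩ := memP.1 hx
    exact (hcomm p hp q hq).eq
  · intro v _ hv3 x hx hxv
    obtain ⟨p, hp, rfl⟩ := memP.1 hx
    have hpc : Commute (p : F.Cz) (K.elc v) := Subtype.ext hxv.eq
    set w : V4 := v 3 • e3 with hw
    have hb : F.bar (K.elc v) = F.bar (K.elc w) := by
      rw [← inv_mul_eq_one, ← map_inv, ← map_mul, F.bar_eq_one]
      show (K.el v)⁻¹ * K.el w ∈ F.Q
      rw [← el_neg, ← el_add, el_Q]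
      simp [hw, e3]
    have himp : mm (F.im (p : F.Cz)) (F.im (K.elc w)) = mm (F.im (K.elc w)) (F.im (p : F.Cz)) := by
      rw [← F.im_eq_iff.2 hb, ← F.im_mul, ← F.im_mul, hpc.eq]
    have he3 : F.im (K.elc e3) = mm cx cx := by
      have e : K.elc e3 = K.P.yc * K.P.yc := Subtype.ext (by
        show K.el e3 = K.P.y * K.P.y
        rw [el_e3, pow_two])
      rw [e, F.im_mul, K.hx]
    have hw' : F.im (K.elc w) = mm cx cx ∨ F.im (K.elc w) = mm (mm cx cx) (mm cx cx) := by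
      rcases (by decide : ∀ a : ZMod 3, a ≠ 0 → a = 1 ∨ a = 1 + 1) _ hv3 with e | e
      · exact Or.inl (by rw [hw, e, one_smul, he3])
      · refine Or.inr ?_
        rw [← he3, ← F.im_mul, hw, e, add_smul, one_smul]
        exact congrArg F.im (Subtype.ext (K.el_add e3 e3))
    have hck := Sp4.Ps_ok.2.2.2.1
    simp only [List.all_eq_true, Bool.and_eq_true, Bool.or_eq_true, Bool.not_eq_true', Nat.beq_eq,
      Bool.or_eq_false_iff] at hck
    rcases (hck _ (h.im_mem_Ps p.2)).2 with (h' | h') | h'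
    · rcases hw' with e | e <;> rw [e] at himp
      · rw [himp] at h'; exact absurd h'.1 (by simp)
      · rw [himp] at h'; exact absurd h'.2 (by simp)
    · refine Or.inl (htriv _ (F.bar_eq_one.1 (by rw [← map_one F.bar, ← F.im_eq_iff, h', F.im_one])) (h8 p hp))
    · refine Or.inr ?_
      have hQ : (((p : F.Cz) * t : F.Cz) : G) ∈ F.Q := F.bar_eq_one.1 (by
        rw [map_mul, F.im_eq_iff.1 (h'.trans h.im_eq.symm), ← map_mul, ht2, map_one])
      have h1 := htriv _ hQ (by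
        show (((p : F.Cz) : G) * (t : G)) ^ 8 = 1
        rw [(show Commute ((p : F.Cz) : G) (t : G) from congrArg Subtype.val p.2.1.eq).mul_pow, h8 p hp, ht8,
          one_mul])
      calc ((p : F.Cz) : G) = (((p : F.Cz) * t : F.Cz) : G) * (t : G) := by
            rw [Subgroup.coe_mul, mul_assoc, show (t : G) * t = 1 from congrArg Subtype.val ht2, mul_one]
        _ = t := by rw [h1, one_mul]
  · intro A
    have hck := Sp4.Ps_ok.2.2.2.2
    simp only [List.all_eq_true, List.mem_range, Bool.or_eq_true, Bool.not_eq_true', List.any_eq_true,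
      Bool.and_eq_true, Nat.beq_eq, beq_iff_eq] at hck
    have hd : (A.1 0 0 * A.1 1 1 - A.1 0 1 * A.1 1 0 : ZMod 3) = 1 := by
      rw [← Matrix.det_fin_two]; exact A.2
    have hsl : Sp4.sl (A.1 0 0).val (A.1 0 1).val (A.1 1 0).val (A.1 1 1).val = true :=
      (by decide : ∀ a b c d : ZMod 3, a * d - b * c = 1 → Sp4.sl a.val b.val c.val d.val = true) _ _ _ _ hd
    obtain ⟨n, hn, hnc, hnq⟩ := (hck _ (A.1 0 0).val_lt _ (A.1 0 1).val_lt _ (A.1 1 0).val_lt _
      (A.1 1 1).val_lt).resolve_left (by rw [hsl]; simp)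
    obtain ⟨g, hg⟩ := K.S.exists_im hn
    obtain ⟨c, hct, hcg⟩ := h.exists_lift (g := g) (by
      show F.bar g * F.bar t = F.bar t * F.bar g
      rw [← map_mul, ← map_mul, ← F.im_eq_iff, F.im_mul, F.im_mul, h.im_eq, hg, hnc])
    refine ⟨⟨c, memH.2 ⟨c.2, hct⟩⟩, Subtype.ext ?_⟩
    show Mt (F.act c) = A.1
    have hq1 := Sp4.quot1_code (F.act c)
    rw [show code (F.act c) = F.im c from rfl, (F.im_eq_iff.2 hcg).trans hg, hnq] at hq1
    simp only [Prod.mk.injEq] at hq1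
    ext i j
    fin_cases i <;> fin_cases j
    · exact (ZMod.val_injective 3 hq1.1).symm
    · exact (ZMod.val_injective 3 hq1.2.1).symm
    · exact (ZMod.val_injective 3 hq1.2.2.1).symm
    · exact (ZMod.val_injective 3 hq1.2.2.2).symm
  · intro x
    exact (Subtype.ext_iff).trans (hker ⟨x.1, (memH.1 x.2).1⟩ (memH.1 x.2).2)
  · intro g hg hge
    obtain ⟨hgC, hgt⟩ := memH.1 hg
    set c : F.Cz := ⟨g, hgC⟩
    have hf2 : F.act c (Pi.single 1 1) = Pi.single 1 1 := by
      have h' := F.act_fix_of_commute (c := c) K.f2_Q (K.el_e2 ▸ hge)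
      rwa [K.f2_crd] at h'
    have he3t : Commute (K.elc e3) t := Subtype.ext (by
      show K.el e3 * (t : G) = (t : G) * K.el e3
      have h' := htel e3
      rw [show refl1 e3 = e3 by decide, mul_inv_eq_iff_eq_mul] at h'
      exact h'.symm)
    set k := (F.act c (Pi.single 3 1) 1).val with hk
    set c' := c * K.elc e3 ^ k with hc'
    have hc't : Commute c' t := hgt.mul_left (he3t.pow_left k)
    have hp3 : ∀ (n : ℕ) (v : V4), F.act (K.elc e3 ^ n) v =
        ![v 0 + 2 * n * v 2, v 1 + 2 * n * v 3, v 2, v 3] := by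
      intro n
      induction n with
      | zero =>
        intro v
        rw [pow_zero, F.act_one]
        funext j; fin_cases j <;> simp
      | succ n ih =>
        intro v
        rw [pow_succ', F.act_mul, ih, K.act_e3]
        funext j
        fin_cases j <;> simp [X] <;> ring
    have hd := hdet c hgt
    rw [Mt, Matrix.det_fin_two_of, hf2] at hd
    simp at hd
    have hM : Mt (F.act c') = 1 := by
      rw [hc', hmul c _ hgt (he3t.pow_left k)]
      ext i j
      fin_cases i <;> fin_cases j <;>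
        simp [Mt, Matrix.mul_apply, Fin.sum_univ_two, hp3, hf2, hd, hk]
      exact (by decide : ∀ b : ZMod 3, 2 * b + b = 0) _
    obtain ⟨q, hq, p, hp, e⟩ := (hker c' hc't).1 hM
    refine ⟨q, hq, p, hp, 2 * k, ?_⟩
    rw [← e]
    show g = g * K.el e3 ^ k * K.el e3 ^ (2 * k)
    have h3 : K.el e3 ^ 3 = 1 := by
      rw [el_e3, ← pow_mul, mul_comm, pow_mul, K.P.y3, one_pow]
    rw [mul_assoc, ← pow_add, show k + 2 * k = 3 * k by ring, pow_mul, h3, one_pow, mul_one]

end Cfg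

end Cfsg.Agent.Co2Three.Local
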