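import Cfsg.Agent.Lib.Co2Three.Local.Assemble
import Cfsg.Agent.Lib.Co2Three.Local.ReflP

/-!
S3336: the hypotheses give the local configuration.
-/

set_option autoImplicit false

namespace Cfsg.Agent.Co2Three.Local

theorem exists_loc {G : Type*} [Group G] [Finite G]
    (S : Sylow 3 G) (Z : Subgroup G) (hZ : Z = (S : Subgroup G) ⊓ Subgroup.centralizer ((S : Subgroup G) : Set G))
    (C : Subgroup G) (hCZ : C = Subgroup.centralizer (Z : Set G))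
    (hQ : Cfsg.IsExtraspecial 3 (Cfsg.pCore 3 C)) (hQcard : Nat.card (Cfsg.pCore 3 C) = 3 ^ 5)
    (hR : Cfsg.IsExtraspecial 2 (Cfsg.pCore 2 (C ⧸ Cfsg.pCore 3 C)))
    (hRcard : Nat.card (Cfsg.pCore 2 (C ⧸ Cfsg.pCore 3 C)) = 2 ^ 5)
    (e : (C ⧸ Cfsg.pCore 3 C) ⧸ Cfsg.pCore 2 (C ⧸ Cfsg.pCore 3 C) ≃* alternatingGroup (Fin 5))
    (hnwc : ¬ Cfsg.IsWeaklyClosed Z S) : Nonempty (Loc G) := by
  obtain ⟨D⟩ := exists_ext S Z hZ C hCZ hQ hQcard hR hRcard e hnwc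
  obtain ⟨F, -, ⟨K⟩⟩ := exists_cfg D
  obtain ⟨R⟩ := K.exists_refl
  exact ⟨K.toLoc R⟩

end Cfsg.Agent.Co2Three.Local
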