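import Cfsg.Agent.Lib.Co2Three.Local.Code
import Cfsg.Agent.Lib.Co2Three.Local.Data

/-!
S3336: checks on the normaliser of the extraspecial group of order 32.
-/

set_option autoImplicit false
set_option maxRecDepth 100000
set_option maxHeartbeats 800000

namespace Cfsg.Agent.Co2Three.Sp4

/-- The pairs of basis vectors. -/
def bas : List ℕ := [1, 3, 9, 27]

/-- The form is kept. -/
def isSp (g : ℕ) : Bool := bas.all fun u => bas.all fun v => Nat.beq (om (ap g u) (ap g v)) (om u v)

/-- The group of order 32 is normalised. -/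
def inN (g : ℕ) : Bool := gens.all fun a => R0.any fun b => Nat.beq (mm b g) (mm g a)

/-- The involution among the generators. -/
def cr : ℕ := gens.getD 2 0

/-- The other one. -/
def cs : ℕ := gens.getD 3 0

/-- Minus the identity. -/
def cm : ℕ := pk4 2 6 18 54

theorem R0_closed : (R0.all fun a => gens.all fun b => R0.contains (mm a b)) = true ∧ R0.contains c1 = true ∧
    gens.all (fun a => R0.contains a) = true ∧ Nat.beq R0.length 32 = true := by decide +kernel

theorem R0_invol : (R0.all fun b => !Nat.beq (mm b b) c1 || Nat.beq b c1 || Nat.beq b cm ||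
    hs.any fun p => Nat.beq p.1 b) = true := by decide +kernel

theorem hs_ok : (hs.all fun p => Nat.beq (mm p.2.2 p.2.1) c1 && Nat.beq (mm p.2.1 p.2.2) c1 &&
    Nat.beq (mm p.2.1 cr) (mm p.1 p.2.1) && isSp p.2.2 && inN p.2.2) = true := by decide +kernel

/-- A block candidate. -/
def blockOf (a b c d : ℕ) : ℕ :=
  pk4 (v4 (dg a 0) 0 (dg a 1) 0) (v4 0 (dg b 0) 0 (dg b 1)) (v4 (dg c 0) 0 (dg c 1) 0) (v4 0 (dg d 0) 0 (dg d 1))

theorem ups_ok : ((List.range 9).all fun a => (List.range 9).all fun c =>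
      !Nat.beq (om (v4 (dg a 0) 0 (dg a 1) 0) (v4 (dg c 0) 0 (dg c 1) 0)) 1 ||
        ups.any fun p => Nat.beq (col p.1 0) (v4 (dg a 0) 0 (dg a 1) 0) &&
          Nat.beq (col p.1 2) (v4 (dg c 0) 0 (dg c 1) 0)) = true ∧
    (ups.all fun p => blk.contains p.1 && Nat.beq (mm p.2 p.1) c1 && Nat.beq (mm p.1 p.2) c1 && isSp p.2 && inN p.2) =
      true := by decide +kernel

theorem low_complete : ((List.range 9).all fun b => (List.range 9).all fun d =>
      !(isSp (blockOf 1 b 3 d)) || !(inN (blockOf 1 b 3 d)) ||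
        ((ups.all fun p => blk.contains (mm p.1 (blockOf 1 b 3 d))))) = true := by decide +kernel

theorem commute_r_cols : ((List.range 81).all fun u =>
    (!Nat.beq (ap cr u) u || Nat.beq u (v4 (dg u 0) 0 (dg u 2) 0)) &&
    (!Nat.beq (ap cr u) (vsm 2 u) || Nat.beq u (v4 0 (dg u 1) 0 (dg u 3)))) = true ∧
    Nat.beq (ap cr 1) 1 = true ∧ Nat.beq (ap cr 9) 9 = true ∧ Nat.beq (ap cr 3) 6 = true ∧
    Nat.beq (ap cr 27) 54 = true := by decide +kernel

theorem Ns_prod : ((hs.flatMap fun p => blk.map (mm p.2.1)) == Ns) = true ∧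
    Nat.beq Ns.length 1920 = true := by decide +kernel

theorem Ns_lt : (Ns.all fun g => Nat.blt g (81 ^ 4)) = true := by decide +kernel

theorem threes_ok : (Ns.all fun g => Nat.beq g c1 || !Nat.beq (mm g (mm g g)) c1 ||
      threes.any fun p => Nat.beq p.1 g) = true ∧
    (threes.all fun p => Ns.contains p.2 && Nat.beq (mm p.2 cx) (mm p.1 p.2)) = true := by decide +kernel

theorem moves_ok : ((List.range 80).all fun v => Ns.contains (moves.getD v 0) &&
    Nat.beq (col (moves.getD v 0) 0) (v + 1)) = true := by decide +kernel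

theorem fix_W : (Ns.all fun g => !(Nat.beq (col g 0) 1 && Nat.beq (col g 1) 3) ||
    Nat.beq g c1 || Nat.beq g cx || Nat.beq g (mm cx cx)) = true ∧ Ns.contains cx = true ∧
    Ns.contains c1 = true := by decide +kernel

/-- Two by two determinant one. -/
def sl (a b c d : ℕ) : Bool := Nat.beq ((a * d + 2 * (b * c)) % 3) 1

/-- The action on the orthogonal space of the first vector modulo it. -/
def quot1 (g : ℕ) : ℕ × ℕ × ℕ × ℕ := (dg (col g 1) 1, dg (col g 3) 1, dg (col g 1) 3, dg (col g 3) 3)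

theorem stab_first : (Ns.all fun g => !Nat.beq (col g 0) 1 ||
      (sl (quot1 g).1 (quot1 g).2.1 (quot1 g).2.2.1 (quot1 g).2.2.2 &&
        (!((quot1 g) == (1, 0, 0, 1)) || Nat.beq g c1) && Nat.beq (dg (col g 1) 2) 0 && Nat.beq (dg (col g 3) 2) 0)) = true ∧
    ((List.range 3).all fun a => (List.range 3).all fun b => (List.range 3).all fun c => (List.range 3).all fun d =>
      !(sl a b c d) || Ns.any fun g => Nat.beq (col g 0) 1 && quot1 g == (a, b, c, d)) = true := by decide +kernel

theorem center_ok : (Ns.all fun g => !(gens.all fun a => Nat.beq (mm g a) (mm a g)) ||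
    Nat.beq g c1 || Nat.beq g cm) = true ∧ Ns.contains cm = true := by decide +kernel

theorem cent_x : (Ns.all fun g => !(Nat.beq (mm g cx) (mm cx g) || Nat.beq (mm g cx) (mm (mm cx cx) g)) ||
    (Nat.beq (dg (col g 0) 2) 0 && Nat.beq (dg (col g 0) 3) 0 && Nat.beq (dg (col g 1) 2) 0 &&
      Nat.beq (dg (col g 1) 3) 0)) = true := by decide +kernel

end Cfsg.Agent.Co2Three.Sp4
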