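import Cfsg.Agent.Lib.Co2Three.Local.Coords
import Cfsg.Agent.Lib.Co2Three.Tools.Realise
import Cfsg.Agent.Lib.Co2Three.Tools.Signal

/-!
S3336: the normaliser of the subgroup of order 81, signalisers, secants.
-/

set_option autoImplicit false
set_option linter.style.haveILetI false
set_option linter.unusedSectionVars false

namespace Cfsg.Agent.Co2Three.Sp4

/-- The elements normalising the group of the element of order three. -/
def Nx : List ℕ := Ns.filter fun g => Nat.beq (mm g cx) (mm cx g) || Nat.beq (mm g cx) (mm (mm cx cx) g)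

theorem Nx_card : Nx.toFinset.card = 48 := by decide +kernel

end Cfsg.Agent.Co2Three.Sp4

namespace Cfsg.Agent.Co2Three.Local

open Subgroup
open scoped commutatorElement
open Sp4 (sf X code mm cx c1 Ns Nx)

namespace Frame

variable {G : Type*} [Group G] [Finite G] (F : Frame G)

theorem toCore : Core F.Q F.z where
  card := F.card_Q
  mem := F.z_mem
  ord := F.order_z
  centre x hx := ⟨F.center_Q x hx, fun h q hq => (F.commute_Z (F.Q_le hq) h).eq.symm⟩
  comm x hx y hy := by simpa [commutatorElement_def] using F.comm_mem x hx y hy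

theorem Q_le' : F.Q ≤ centralizer ({F.z} : Set G) := F.Q_le

theorem self_cent {g : G} (hg : Commute g F.z) (h : ∀ q ∈ F.Q, Commute g q) : g ∈ F.Q :=
  (F.mem_K_iff (c := ⟨g, F.mem_Cz.2 hg⟩)).1 (F.mem_K.2 (F.act_eq_id.2 fun q hq => by
    rw [commutatorElement_eq_one_iff_commute.2 (h q hq)]; exact one_mem _))

theorem card_cz : Nat.card ↥(centralizer ({F.z} : Set G)) = 243 * 1920 := by rw [F.card_C]

end Frame

namespace Cfg

variable {G : Type*} [Group G] [Finite G] {F : Frame G} (K : Cfg F)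
include K

/-- An element in the coset of a power of the conjugate, centralising the fixed space. -/
theorem mem_el_of {c : F.Cz} {i : ℕ} (hi : F.bar c = F.bar K.P.yc ^ i) (h1 : Commute (c : G) K.f1)
    (h2 : Commute (c : G) K.f2) : ∃ v, (c : G) = K.el v := by
  set q : G := (c : G) * (K.P.y ^ i)⁻¹ with hq
  have hqQ : q ∈ F.Q := (F.bar_eq_one (c := c * (K.P.yc ^ i)⁻¹)).1
    (by rw [map_mul, map_inv, map_pow, hi, mul_inv_cancel])
  have hcom : ∀ {f}, Commute (c : G) f → Commute K.P.y f → Commute q f := fun h1 h2 =>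
    h1.mul_left (h2.pow_left i).inv_left
  have hl : ∀ {f}, f ∈ F.Q → Commute q f → sf (F.crd q) (F.crd f) = 0 := fun hf hh => by
    rw [F.sf_crd hqQ hf]
    exact F.lam_eq hqQ hf (by rw [F.zk_zero]; exact commutatorElement_eq_one_iff_commute.2 hh)
  have q1 := hl K.f1_Q (hcom h1 K.f1_y)
  have q2 := hl K.f2_Q (hcom h2 K.f2_y)
  rw [K.f1_crd] at q1
  rw [K.f2_crd] at q2
  simp [sf] at q1 q2
  obtain ⟨a, ha⟩ := K.exists_el hqQ ⟨q1, q2⟩
  have hy : K.P.y = K.el (-e3) := by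
    rw [el_neg, el_e3]
    exact eq_inv_of_mul_eq_one_left (by rw [← pow_succ']; exact K.P.y3)
  have hpow : ∀ n : ℕ, ∃ v, K.P.y ^ n = K.el v := fun n => by
    induction n with
    | zero => exact ⟨0, by rw [el_zero, pow_zero]⟩
    | succ n ih => obtain ⟨v, hv⟩ := ih; exact ⟨v + -e3, by rw [pow_succ, hv, el_add, ← hy]⟩
  obtain ⟨v, hv⟩ := hpow i
  exact ⟨![a, F.crd q 0, F.crd q 1, 0] + v, by rw [el_add, ha, ← hv, hq, inv_mul_cancel_right]⟩

theorem conj_el {g : G} (h0 : ∃ w, g * K.el e0 * g⁻¹ = K.el w) (h1 : ∃ w, g * K.el e1 * g⁻¹ = K.el w)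
    (h2 : ∃ w, g * K.el e2 * g⁻¹ = K.el w) (h3 : ∃ w, g * K.el e3 * g⁻¹ = K.el w) (v : V4) :
    ∃ w, g * K.el v * g⁻¹ = K.el w := by
  obtain ⟨a, ha⟩ := h0
  obtain ⟨b, hb⟩ := h1
  obtain ⟨c, hc⟩ := h2
  obtain ⟨d, hd⟩ := h3
  refine ⟨v 0 • a + v 1 • b + v 2 • c + v 3 • d, ?_⟩
  have he : v = v 0 • e0 + v 1 • e1 + v 2 • e2 + v 3 • e3 := by
    funext k; fin_cases k <;> simp [e0, e1, e2, e3]
  conv_lhs => rw [he]
  simp only [el_add, el_smul]
  rw [← ha, ← hb, ← hc, ← hd, conj_pow, conj_pow, conj_pow, conj_pow]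
  group

/-- The normaliser of the subgroup. -/
def Nrm : Subgroup G where
  carrier := {g | (∀ v, ∃ w, g * K.el v * g⁻¹ = K.el w) ∧ ∀ v, ∃ w, g⁻¹ * K.el v * g = K.el w}
  one_mem' := ⟨fun v => ⟨v, by group⟩, fun v => ⟨v, by group⟩⟩
  mul_mem' := by
    rintro a b ⟨ha, ha'⟩ ⟨hb, hb'⟩
    refine ⟨fun v => ?_, fun v => ?_⟩
    · obtain ⟨w, hw⟩ := hb v
      obtain ⟨u, hu⟩ := ha w
      exact ⟨u, by rw [← hu, ← hw]; group⟩
    · obtain ⟨w, hw⟩ := ha' v
      obtain ⟨u, hu⟩ := hb' w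
      exact ⟨u, by rw [← hu, ← hw]; group⟩
  inv_mem' := by
    rintro a ⟨ha, ha'⟩
    exact ⟨fun v => by simpa using ha' v, fun v => by simpa using ha v⟩

theorem mem_Nrm {g : G} (h : ∀ v, ∃ w, g * K.el v * g⁻¹ = K.el w) : g ∈ K.Nrm := by
  refine ⟨h, ?_⟩
  choose f hf using h
  have hinj : Function.Injective f := fun u v e => K.el_inj (by
    have := (hf u).trans ((congrArg K.el e).trans (hf v).symm)
    exact mul_left_cancel (mul_right_cancel this))
  intro v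
  obtain ⟨w, rfl⟩ := Finite.injective_iff_surjective.1 hinj v
  exact ⟨w, by rw [← hf]; group⟩

theorem Q_le_Nrm : F.Q ≤ K.Nrm := by
  intro q hq
  set a := F.crd q 2; set b := F.crd q 3
  set d := (F.trq a b)⁻¹ * q with hd
  have hdQ : d ∈ F.Q := mul_mem (inv_mem (F.lift_mem _)) hq
  obtain ⟨c, hc⟩ := K.exists_el hdQ (by
    simp only [hd, Frame.trq, F.crd_mul (inv_mem (F.lift_mem _)) hq, F.crd_inv (F.lift_mem _), F.crd_lift]
    exact ⟨by simp [a], by simp [b]⟩)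
  refine K.mem_Nrm fun v => ⟨tr a b v, ?_⟩
  rw [show q = F.trq a b * d by rw [hd]; group, ← K.trq_conj, mul_inv_rev]
  calc F.trq a b * d * K.el v * (d⁻¹ * (F.trq a b)⁻¹) = F.trq a b * (d * K.el v * d⁻¹) * (F.trq a b)⁻¹ := by group
    _ = _ := by rw [← hc, (K.el_commute _ v).eq, mul_inv_cancel_right]

theorem conj_fixed {g : F.Cz} {i : ℕ} (hg : ∀ v, F.act g (X v) = X^[i] (F.act g v)) (hi : i = 1 ∨ i = 2) (v : V4)
    (hv : X v = v) : X (F.act g v) = F.act g v := by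
  have h := hg v
  rw [hv] at h
  rcases hi with rfl | rfl
  · exact h.symm
  · have h' := congrArg X h
    have e : ∀ w, X (X (X w)) = w := by decide +kernel
    rw [show X^[2] (F.act g v) = X (X (F.act g v)) from rfl, e] at h'
    exact h'

/-- Elements normalising the group of the conjugate modulo the core normalise the subgroup. -/
theorem bar_le_Nrm {g : F.Cz} {i : ℕ} (hi : i = 1 ∨ i = 2)
    (hg : F.bar g * F.bar K.P.yc * (F.bar g)⁻¹ = F.bar K.P.yc ^ i) : (g : G) ∈ K.Nrm := by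
  have hbar : F.bar (g * K.P.yc) = F.bar (K.P.yc ^ i * g) := by
    rw [map_mul, map_mul, map_pow, ← hg, inv_mul_cancel_right]
  have hact : ∀ v, F.act g (X v) = X^[i] (F.act g v) := fun v => by
    rw [← K.act_y, ← F.act_mul, F.act_bar hbar, F.act_mul]
    rcases hi with rfl | rfl
    · rw [pow_one, K.act_y]; rfl
    · rw [pow_two, F.act_mul, K.act_y, K.act_y]; rfl
  have hQf : ∀ h : F.Cz, (∀ v, X v = v → X (F.act h v) = F.act h v) → ∀ f, f ∈ F.Q → X (F.crd f) = F.crd f →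
      ∃ w, (h : G) * f * (h : G)⁻¹ = K.el w := fun h hh f hf hfix => by
    have h1 := hh _ hfix
    rw [F.act_crd h hf] at h1
    obtain ⟨a, ha⟩ := K.exists_el (F.normal _ h.2 _ hf) ((Sp4.fix_X _).1 h1)
    exact ⟨_, ha.symm⟩
  have x1 : X (F.crd K.f1) = F.crd K.f1 := by rw [K.f1_crd]; decide
  have x2 : X (F.crd K.f2) = F.crd K.f2 := by rw [K.f2_crd]; decide
  have hginv : ∀ v, X v = v → X (F.act g⁻¹ v) = F.act g⁻¹ v := by
    -- the fixed space is finite
    have hmaps : ∀ w : {v : V4 // X v = v}, X (F.act g w.1) = F.act g w.1 := fun w => K.conj_fixed hact hi _ w.2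
    have hinj : Function.Injective fun w : {v : V4 // X v = v} => (⟨F.act g w.1, hmaps w⟩ : {v : V4 // X v = v}) :=
      fun a b e => Subtype.ext (by
        have := congrArg (fun w : {v : V4 // X v = v} => F.act g⁻¹ w.1) e
        simpa [← F.act_mul, F.act_one] using this)
    intro v hv
    obtain ⟨w, hw⟩ := Finite.injective_iff_surjective.1 hinj ⟨v, hv⟩
    rw [← show F.act g w.1 = v from congrArg Subtype.val hw, ← F.act_mul, inv_mul_cancel, F.act_one]
    exact w.2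
  refine K.mem_Nrm (K.conj_el ?_ ?_ ?_ ?_)
  · exact ⟨e0, by rw [el_e0, F.fix_Z g.2 (mem_zpowers _)]⟩
  · rw [el_e1]; exact hQf g (fun v => K.conj_fixed hact hi v) _ K.f1_Q x1
  · rw [el_e2]; exact hQf g (fun v => K.conj_fixed hact hi v) _ K.f2_Q x2
  · -- the conjugate of the opposite point
    have hc : ∀ {f}, f ∈ F.Q → X (F.crd f) = F.crd f → Commute ((g * K.P.yc ^ 2 * g⁻¹ : F.Cz) : G) f := by
      intro f hf hfix
      obtain ⟨w, hw⟩ := hQf g⁻¹ hginv f hf hfix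
      have h1 : Commute (K.P.y ^ 2) ((g : G)⁻¹ * f * (g : G)) := by
        rw [show (g : G)⁻¹ * f * (g : G) = K.el w by simpa using hw, ← el_e3]
        exact K.el_commute _ _
      have h2 := h1.map (MulAut.conj (g : G)).toMonoidHom
      simpa [mul_assoc, Pr.yc] using h2
    obtain ⟨v, hv⟩ := K.mem_el_of (c := g * K.P.yc ^ 2 * g⁻¹) (i := i * 2) (by
      rw [map_mul, map_mul, map_inv, map_pow, ← conj_pow, hg, ← pow_mul]) (hc K.f1_Q x1) (hc K.f2_Q x2)
    exact ⟨v, by rw [← hv, el_e3]; rfl⟩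

/-- The image of the stabiliser. -/
def Nb : Subgroup (F.Cz ⧸ F.Qc) := normalizer (zpowers (F.bar K.P.yc) : Set (F.Cz ⧸ F.Qc))

theorem bar_y3 : F.bar K.P.yc ^ 3 = 1 := by
  rw [← map_pow, show K.P.yc ^ 3 = 1 from Subtype.ext K.P.y3, map_one]

theorem mem_Nb {g : F.Cz} : F.bar g ∈ K.Nb ↔
    (mm (F.im g) cx = mm cx (F.im g) ∨ mm (F.im g) cx = mm (mm cx cx) (F.im g)) := by
  rw [← K.hx, ← F.im_mul, ← F.im_mul, ← F.im_mul, ← F.im_mul, F.im_eq_iff, F.im_eq_iff, map_mul, map_mul, map_mul,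
    map_mul]
  set y := F.bar K.P.yc
  set x := F.bar g
  have y3 := K.bar_y3
  have key : ∀ n ∈ zpowers y, n = 1 ∨ n = y ∨ n = y * y := fun n hn => by
    obtain ⟨k, rfl⟩ := mem_zpowers_iff.1 hn
    rw [← Int.emod_add_mul_ediv k 3, zpow_add, zpow_mul, show y ^ (3 : ℤ) = 1 by exact_mod_cast y3, one_zpow, mul_one]
    have h0 := Int.emod_nonneg k (b := 3) (by norm_num)
    have h1 := Int.emod_lt_of_pos k (b := 3) (by norm_num)
    interval_cases k % 3
    · exact Or.inl (zpow_zero _)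
    · exact Or.inr (Or.inl (zpow_one _))
    · exact Or.inr (Or.inr (by rw [show (2 : ℤ) = 1 + 1 from rfl, zpow_add, zpow_one]))
  constructor
  · intro h
    have hm : x * y * x⁻¹ ∈ zpowers y := (mem_normalizer_iff.1 h y).1 (mem_zpowers y)
    rcases key _ hm with e | e | e
    · rw [conj_eq_one_iff] at e
      exfalso
      have : F.im K.P.yc = c1 := by rw [← F.im_one, F.im_eq_iff, map_one]; exact e
      rw [K.hx] at this
      revert this; decide +kernel
    · exact Or.inl (mul_inv_eq_iff_eq_mul.1 e)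
    · exact Or.inr (mul_inv_eq_iff_eq_mul.1 e)
  · intro h
    refine mem_normalizer_fintype fun n hn => ?_
    have hm : x * y * x⁻¹ ∈ zpowers y := by
      rcases h with e | e <;> rw [mul_inv_eq_iff_eq_mul.2 e]
      · exact mem_zpowers y
      · exact mul_mem (mem_zpowers y) (mem_zpowers y)
    obtain ⟨k, rfl⟩ := mem_zpowers_iff.1 hn
    rw [← conj_zpow]
    exact zpow_mem hm k

theorem card_Nb : Nat.card K.Nb = 48 := by
  classical
  have hex : ∀ x : F.Cz ⧸ F.Qc, ∃ g, F.bar g = x := QuotientGroup.mk'_surjective F.Qc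
  choose s hs using hex
  have hmem : ∀ n, n ∈ Nx ↔ n ∈ Ns ∧ (mm n cx = mm cx n ∨ mm n cx = mm (mm cx cx) n) := fun n => by
    simp [Sp4.Nx, Nat.beq_eq]
  let Φ : K.Nb → Nx.toFinset := fun x => ⟨F.im (s x), List.mem_toFinset.2 ((hmem _).2
    ⟨K.S.im_mem _, K.mem_Nb.1 (by rw [hs]; exact x.2)⟩)⟩
  rw [← Sp4.Nx_card, ← Nat.card_eq_finsetCard]
  refine Nat.card_congr (Equiv.ofBijective Φ ⟨fun a b e => Subtype.ext ?_, fun n => ?_⟩)
  · rw [← hs a, ← hs b]; exact F.im_eq_iff.1 (congrArg Subtype.val e)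
  · obtain ⟨hn, hn'⟩ := (hmem _).1 (List.mem_toFinset.1 n.2)
    obtain ⟨g, hg⟩ := K.S.exists_im hn
    refine ⟨⟨F.bar g, K.mem_Nb.2 (hg ▸ hn')⟩, Subtype.ext ?_⟩
    show F.im (s (F.bar g)) = n
    rw [← hg, F.im_eq_iff, hs]

/-- The stabiliser of the central element in the normaliser. -/
def Nz : Subgroup G := (K.Nb.comap F.bar).map F.Cz.subtype

theorem card_Nz : Nat.card K.Nz = 144 * 81 := by
  rw [Nz, Subgroup.card_subtype]
  have h := card_mul_index (K.Nb.comap F.bar)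
  have hi := card_mul_index K.Nb
  rw [index_comap_of_surjective _ (QuotientGroup.mk'_surjective F.Qc), F.card_C] at h
  have hq := card_eq_card_quotient_mul_card_subgroup F.Qc
  rw [F.card_Qc, F.card_C] at hq
  rw [K.card_Nb, show Nat.card (F.Cz ⧸ F.Qc) = 1920 by omega] at hi
  rw [show K.Nb.index = 40 by omega] at h
  omega

theorem Nz_le {g : G} (hg : g ∈ K.Nz) : Commute g (K.el e0) ∧ g ∈ K.Nrm := by
  obtain ⟨c, hc, rfl⟩ := mem_map.1 hg
  refine ⟨by rw [el_e0]; exact F.mem_Cz.1 c.2, ?_⟩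
  have hy : F.bar (c * K.P.yc) = F.bar (K.P.yc * c) ∨ F.bar (c * K.P.yc) = F.bar (K.P.yc * K.P.yc * c) := by
    rw [← F.im_eq_iff, ← F.im_eq_iff]
    simp only [F.im_mul, K.hx]
    exact K.mem_Nb.1 (mem_comap.1 hc)
  simp only [map_mul] at hy
  rcases hy with e | e
  · exact K.bar_le_Nrm (Or.inl rfl) (by rw [pow_one, mul_inv_eq_iff_eq_mul, e])
  · exact K.bar_le_Nrm (Or.inr rfl) (by rw [pow_two, mul_inv_eq_iff_eq_mul, e])

theorem far_Nrm {h : G} (h0 : ∃ w, h * K.el e0 * h⁻¹ = K.el w) (h3 : h * K.el e3 * h⁻¹ = K.el e3)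
    (hb : K.P.bk h ∈ F.Q) : h ∈ K.Nrm := by
  have key : ∀ {f}, f ∈ F.Q → K.P.bk f ∈ F.Q → (∃ v, f = K.el v) → ∃ w, h * f * h⁻¹ = K.el w := by
    intro f hf hbf ⟨v, hv⟩
    obtain ⟨k, hk⟩ := F.exists_zk (F.comm_mem _ hb _ hbf)
    refine ⟨(2 * k) • e3 + v, K.P.bk_inj ?_⟩
    have e : K.P.bk (K.el ((2 * k) • e3)) = F.zk k := by
      rw [el_smul, el_e3, ← K.P.eq, conj_pow, conj_pow, Ext.zk]
      unfold Pr.bk
      rw [← pow_mul, show K.P.g⁻¹ * (K.P.g * F.z ^ (2 * (2 * k).val) * K.P.g⁻¹) * K.P.g = F.z ^ (2 * (2 * k).val) by group]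
      rcases (by decide : ∀ k : ZMod 3, k = 0 ∨ k = 1 ∨ k = 2) k with rfl | rfl | rfl
      · simp
      · rw [show 2 * ((2 : ZMod 3) * 1).val = 3 + 1 from rfl, pow_succ _ 3, F.z3, one_mul]; simp [show (1 : ZMod 3).val = 1 from rfl]
      · rfl
    rw [el_add, K.P.bk_mul, K.P.bk_mul, K.P.bk_mul, K.P.bk_inv, e, hk, ← hv, commutatorElement_def]
    group
  refine K.mem_Nrm (K.conj_el h0 ?_ ?_ ⟨e3, h3⟩)
  · rw [el_e1]; exact key K.f1_Q K.f1_bk ⟨e1, K.el_e1.symm⟩
  · rw [el_e2]; exact key K.f2_Q K.f2_bk ⟨e2, K.el_e2.symm⟩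

theorem tr_sub (a b p r : ZMod 3) : (F.trq a b * (F.trq p r)⁻¹) * K.el (tr p r e3) * (F.trq a b * (F.trq p r)⁻¹)⁻¹ =
    K.el (tr a b e3) := by
  rw [← K.trq_conj, ← K.trq_conj]
  group

theorem to_e3 (d : ZMod 3) (hd : d ≠ 0) (a b : ZMod 3) :
    ∃ g ∈ K.Nrm, g * K.el e0 * g⁻¹ = K.el (d • tr a b e3) := by
  obtain ⟨h, p, r, -, h0, h3, hb⟩ := K.exists_far hd
  have hq := K.qf_of_conj (h := h) (k := 1) (v := ![1, p, r, d]) (by rw [F.zk_one, ← h0, el_e0])
  have e : (![1, p, r, d] : V4) = d • tr (d * p) (d * r) e3 := by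
    have h2 := (by decide : ∀ c : ZMod 3, c ≠ 0 → c * c = 1) d hd
    simp [qf] at hq
    funext i
    fin_cases i <;> simp [tr, e3]
    · linear_combination (-(p * p + r * r) * d - 1) * h2 + d * hq
    all_goals first | linear_combination -p * h2 | linear_combination -r * h2
  refine ⟨F.trq a b * (F.trq (d * p) (d * r))⁻¹ * h,
    mul_mem (mul_mem (K.Q_le_Nrm (F.lift_mem _)) (inv_mem (K.Q_le_Nrm (F.lift_mem _)))) (K.far_Nrm ⟨_, h0⟩ h3 hb), ?_⟩
  calc _ = (F.trq a b * (F.trq (d * p) (d * r))⁻¹) * (h * K.el e0 * h⁻¹) *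
        (F.trq a b * (F.trq (d * p) (d * r))⁻¹)⁻¹ := by group
    _ = _ := by rw [h0, e, el_smul, el_smul, ← conj_pow, K.tr_sub]

/-- The normaliser is transitive on singular points. -/
theorem trans (v : V4) (hv : v ≠ 0) (hq : qf v = 0) :
    ∃ g : G, (∀ u, ∃ w, g * K.el u * g⁻¹ = K.el w) ∧ g * K.el e0 * g⁻¹ = K.el v := by
  suffices h : ∃ g ∈ K.Nrm, g * K.el e0 * g⁻¹ = K.el v by
    obtain ⟨g, hg, e⟩ := h
    exact ⟨g, hg.1, e⟩
  by_cases h3 : v 3 = 0
  · have hq' : v 1 * v 1 + v 2 * v 2 = 0 := by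
      simp [qf, h3] at hq
      linear_combination -hq
    obtain ⟨h1, h2⟩ := (by decide : ∀ a b : ZMod 3, a * a + b * b = 0 → a = 0 ∧ b = 0) _ _ hq'
    have h0 : v 0 ≠ 0 := fun h0 => hv (by funext i; fin_cases i <;> assumption)
    have hv' : v = v 0 • e0 := by funext i; fin_cases i <;> simp [e0, h1, h2, h3]
    rcases (by decide : ∀ a : ZMod 3, a ≠ 0 → a = 1 ∨ a = 2) _ h0 with e | e <;> rw [hv', e]
    · exact ⟨1, one_mem _, by rw [one_smul]; group⟩
    · obtain ⟨g1, n1, e1'⟩ := K.to_e3 1 one_ne_zero 0 0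
      obtain ⟨g2, n2, e2'⟩ := K.to_e3 2 (by decide) 0 0
      refine ⟨g1⁻¹ * g2, mul_mem (inv_mem n1) n2, ?_⟩
      rw [one_smul] at e1'
      calc _ = g1⁻¹ * (g2 * K.el e0 * g2⁻¹) * g1 := by group
        _ = _ := by rw [e2', el_smul, ← e1', el_smul, conj_pow]; group
  · obtain ⟨g, hg, e⟩ := K.to_e3 (v 3) h3 (v 3 * v 1) (v 3 * v 2)
    refine ⟨g, hg, e.trans (congrArg K.el ?_)⟩
    have h2 := (by decide : ∀ c : ZMod 3, c ≠ 0 → c * c = 1) _ h3
    simp [qf] at hq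
    funext i
    fin_cases i <;> simp [tr, e3]
    · linear_combination (v 3 * (v 1 * v 1 + v 2 * v 2)) * h2 - v 3 * hq + v 0 * h2
    · linear_combination v 1 * h2
    · linear_combination v 2 * h2

theorem realise (M : Matrix (Fin 4) (Fin 4) (ZMod 3)) (hM : IsSim M) :
    ∃ g : G, ∀ v, g * K.el v * g⁻¹ = K.el (M.mulVec v) :=
  realise_of K.el K.el_add K.el_inj (fun _ h => K.cent_J h) (fun v hv => K.fused v hv) K.trans K.Nz
    (fun _ hg => (K.Nz_le hg).1) (fun _ hg => (K.Nz_le hg).2.1) K.card_Nz M hM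

theorem norm_sim (g : G) (hg : ∀ v, ∃ w, g * K.el v * g⁻¹ = K.el w) :
    ∃ M : Matrix (Fin 4) (Fin 4) (ZMod 3), IsSim M ∧ ∀ v, g * K.el v * g⁻¹ = K.el (M.mulVec v) :=
  norm_sim_of K.el K.el_add K.el_inj (fun v hv => K.fused v hv) g hg

theorem no_sig (L : Subgroup G) (hL : (Nat.card L).Coprime 3) (h : ∀ v, ∀ k ∈ L, K.el v * k * (K.el v)⁻¹ ∈ L) :
    L = ⊥ :=
  no_sig_of (z := F.z) K.el K.el_add K.el_inj (fun v hv hq => by
      obtain ⟨g, hg⟩ := (K.fused v hv).2 hq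
      exact ⟨g, by rwa [el_e0] at hg⟩)
    F.toCore F.Q_le' F.normal (fun _ hg hq => F.self_cent hg hq) F.card_cz L hL h

theorem secant {v : V4} (hv : v 3 ≠ 0) {g : G} (hgz : Commute g (K.el e0)) (hgv : Commute g (K.el v)) (u : V4) :
    ∃ w, g * K.el u * g⁻¹ = K.el w := by
  refine secant_of (Q := F.Q) (z := F.z) K.el K.el_add F.normal (fun w => K.el_Q) hv (fun x hx hc => ?_)
    (by rwa [el_e0] at hgz) hgv u
  have hfix := F.act_fix_of_commute (c := ⟨K.el v, K.el_mem v⟩) hx hc.symm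
  have hact : ∀ w, F.act ⟨K.el v, K.el_mem v⟩ w = X^[(2 * v 3).val] w := by
    intro w
    have hb : F.bar ⟨K.el v, K.el_mem v⟩ = F.bar (K.P.yc ^ (2 * v 3).val) := by
      refine QuotientGroup.eq.2 (mem_subgroupOf.2 ?_)
      show (K.el v)⁻¹ * K.P.y ^ (2 * v 3).val ∈ F.Q
      have hy : K.P.y = K.el (-e3) := by
        rw [el_neg, el_e3]
        exact eq_inv_of_mul_eq_one_left (by rw [← pow_succ']; exact K.P.y3)
      rw [hy, ← el_smul, ← el_neg, ← el_add, el_Q]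
      simp [e3]
      have h30 : (3 : ZMod 3) = 0 := rfl
      linear_combination -v 3 * h30
    rw [F.act_bar hb]
    have : ∀ n : ℕ, ∀ w, F.act (K.P.yc ^ n) w = X^[n] w := fun n => by
      induction n with
      | zero => intro w; rw [pow_zero, F.act_one]; rfl
      | succ n ih => intro w; rw [pow_succ, F.act_mul, ih, K.act_y, Function.iterate_succ_apply]
    exact this _ w
  rw [hact] at hfix
  have hX : X (F.crd x) = F.crd x := by
    have h2 : (2 * v 3).val = 1 ∨ (2 * v 3).val = 2 :=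
      (by decide : ∀ c : ZMod 3, c ≠ 0 → (2 * c).val = 1 ∨ (2 * c).val = 2) _ hv
    rcases h2 with e | e <;> rw [e] at hfix
    · exact hfix
    · have h' := congrArg X hfix
      have e' : ∀ w, X (X (X w)) = w := by decide +kernel
      rw [show X^[2] (F.crd x) = X (X (F.crd x)) from rfl, e'] at h'
      exact h'.symm
  obtain ⟨a, ha⟩ := K.exists_el hx ((Sp4.fix_X _).1 hX)
  exact ⟨_, ha.symm⟩

theorem tangent_core {b : V4} (h3 : b 3 = 0) (hb : b 1 ≠ 0 ∨ b 2 ≠ 0) :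
    Nat.card ↥(F.Q ⊓ centralizer {K.el b}) = 81 ∧
    ∀ x ∈ F.Q ⊓ centralizer {K.el b}, (∀ q ∈ F.Q ⊓ centralizer {K.el b}, x * q = q * x) ↔
      ∃ i j : ZMod 3, x = K.el (i • e0 + j • b) := by
  have hz : K.el b ∉ zpowers F.z := fun h => by
    have := F.crd_Z h
    rw [K.crd_el h3] at this
    rcases hb with h' | h'
    · exact h' (congrFun this 0)
    · exact h' (congrFun this 1)
  refine ⟨F.toCore.card_inf_centralizer (K.el_Q.2 h3) hz, fun x hx => ?_⟩
  rw [F.toCore.centre_inf_centralizer (K.el_Q.2 h3) hz hx]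
  have hb3 : K.el b ^ 3 = 1 := F.pow_three (K.el_Q.2 h3)
  constructor
  · rintro ⟨i, j, rfl⟩
    refine ⟨i, j, ?_⟩
    rw [el_add, el_smul, el_smul, el_e0, ZMod.val_natCast, ZMod.val_natCast]
    conv_lhs => rw [← Nat.div_add_mod i 3, ← Nat.div_add_mod j 3, pow_add, pow_add, pow_mul, pow_mul, F.z3, hb3,
      one_pow, one_pow, one_mul, one_mul]
  · rintro ⟨i, j, rfl⟩
    exact ⟨i.val, j.val, by rw [el_add, el_smul, el_smul, el_e0]⟩

end Cfg

end Cfsg.Agent.Co2Three.Local
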