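import Cfsg.Agent.Lib.Co2Three.Local.Ident

/-!
S3336: a conjugate of the central element commuting with it lies outside the core and centralises its fixed space.
-/

set_option autoImplicit false
set_option linter.style.haveILetI false
set_option linter.unusedSectionVars false

namespace Cfsg.Agent.Co2Three.Sp4

/-- The standard element of order three. -/
def X (v : V4) : V4 := ![v 0 + v 2, v 1 + v 3, v 2, v 3]

theorem lin_cx : ∀ v, lin cx v = X v := by decide +kernel

theorem cx_lt : cx < 81 ^ 4 := by decide +kernel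

theorem perp_check : ((List.range 81).all fun a => Nat.beq a 0 || (List.range 81).any fun u =>
    Nat.beq (om a u) 0 && (List.range 81).any fun v => Nat.beq (om a v) 0 && !Nat.beq (om u v) 0) = true := by
  decide +kernel

theorem perp_pair {a : V4} (ha : a ≠ 0) : ∃ u v : V4, sf a u = 0 ∧ sf a v = 0 ∧ sf u v ≠ 0 := by
  have h := perp_check
  simp only [List.all_eq_true, List.mem_range, Bool.or_eq_true, List.any_eq_true, Bool.and_eq_true, Nat.beq_eq,
    Bool.not_eq_true'] at h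
  obtain ⟨u, hu, h1, v, hv, h2, h3⟩ := (h (vc a) (vc_lt a)).resolve_left fun e => ha (vc_inj (e.trans vc_zero.symm))
  refine ⟨dv u, dv v, ZMod.val_injective 3 ?_, ZMod.val_injective 3 ?_, fun e => ?_⟩
  · rw [sf_om, vc_dv hu, h1]; rfl
  · rw [sf_om, vc_dv hv, h2]; rfl
  · have e' := congrArg ZMod.val e
    rw [sf_om, vc_dv hu, vc_dv hv] at e'
    rw [e'] at h3
    exact absurd h3 (by decide)

theorem aniso : ∀ v : V4, sf (X v - v) v = 0 → v 2 = 0 ∧ v 3 = 0 := by decide +kernel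

theorem fix_X : ∀ v : V4, X v = v ↔ v 2 = 0 ∧ v 3 = 0 := by decide +kernel

theorem fix_range : ∀ v : V4, v 2 = 0 → v 3 = 0 → v = X ![0, 0, v 0, v 1] - ![0, 0, v 0, v 1] := by decide +kernel

end Cfsg.Agent.Co2Three.Sp4

namespace Cfsg.Agent.Co2Three.Local

open Subgroup
open scoped commutatorElement
open Sp4 (sf X code mm lin c1 cx Ns threes)

namespace Frame

variable {G : Type*} [Group G] [Finite G] (F : Frame G)

theorem act_fix_of_commute {c : F.Cz} {q : G} (hq : q ∈ F.Q) (h : Commute (c : G) q) :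
    F.act c (F.crd q) = F.crd q := by
  rw [F.act_crd c hq, h.eq, mul_inv_cancel_right]

/-- A 3-subgroup has image of order at most three. -/
theorem image_three {P : Subgroup F.Cz} (hP : IsPGroup 3 P) {a : F.Cz} (ha : a ∈ P) (haQ : (a : G) ∉ F.Q)
    {b : F.Cz} (hb : b ∈ P) : ∃ i : ℕ, F.bar b = F.bar a ^ i := by
  haveI : Fact (Nat.Prime 3) := ⟨Nat.prime_three⟩
  set I := P.map F.bar
  obtain ⟨n, hn⟩ := (IsPGroup.iff_card).1 (hP.map F.bar)
  have hd : Nat.card I ∣ 1920 := by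
    have h := card_eq_card_quotient_mul_card_subgroup F.Qc
    rw [F.card_Qc, F.card_C] at h
    have e : Nat.card (F.Cz ⧸ F.Qc) = 1920 := by omega
    exact e ▸ card_subgroup_dvd_card I
  have hn1 : n ≤ 1 := by
    by_contra h
    have : 3 ^ 2 ∣ 1920 := (pow_dvd_pow 3 (by omega)).trans (hn ▸ hd)
    norm_num at this
  have hle : zpowers (F.bar a) ≤ I := zpowers_le.2 (mem_map_of_mem _ ha)
  have hne : Nat.card (zpowers (F.bar a)) ≠ 1 := by
    rw [Nat.card_zpowers, ne_eq, orderOf_eq_one_iff, F.bar_eq_one]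
    exact haQ
  have heq : zpowers (F.bar a) = I := by
    refine eq_of_le_of_card_ge hle ?_
    obtain rfl | rfl : n = 0 ∨ n = 1 := by omega
    · have := Nat.le_of_dvd Nat.card_pos (dvd_refl (Nat.card (zpowers (F.bar a))))
      have h1 : Nat.card (zpowers (F.bar a)) ∣ 3 ^ 0 := hn ▸ card_dvd_of_le hle
      exact absurd (Nat.dvd_one.1 h1) hne
    · rw [hn]
      have h1 : Nat.card (zpowers (F.bar a)) ∣ 3 ^ 1 := hn ▸ card_dvd_of_le hle
      rcases (Nat.dvd_prime Nat.prime_three).1 h1 with e | e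
      · exact absurd e hne
      · rw [e]; norm_num
  have : F.bar b ∈ zpowers (F.bar a) := heq ▸ mem_map_of_mem _ hb
  rw [mem_zpowers_iff] at this
  obtain ⟨k, hk⟩ := this
  obtain ⟨i, hi⟩ := (mem_powers_iff_mem_zpowers (x := F.bar a)).2 (mem_zpowers_iff.2 ⟨k, hk⟩ : F.bar b ∈ zpowers _)
  exact ⟨i, hi.symm⟩

/-- Two non-commuting elements of the core commuting with a given one. -/
theorem exists_noncomm {a : G} (ha : a ∈ F.Q) (haZ : a ∉ zpowers F.z) :
    ∃ u ∈ F.Q, ∃ v ∈ F.Q, Commute a u ∧ Commute a v ∧ ¬ Commute u v := by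
  obtain ⟨u, v, hu0, hv, huv⟩ := Sp4.perp_pair (fun h => haZ ((F.crd_eq_zero ha).1 h))
  have hc : ∀ w, sf (F.crd a) w = 0 → Commute a (F.lift w) := fun w hw => by
    refine commutatorElement_eq_one_iff_commute.1 ?_
    rw [← F.lam_spec ha (F.lift_mem w), ← F.sf_crd ha (F.lift_mem w), F.crd_lift, hw, F.zk_zero]
  refine ⟨_, F.lift_mem u, _, F.lift_mem v, hc u hu0, hc v hv, fun h => huv ?_⟩
  rw [← F.sf_crd' u v]
  exact F.lam_eq (F.lift_mem u) (F.lift_mem v) (by rw [commutatorElement_eq_one_iff_commute.2 h, F.zk_zero])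

end Frame

namespace Std

variable {G : Type*} [Group G] [Finite G] {F : Frame G} (S : Std F)
include S

/-- Elements of order three are conjugate to the standard one. -/
theorem exists_X {e : F.Cz} (h3 : (e : G) ^ 3 = 1) (hq : (e : G) ∉ F.Q) :
    ∃ k : F.Cz, F.im (k⁻¹ * e * k) = cx ∧ ∀ v, F.act e (F.act k v) = F.act k (X v) := by
  have h := Sp4.threes_ok
  simp only [List.all_eq_true, Bool.or_eq_true, Bool.not_eq_true', List.any_eq_true, Nat.beq_eq, Bool.and_eq_true,
    List.contains_iff_mem] at h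
  have he : F.im e ≠ c1 := fun h' => hq (F.bar_eq_one.1 (by rw [← map_one F.bar, ← F.im_eq_iff, h', F.im_one]))
  have hm : mm (F.im e) (mm (F.im e) (F.im e)) = c1 := by
    rw [← F.im_mul, ← F.im_mul, ← F.im_one]
    exact congrArg F.im (Subtype.ext (show (e : G) * ((e : G) * (e : G)) = 1 by
      rw [← h3]; simp [pow_succ, mul_assoc]))
  obtain ⟨p, hp, hpe⟩ : ∃ p ∈ threes, p.1 = F.im e := by
    rcases h.1 _ (S.im_mem e) with (h' | h') | h'
    · exact absurd h' he
    · rw [hm] at h'; exact absurd h' (by simp)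
    · exact h'
  obtain ⟨hk, hk'⟩ := h.2 p hp
  obtain ⟨k, hk''⟩ := S.exists_im hk
  rw [← hk'', hpe] at hk'
  obtain ⟨x, hx⟩ := S.exists_im (show cx ∈ Ns by
    simpa [List.contains_iff_mem] using Sp4.fix_W.2.1)
  refine ⟨k, ?_, fun v => ?_⟩
  · rw [← hx, F.im_eq_iff, map_mul, map_mul, map_inv, mul_assoc, ← map_mul]
    rw [← hx, ← F.im_mul, ← F.im_mul, F.im_eq_iff] at hk'
    rw [← hk', map_mul, ← mul_assoc, inv_mul_cancel, one_mul]
  · rw [← hx, ← F.im_mul, ← F.im_mul, F.im_eq_iff] at hk'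
    rw [← F.act_mul, F.act_bar hk'.symm, F.act_mul]
    congr 1
    rw [← F.lin_im x, hx, Sp4.lin_cx]

end Std

/-- A conjugate of the central element commuting with it. -/
structure Pr {G : Type*} [Group G] [Finite G] (F : Frame G) where
  /-- the conjugate -/
  y : G
  /-- a conjugating element -/
  g : G
  eq : g * F.z * g⁻¹ = y
  mem : y ∈ F.Cz
  not_Z : y ∉ zpowers F.z

namespace Pr

variable {G : Type*} [Group G] [Finite G] {F : Frame G} (P : Pr F)

theorem comm : P.y * F.z = F.z * P.y := F.mem_Cz.1 P.mem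

theorem y3 : P.y ^ 3 = 1 := by rw [← P.eq, conj_pow, F.z3, mul_one, mul_inv_cancel]

/-- The transport into the centraliser of the conjugate. -/
def bk (x : G) : G := P.g⁻¹ * x * P.g

theorem bk_mul (a b : G) : P.bk (a * b) = P.bk a * P.bk b := by unfold bk; group

theorem bk_inv (a : G) : P.bk a⁻¹ = (P.bk a)⁻¹ := by unfold bk; group

theorem bk_one : P.bk 1 = 1 := by unfold bk; group

theorem bk_y : P.bk P.y = F.z := by rw [← P.eq]; unfold bk; group

theorem bk_bracket (a b : G) : P.bk ⁅a, b⁆ = ⁅P.bk a, P.bk b⁆ := by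
  simp only [bk, commutatorElement_def]; group

theorem bk_commute {a b : G} (h : Commute a b) : Commute (P.bk a) (P.bk b) := by
  show _ * _ = _ * _
  rw [← P.bk_mul, ← P.bk_mul, h.eq]

theorem bk_inj {a b : G} (h : P.bk a = P.bk b) : a = b := mul_left_cancel (mul_right_cancel h)

theorem bk_mem_Cz {x : G} (h : Commute x P.y) : P.bk x ∈ F.Cz := by
  have h' := P.bk_commute h
  rw [P.bk_y] at h'
  exact F.mem_Cz.2 h'

/-- The same situation seen from the conjugate. -/
def inv : Pr F where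
  y := P.bk F.z
  g := P.g⁻¹
  eq := by rw [bk, inv_inv]
  mem := P.bk_mem_Cz P.comm.symm
  not_Z := fun h => P.not_Z (by
    obtain ⟨k, hk⟩ := F.exists_zk h
    have : F.z = P.g * F.zk k * P.g⁻¹ := by rw [hk]; unfold bk; group
    have hk0 : k ≠ 0 := by
      rintro rfl
      rw [F.zk_zero, mul_one, mul_inv_cancel] at this
      exact F.z_ne this
    have e : P.y ^ k.val = F.z := by rw [← P.eq, conj_pow]; exact this.symm
    rw [mem_zpowers_iff]
    exact ⟨(k.val : ℤ), by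
      rcases (by decide : ∀ k : ZMod 3, k ≠ 0 → k.val = 1 ∨ k.val = 2) k hk0 with h | h <;> rw [h] at e ⊢
      · rw [pow_one] at e
        rw [← e]; simp
      · rw [← e, zpow_natCast, ← pow_mul, show 2 * 2 = 3 + 1 from rfl, pow_succ, P.y3, one_mul]⟩)

/-- Conjugation by the centraliser. -/
def conj (h : F.Cz) : Pr F where
  y := (h : G) * P.y * (h : G)⁻¹
  g := (h : G) * P.g
  eq := by rw [← P.eq]; group
  mem := mul_mem (mul_mem h.2 P.mem) (inv_mem h.2)
  not_Z := fun hh => P.not_Z (by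
    have := F.fix_Z (inv_mem h.2) hh
    rw [← mul_assoc, ← mul_assoc, inv_mul_cancel, one_mul, inv_inv, inv_mul_cancel_right] at this
    rwa [← this] at hh)

/-- The element. -/
def yc : F.Cz := ⟨P.y, P.mem⟩

theorem isPGroup_pair {c : F.Cz} (hc : (c : G) ^ 3 ^ 2 = 1) (h : Commute (c : G) P.y) :
    IsPGroup 3 ↥(closure ({P.yc, c} : Set F.Cz)) := by
  have hcm : ∀ x ∈ ({P.yc, c} : Set F.Cz), ∀ y ∈ ({P.yc, c} : Set F.Cz), x * y = y * x := by
    rintro x (rfl | rfl) y (rfl | rfl)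
    · rfl
    · exact Subtype.ext h.eq.symm
    · exact Subtype.ext h.eq
    · rfl
  haveI := Subgroup.isMulCommutative_closure hcm
  intro x
  refine ⟨2, ?_⟩
  obtain ⟨x, hx⟩ := x
  refine Subtype.ext ?_
  rw [Subgroup.coe_pow, Subgroup.coe_one]
  induction hx using Subgroup.closure_induction with
  | mem x hx =>
    rcases hx with rfl | rfl
    · exact Subtype.ext (by
        show P.y ^ 3 ^ 2 = 1
        rw [show (3 : ℕ) ^ 2 = 3 * 3 from rfl, pow_mul, P.y3, one_pow])
    · exact Subtype.ext hc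
  | one => exact one_pow _
  | mul a b ha hb iha ihb =>
    have : Commute a b := by
      have := mul_comm' (⟨a, ha⟩ : closure ({P.yc, c} : Set F.Cz)) ⟨b, hb⟩
      exact congrArg Subtype.val this
    rw [this.mul_pow, iha, ihb, one_mul]
  | inv a _ iha => rw [inv_pow, iha, inv_one]

theorem not_Q (S : Std F) : P.y ∉ F.Q := by
  haveI : Fact (Nat.Prime 3) := ⟨Nat.prime_three⟩
  intro hy
  -- the centraliser of the conjugate inside the core
  let T : Subgroup G := F.Q ⊓ centralizer {P.y}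
  have hT : ∀ {a}, a ∈ T ↔ a ∈ F.Q ∧ Commute a P.y := fun {a} =>
    mem_inf.trans (and_congr_right fun _ => mem_centralizer_singleton_iff)
  let φ : T →* F.Cz := MonoidHom.mk' (fun a => ⟨P.bk a, P.bk_mem_Cz (hT.1 a.2).2⟩)
    fun a b => Subtype.ext (P.bk_mul a b)
  have hTp : IsPGroup 3 (⊤ : Subgroup T) := by
    refine IsPGroup.of_injective (show IsPGroup 3 F.Q from IsPGroup.of_card (n := 5) F.card_Q)
      ((Subgroup.inclusion inf_le_left).comp (⊤ : Subgroup T).subtype) ?_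
    intro a b e
    exact Subtype.ext (Subtype.ext (congrArg Subtype.val e :))
  obtain ⟨u, hu, v, hv, hyu, hyv, huv⟩ := F.exists_noncomm hy P.not_Z
  have hzQ : P.bk F.z ∈ F.Q := by
    set u' : T := ⟨u, hT.2 ⟨hu, hyu.symm⟩⟩
    set v' : T := ⟨v, hT.2 ⟨hv, hyv.symm⟩⟩
    have hbr : P.bk ⁅u, v⁆ ∈ F.Q := by
      have h1 : F.bar ⁅φ u', φ v'⁆ = 1 := by
        rw [map_commutatorElement]
        by_cases hq : (φ u' : G) ∈ F.Q
        · rw [F.bar_eq_one.2 hq, commutatorElement_one_left]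
        · obtain ⟨i, hi⟩ := F.image_three (hTp.map φ) (mem_map_of_mem φ (mem_top u')) hq (mem_map_of_mem φ (mem_top v'))
          rw [hi]
          exact commutatorElement_eq_one_iff_commute.2 (Commute.self_pow _ _)
      have h2 := F.bar_eq_one.1 h1
      rw [P.bk_bracket]
      exact h2
    obtain ⟨k, hk⟩ := F.exists_zk (F.comm_mem _ hu _ hv)
    rw [← hk] at hbr
    have hk0 : k ≠ 0 := by
      rintro rfl
      exact huv (commutatorElement_eq_one_iff_commute.1 (hk.symm.trans F.zk_zero))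
    have e : P.bk F.z = P.bk (F.zk k) * P.bk (F.zk k) ∨ P.bk F.z = P.bk (F.zk k) := by
      rcases (by decide : ∀ k : ZMod 3, k ≠ 0 → k = 1 ∨ k = 2) k hk0 with rfl | rfl
      · exact Or.inr (by rw [F.zk_one])
      · exact Or.inl (by rw [← P.bk_mul, ← F.zk_add, show (2 : ZMod 3) + 2 = 1 from rfl, F.zk_one])
    rcases e with e | e <;> rw [e]
    · exact mul_mem hbr hbr
    · exact hbr
  obtain ⟨a, ha, b, hb, hwa, hwb, hab⟩ := F.exists_noncomm hzQ P.inv.not_Z
  -- the other core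
  have fw : ∀ {a}, a ∈ F.Q → Commute (P.bk F.z) a →
      P.g * a * P.g⁻¹ ∈ F.Cz ∧ Commute (P.g * a * P.g⁻¹) P.y := by
    intro a ha hc
    refine ⟨F.mem_Cz.2 (P.bk_inj ?_), P.bk_inj ?_⟩
    · rw [P.bk_mul (P.g * a * P.g⁻¹), P.bk_mul _ (P.g * a * P.g⁻¹), show P.bk (P.g * a * P.g⁻¹) = a by unfold bk; group]
      exact hc.symm.eq
    · rw [P.bk_mul (P.g * a * P.g⁻¹), P.bk_mul _ (P.g * a * P.g⁻¹), show P.bk (P.g * a * P.g⁻¹) = a by unfold bk; group,
        P.bk_y]
      exact F.mem_Cz.1 (F.Q_le ha)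
  have br : ∀ {c d}, c ∈ F.Q → d ∈ F.Q → P.g * c * P.g⁻¹ ∈ F.Q → P.g * d * P.g⁻¹ ∈ F.Q →
      Commute (P.bk F.z) c → Commute (P.bk F.z) d → Commute c d := by
    intro c d hc hd hc' hd' _ _
    refine commutatorElement_eq_one_iff_commute.1 ?_
    obtain ⟨i, hi⟩ := F.exists_zk (F.comm_mem _ hc _ hd)
    obtain ⟨j, hj⟩ := F.exists_zk (F.comm_mem _ hc' _ hd')
    have e : P.g * F.zk i * P.g⁻¹ = F.zk j := by rw [hi, hj]; simp only [commutatorElement_def]; group
    rw [← hi]
    by_cases hi0 : i = 0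
    · rw [hi0, F.zk_zero]
    exfalso
    refine P.not_Z ?_
    have : P.y = P.g * F.zk i * P.g⁻¹ ∨ P.y = P.g * F.zk i * P.g⁻¹ * (P.g * F.zk i * P.g⁻¹) := by
      rcases (by decide : ∀ k : ZMod 3, k ≠ 0 → k = 1 ∨ k = 2) i hi0 with rfl | rfl
      · exact Or.inl (by rw [F.zk_one, P.eq])
      · refine Or.inr ?_
        rw [← P.eq, ← F.zk_one, show (1 : ZMod 3) = 2 + 2 from rfl, F.zk_add]
        group
    rcases this with h | h <;> rw [h, e]
    · exact F.zk_mem j
    · exact mul_mem (F.zk_mem j) (F.zk_mem j)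
  let U : Subgroup G := F.Q ⊓ centralizer {P.bk F.z}
  have hU : ∀ {a}, a ∈ U ↔ a ∈ F.Q ∧ Commute (P.bk F.z) a := fun {a} =>
    mem_inf.trans (and_congr_right fun _ => mem_centralizer_singleton_iff.trans eq_comm)
  let ψ : U →* F.Cz := MonoidHom.mk' (fun a => ⟨P.g * a * P.g⁻¹, (fw (hU.1 a.2).1 (hU.1 a.2).2).1⟩)
    fun a b => Subtype.ext (by show P.g * (a * b : G) * P.g⁻¹ = _; simp only [Subgroup.coe_mul]; group)
  have hUp : IsPGroup 3 (⊤ : Subgroup U) := by
    refine IsPGroup.of_injective (show IsPGroup 3 F.Q from IsPGroup.of_card (n := 5) F.card_Q)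
      ((Subgroup.inclusion inf_le_left).comp (⊤ : Subgroup U).subtype) ?_
    intro a b e
    exact Subtype.ext (Subtype.ext (congrArg Subtype.val e :))
  -- one element outside the core
  obtain ⟨c, hc⟩ : ∃ c : U, (ψ c : G) ∉ F.Q := by
    by_contra h
    push Not at h
    exact hab (br ha hb (h ⟨a, hU.2 ⟨ha, hwa⟩⟩) (h ⟨b, hU.2 ⟨hb, hwb⟩⟩) hwa hwb)
  set e := ψ c with he
  have he3 : (e : G) ^ 3 = 1 := by
    show (P.g * (c : G) * P.g⁻¹) ^ 3 = 1
    rw [conj_pow, F.pow_three (hU.1 c.2).1, mul_one, mul_inv_cancel]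
  obtain ⟨k, -, hk⟩ := S.exists_X he3 hc
  have hey : Commute (e : G) P.y := (fw (hU.1 c.2).1 (hU.1 c.2).2).2
  -- the intersection with the core is central
  have hcen : ∀ d : U, (ψ d : G) ∈ F.Q → ψ c * ψ d = ψ d * ψ c := by
    intro d hd
    obtain ⟨hdQ, hdw⟩ := hU.1 d.2
    set r := F.crd (ψ d : G) with hr
    obtain ⟨i, hi⟩ := F.exists_zk (F.comm_mem _ (hU.1 c.2).1 _ hdQ)
    -- the commutator is a power of the conjugate
    have hbr : ⁅(e : G), (ψ d : G)⁆ = P.y ^ i.val := by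
      show ⁅P.g * (c : G) * P.g⁻¹, P.g * (d : G) * P.g⁻¹⁆ = _
      rw [← P.eq, conj_pow, show ⁅P.g * (c : G) * P.g⁻¹, P.g * (d : G) * P.g⁻¹⁆ = P.g * ⁅(c : G), (d : G)⁆ * P.g⁻¹ by
        simp only [commutatorElement_def]; group, ← hi]
      rfl
    have hfy := F.act_fix_of_commute hy hey
    have hcr : F.act e r - r = i.val • F.crd P.y := by
      have hcp : ∀ n : ℕ, F.crd (P.y ^ n) = n • F.crd P.y := fun n => by
        induction n with
        | zero => simp [F.crd_one]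
        | succ n ih => rw [pow_succ, F.crd_mul (pow_mem hy n) hy, ih, succ_nsmul]
      rw [← hcp, ← hbr, hr, F.act_crd e hd, commutatorElement_def,
        F.crd_mul (F.normal _ e.2 _ hd) (inv_mem hd), F.crd_inv hd, sub_eq_add_neg]
    have horth : sf (F.crd P.y) r = 0 := by
      rw [hr, F.sf_crd hy hd]
      refine F.lam_eq hy hd ?_
      rw [F.zk_zero]
      exact commutatorElement_eq_one_iff_commute.2 (fw hdQ hdw).2.symm
    set v := F.act k⁻¹ r with hv'
    have hr' : r = F.act k v := (F.act_inv_apply k r).symm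
    have h2 : v 2 = 0 ∧ v 3 = 0 := by
      refine Sp4.aniso v ?_
      have hp := F.act_pres k (X v - v) v
      rw [map_sub, ← hk, ← hr', hcr] at hp
      rw [← hp, ← Nat.cast_smul_eq_nsmul (ZMod 3), ZMod.natCast_zmod_val]
      simp [sf] at horth ⊢
      linear_combination i * horth
    have hfix : F.act e r = r := by rw [hr', hk, (Sp4.fix_X v).2 h2]
    rw [hfix, sub_self] at hcr
    have hmem : ⁅(e : G), (ψ d : G)⁆ ∈ zpowers F.z := by
      rw [commutatorElement_def, ← F.crd_eq_zero (mul_mem (F.normal _ e.2 _ hd) (inv_mem hd)),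
        F.crd_mul (F.normal _ e.2 _ hd) (inv_mem hd), F.crd_inv hd, ← F.act_crd e hd, ← hr, hfix, add_neg_cancel]
    rw [hbr] at hmem
    have hi0 : i = 0 := by
      by_contra h0
      refine P.not_Z ?_
      rcases (by decide : ∀ k : ZMod 3, k ≠ 0 → k.val = 1 ∨ k.val = 2) i h0 with h | h <;> rw [h] at hmem
      · rwa [pow_one] at hmem
      · have := mul_mem hmem hmem
        rwa [← pow_add, show 2 + 2 = 3 + 1 from rfl, pow_succ, P.y3, one_mul] at this
    rw [hi0, F.zk_zero] at hi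
    rw [← map_mul, ← map_mul]
    exact congrArg ψ (Subtype.ext (commutatorElement_eq_one_iff_commute.1 hi.symm).eq)
  -- so the centraliser is abelian
  have hdec : ∀ d : U, ∃ i : ℕ, (ψ (d * (c ^ i)⁻¹) : G) ∈ F.Q := by
    intro d
    obtain ⟨i, hi⟩ := F.image_three (hUp.map ψ) (mem_map_of_mem ψ (mem_top c)) hc (mem_map_of_mem ψ (mem_top d))
    exact ⟨i, F.bar_eq_one.1 (by rw [map_mul, map_inv, map_pow, map_mul, map_inv, map_pow, ← hi, mul_inv_cancel])⟩
  obtain ⟨i, hi⟩ := hdec ⟨a, hU.2 ⟨ha, hwa⟩⟩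
  obtain ⟨j, hj⟩ := hdec ⟨b, hU.2 ⟨hb, hwb⟩⟩
  set a' : U := ⟨a, hU.2 ⟨ha, hwa⟩⟩ * (c ^ i)⁻¹ with ha'
  set b' : U := ⟨b, hU.2 ⟨hb, hwb⟩⟩ * (c ^ j)⁻¹ with hb'
  have hψ : Function.Injective ψ := fun x y e => Subtype.ext (by
    have := congrArg (fun w : F.Cz => P.bk (w : G)) e
    simpa [ψ, bk, mul_assoc] using this)
  have c1' : Commute c a' := hψ ((map_mul ψ c a').trans ((hcen a' hi).trans (map_mul ψ a' c).symm))
  have c2' : Commute c b' := hψ ((map_mul ψ c b').trans ((hcen b' hj).trans (map_mul ψ b' c).symm))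
  have c3' : Commute a' b' := Subtype.ext (br (hU.1 a'.2).1 (hU.1 b'.2).1 hi hj (hU.1 a'.2).2 (hU.1 b'.2).2).eq
  have hfin : Commute (a' * c ^ i) (b' * c ^ j) :=
    (c3'.mul_right (c1'.symm.pow_right j)).mul_left
      (((c2'.pow_left i)).mul_right (Commute.pow_pow_self c i j))
  rw [ha', hb', inv_mul_cancel_right, inv_mul_cancel_right] at hfin
  exact hab (congrArg Subtype.val hfin.eq :)

/-- No conjugate of the centre in the core outside the centre. -/
theorem conj_mem_Q (S : Std F) {h : G} {x : G} (hx : x ∈ zpowers F.z) (hQ : h * x * h⁻¹ ∈ F.Q) :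
    h * x * h⁻¹ ∈ zpowers F.z := by
  by_contra hn
  obtain ⟨k, rfl⟩ := F.exists_zk hx
  have hk0 : k ≠ 0 := by
    rintro rfl
    refine hn ?_
    rw [F.zk_zero, mul_one, mul_inv_cancel]
    exact one_mem _
  have e : h * F.z * h⁻¹ = h * F.zk k * h⁻¹ ∨
      h * F.z * h⁻¹ = h * F.zk k * h⁻¹ * (h * F.zk k * h⁻¹) := by
    rcases (by decide : ∀ k : ZMod 3, k ≠ 0 → k = 1 ∨ k = 2) k hk0 with rfl | rfl
    · exact Or.inl (by rw [F.zk_one])
    · refine Or.inr ?_
      conv_lhs => rw [← F.zk_one, show (1 : ZMod 3) = 2 + 2 from rfl, F.zk_add]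
      group
  have hm : h * F.z * h⁻¹ ∈ F.Q := by
    rcases e with e | e <;> rw [e]
    · exact hQ
    · exact mul_mem hQ hQ
  by_cases hz : h * F.z * h⁻¹ ∈ zpowers F.z
  · refine hn ?_
    rw [Ext.zk, ← conj_pow]
    exact pow_mem hz _
  · exact Pr.not_Q ⟨h * F.z * h⁻¹, h, rfl, F.Q_le hm, hz⟩ S hm

theorem exists_std_conj (S : Std F) : ∃ h : F.Cz, F.im (P.conj h).yc = cx := by
  obtain ⟨k, hk, -⟩ := S.exists_X (e := P.yc) P.y3 (P.not_Q S)
  exact ⟨k⁻¹, by rw [← hk]; congr 1; exact Subtype.ext (by simp [conj, yc])⟩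

theorem act_std (hx : F.im P.yc = cx) (v : V4) : F.act P.yc v = X v := by
  rw [← F.lin_im P.yc, hx, Sp4.lin_cx]

/-- An element of the core commuting with the conjugate is close to the other core. -/
theorem exists_shift (S : Std F) {c : G} (hc : c ∈ F.Q) (hcy : Commute c P.y) :
    ∃ i : ℕ, P.bk (c * (F.z ^ i)⁻¹) ∈ F.Q := by
  set w : F.Cz := ⟨P.bk F.z, P.inv.mem⟩
  set c' : F.Cz := ⟨P.bk c, P.bk_mem_Cz hcy⟩
  have hp := P.inv.isPGroup_pair (c := c') (by
      show P.bk c ^ 3 ^ 2 = 1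
      rw [bk, show P.g⁻¹ * c * P.g = P.g⁻¹ * c * P.g⁻¹⁻¹ by group, conj_pow, show (3 : ℕ) ^ 2 = 3 * 3 from rfl, pow_mul,
        F.pow_three hc, one_pow]
      group)
    (P.bk_commute (F.mem_Cz.1 (F.Q_le hc)))
  obtain ⟨i, hi⟩ := F.image_three hp (subset_closure (Set.mem_insert _ _)) (P.inv.not_Q S)
    (subset_closure (Set.mem_insert_of_mem _ rfl))
  refine ⟨i, ?_⟩
  have h1 : F.bar (c' * (w ^ i)⁻¹) = 1 := by
    rw [map_mul, map_inv, map_pow, hi]
    exact mul_inv_cancel _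
  have h2 := F.bar_eq_one.1 h1
  have e : P.bk (F.z ^ i) = P.bk F.z ^ i := by
    unfold bk
    rw [show P.g⁻¹ * F.z * P.g = P.g⁻¹ * F.z * P.g⁻¹⁻¹ by group, conj_pow, inv_inv]
  rw [P.bk_mul, P.bk_inv, e]
  exact h2

/-- Moving the conjugate by an element of the core. -/
theorem exists_move (S : Std F) {b : G} (hb : b ∈ F.Q) (hfix : F.act P.yc (F.crd b) = F.crd b) :
    ∃ q ∈ F.Q, ∃ j : ZMod 3, q * P.y * q⁻¹ = P.y * b * F.zk j := by
  obtain ⟨k, -, hk⟩ := S.exists_X (e := P.yc) P.y3 (P.not_Q S)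
  set v := F.act k⁻¹ (F.crd b) with hv
  have hb' : F.crd b = F.act k v := (F.act_inv_apply k _).symm
  have hXv : X v = v := by
    have h := hfix
    rw [hb', hk] at h
    have := congrArg (F.act k⁻¹) h
    rwa [← F.act_mul, ← F.act_mul, inv_mul_cancel, F.act_one] at this
  obtain ⟨h2, h3⟩ := (Sp4.fix_X v).1 hXv
  set u : V4 := ![0, 0, v 0, v 1]
  set Y := F.act P.yc with hY
  -- solve for the translation
  set w := -(F.act k u) with hw
  have hw' : w - Y w = F.crd b := by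
    rw [hw, map_neg, hY, hk, hb']
    conv_rhs => rw [Sp4.fix_range v h2 h3, map_sub]
    abel
  set q := F.lift w
  have hq : q ∈ F.Q := F.lift_mem w
  have hq' : P.y⁻¹ * q * P.y ∈ F.Q := by simpa using F.normal _ (inv_mem P.mem) _ hq
  -- the quotient lies in the centre
  set d := b⁻¹ * (P.y⁻¹ * q * P.y) * q⁻¹ with hd
  have hdQ : d ∈ F.Q := mul_mem (mul_mem (inv_mem hb) hq') (inv_mem hq)
  have hd0 : F.crd d = 0 := by
    rw [hd, F.crd_mul (mul_mem (inv_mem hb) hq') (inv_mem hq), F.crd_mul (inv_mem hb) hq', F.crd_inv hb,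
      F.crd_inv hq]
    have e1 : F.crd q = w := F.crd_lift w
    have e2 : Y (F.crd (P.y⁻¹ * q * P.y)) = w := by
      rw [hY, F.act_crd _ hq', ← e1]
      congr 1
      show P.y * _ * P.y⁻¹ = _
      group
    have e3 : Y (F.crd b) = F.crd b := hfix
    have hinj : Function.Injective Y := Function.LeftInverse.injective (g := F.act P.yc⁻¹) fun v => by
      rw [hY, ← F.act_mul, inv_mul_cancel, F.act_one]; rfl
    apply hinj
    rw [map_add, map_add, map_neg, map_neg, map_zero, e2, e3, e1, ← hw']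
    abel
  obtain ⟨j, hj⟩ := F.exists_zk ((F.crd_eq_zero hdQ).1 hd0)
  exact ⟨q, hq, j, by rw [hj, hd]; group⟩

/-- The conjugate centralises the part of the core fixed modulo the centre. -/
theorem cent_fixed (S : Std F) {b : G} (hb : b ∈ F.Q) (hfix : F.act P.yc (F.crd b) = F.crd b) :
    Commute P.y b := by
  classical
  by_contra hnc
  have hmem : ∀ c ∈ F.Q, F.act P.yc (F.crd c) = F.crd c → ⁅P.y, c⁆ ∈ zpowers F.z := by
    intro c hc h
    rw [F.act_crd _ hc] at h
    rw [commutatorElement_def, ← F.crd_eq_zero (mul_mem (F.normal _ P.mem _ hc) (inv_mem hc)),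
      F.crd_mul (F.normal _ P.mem _ hc) (inv_mem hc), F.crd_inv hc]
    exact add_neg_eq_zero.2 h
  obtain ⟨k, hk⟩ := F.exists_zk (hmem b hb hfix)
  have hk0 : k ≠ 0 := by
    rintro rfl
    exact hnc (commutatorElement_eq_one_iff_commute.1 (hk.symm.trans F.zk_zero))
  have hzq : ∀ (n : ℕ) (j : ZMod 3), b ^ n * P.y * (b ^ n)⁻¹ * F.zk j = P.y * F.zk (j - n * k) := by
    intro n
    induction n with
    | zero => intro j; simp
    | succ n ih =>
      intro j
      have e : b * P.y * b⁻¹ = P.y * F.zk (-k) := by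
        have e1 : b * P.y * b⁻¹ = ⁅P.y, b⁆⁻¹ * P.y := by rw [commutatorElement_def]; group
        have e2 : (F.zk k)⁻¹ = F.zk (-k) := inv_eq_of_mul_eq_one_right (by rw [← F.zk_add, add_neg_cancel, F.zk_zero])
        rw [e1, ← hk, e2, (F.commute_Z P.mem (F.zk_mem (-k))).eq]
      have hb1 : Commute (b ^ n) (F.zk (-k)) := F.commute_Z (pow_mem (F.Q_le hb) n) (F.zk_mem _)
      calc b ^ (n + 1) * P.y * (b ^ (n + 1))⁻¹ * F.zk j
          = b ^ n * (b * P.y * b⁻¹) * (b ^ n)⁻¹ * F.zk j := by rw [pow_succ]; group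
        _ = b ^ n * P.y * (F.zk (-k) * (b ^ n)⁻¹) * F.zk j := by rw [e]; group
        _ = b ^ n * P.y * (b ^ n)⁻¹ * F.zk (-k + j) := by rw [← hb1.inv_left.eq, F.zk_add]; group
        _ = _ := by rw [ih]; congr 2; push_cast; ring
  -- all translates of the conjugate by the centre are conjugates of it
  have hall : ∀ m : ZMod 3, ∃ h : G, h * F.z * h⁻¹ = P.y * F.zk m := by
    intro m
    refine ⟨b ^ (-(m * k)).val * P.g, ?_⟩
    have h := hzq (-(m * k)).val 0
    rw [F.zk_zero, mul_one, ZMod.natCast_zmod_val] at h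
    rw [show (0 : ZMod 3) - -(m * k) * k = m * (k * k) by ring,
      (by decide : ∀ c : ZMod 3, c ≠ 0 → c * c = 1) k hk0, mul_one] at h
    rw [← h, ← P.eq]
    group
  -- a non-central element of the fixed space commuting with the conjugate
  obtain ⟨X', -, hX'⟩ := S.exists_X (e := P.yc) P.y3 (P.not_Q S)
  obtain ⟨c, hc, hcZ, hcy⟩ : ∃ c ∈ F.Q, c ∉ zpowers F.z ∧ Commute c P.y := by
    set c1 := F.lift (F.act X' (Pi.single 0 1))
    set c2 := F.lift (F.act X' (Pi.single 1 1))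
    have hf : ∀ v, X v = v → F.act P.yc (F.crd (F.lift (F.act X' v))) = F.crd (F.lift (F.act X' v)) := by
      intro v hv
      rw [F.crd_lift, hX', hv]
    obtain ⟨i1, hi1⟩ := F.exists_zk (hmem c1 (F.lift_mem _) (hf _ (by decide)))
    obtain ⟨i2, hi2⟩ := F.exists_zk (hmem c2 (F.lift_mem _) (hf _ (by decide)))
    by_cases h0 : i1 = 0
    · refine ⟨c1, F.lift_mem _, fun h => ?_, ?_⟩
      · have := (F.crd_eq_zero (F.lift_mem _)).2 h
        rw [F.crd_lift] at this
        have := congrArg (F.act X'⁻¹) this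
        rw [map_zero, ← F.act_mul, inv_mul_cancel, F.act_one] at this
        exact absurd (congrFun this 0) (by decide)
      · exact (commutatorElement_eq_one_iff_commute.1 (by rw [← hi1, h0, F.zk_zero])).symm
    · set n := (-(i1 * i2)).val
      have hcn : c1 ^ n * c2 ∈ F.Q := mul_mem (pow_mem (F.lift_mem _) n) (F.lift_mem _)
      refine ⟨c1 ^ n * c2, hcn, fun h => ?_, ?_⟩
      · have := (F.crd_eq_zero hcn).2 h
        have hsn : ∀ n : ℕ, F.crd (c1 ^ n) = n • F.act X' (Pi.single 0 1) := fun n => by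
          induction n with
          | zero => simp [F.crd_one]
          | succ n ih => rw [pow_succ, F.crd_mul (pow_mem (F.lift_mem _) n) (F.lift_mem _), ih, F.crd_lift, succ_nsmul]
        rw [F.crd_mul (pow_mem (F.lift_mem _) n) (F.lift_mem _), hsn, F.crd_lift] at this
        have := congrArg (F.act X'⁻¹) this
        rw [map_zero, map_add, map_nsmul, ← F.act_mul, ← F.act_mul, inv_mul_cancel, F.act_one] at this
        exact absurd (congrFun this 1) (by simp)
      · refine (commutatorElement_eq_one_iff_commute.1 ?_).symm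
        have hbm : ∀ a ∈ F.Q, ∀ b ∈ F.Q, ⁅P.y, a⁆ ∈ zpowers F.z → ⁅P.y, b⁆ ∈ zpowers F.z →
            ⁅P.y, a * b⁆ = ⁅P.y, a⁆ * ⁅P.y, b⁆ := fun a ha b _ _ h2 => by
          rw [show ⁅P.y, a * b⁆ = ⁅P.y, a⁆ * (a * ⁅P.y, b⁆ * a⁻¹) by simp only [commutatorElement_def]; group,
            F.fix_Z (F.Q_le ha) h2]
        have hpow : ∀ m : ℕ, ⁅P.y, c1 ^ m⁆ = F.zk (m * i1) := by
          intro m
          induction m with
          | zero => simp [F.zk_zero]
          | succ m ih =>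
            rw [pow_succ, hbm _ (pow_mem (F.lift_mem _) m) _ (F.lift_mem _) (by rw [ih]; exact F.zk_mem _)
              (by rw [← hi1]; exact F.zk_mem _), ih, ← hi1, ← F.zk_add]
            push_cast
            ring_nf
        rw [hbm _ (pow_mem (F.lift_mem _) n) _ (F.lift_mem _) (by rw [hpow]; exact F.zk_mem _)
          (by rw [← hi2]; exact F.zk_mem _), hpow, ← hi2, ← F.zk_add, ZMod.natCast_zmod_val,
          show -(i1 * i2) * i1 + i2 = i2 * (1 - i1 * i1) by ring,
          (by decide : ∀ c : ZMod 3, c ≠ 0 → c * c = 1) i1 h0, sub_self, mul_zero, F.zk_zero]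
  obtain ⟨i, hi⟩ := P.exists_shift S hc hcy
  set c' := c * (F.z ^ i)⁻¹ with hc'
  have hzi : (F.z ^ i)⁻¹ ∈ zpowers F.z := inv_mem (pow_mem (mem_zpowers _) i)
  have hc'Q : c' ∈ F.Q := mul_mem hc (F.Z_le_Q hzi)
  have hc'Z : c' ∉ zpowers F.z := fun h => hcZ (by
    have := mul_mem h (inv_mem hzi)
    rwa [hc', mul_assoc, mul_inv_cancel, mul_one] at this)
  have hfix' : F.act P.inv.yc (F.crd (P.bk c')) = F.crd (P.bk c') :=
    F.act_fix_of_commute hi (P.bk_commute ((F.commute_Z (F.Q_le hc'Q) (mem_zpowers F.z)).symm :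
      Commute F.z c'))
  obtain ⟨q, hq, j, hqe⟩ := P.inv.exists_move S hi hfix'
  change q * P.bk F.z * q⁻¹ = P.bk F.z * P.bk c' * F.zk j at hqe
  -- transport
  set q' := P.g * q * P.g⁻¹ with hq'
  have hfz : q' * F.z * q'⁻¹ = F.z * c' * P.y ^ j.val := by
    have e : P.g * (P.bk F.z * P.bk c' * F.zk j) * P.g⁻¹ = F.z * c' * P.y ^ j.val := by
      rw [← P.eq, conj_pow, ← P.bk_mul, Ext.zk]
      unfold bk
      group
    rw [← e, hq', ← hqe]
    show _ = P.g * (q * P.bk F.z * q⁻¹) * P.g⁻¹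
    unfold bk
    group
  have hfy : q' * P.y * q'⁻¹ = P.y := by
    rw [hq', ← P.eq, show P.g * q * P.g⁻¹ * (P.g * F.z * P.g⁻¹) * (P.g * q * P.g⁻¹)⁻¹ = P.g * (q * F.z * q⁻¹) * P.g⁻¹
      by group, (F.commute_Z (F.Q_le hq) (mem_zpowers F.z)).eq, mul_inv_cancel_right]
  have hzc : Commute F.z c' := (F.commute_Z (F.Q_le hc'Q) (mem_zpowers F.z)).symm
  by_cases hj : j = 0
  · rw [hj, show ((0 : ZMod 3)).val = 0 from rfl, pow_zero, mul_one] at hfz
    have hQ : q' * F.z * q'⁻¹ ∈ F.Q := hfz ▸ mul_mem F.z_mem hc'Q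
    have h := conj_mem_Q S (mem_zpowers F.z) hQ
    rw [hfz] at h
    exact hc'Z (by simpa using mul_mem (inv_mem (mem_zpowers F.z)) h)
  · obtain ⟨h, hh⟩ := hall (-j)
    have hyc' : Commute P.y c' :=
      (hcy.mul_left (F.commute_Z P.mem hzi).symm).symm
    have hzy : Commute F.z P.y := (show Commute P.y F.z from P.comm).symm
    have key : q' * (h * F.z * h⁻¹) * q'⁻¹ = (F.z * c') ^ (-j).val := by
      have hcm : Commute (F.z * c') (P.y ^ j.val) := (hzy.pow_right _).mul_left (hyc'.symm.pow_right _)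
      rw [hh, show q' * (P.y * F.zk (-j)) * q'⁻¹ = q' * P.y * q'⁻¹ * (q' * F.zk (-j) * q'⁻¹) by group, hfy, Ext.zk,
        ← conj_pow, hfz, hcm.mul_pow, (hcm.pow_pow _ _).eq, ← mul_assoc, ← pow_mul]
      have e : P.y * P.y ^ (j.val * (-j).val) = 1 := by
        rw [← pow_succ']
        rcases (by decide : ∀ k : ZMod 3, k ≠ 0 → k.val * (-k).val + 1 = 3) j hj with h3
        rw [h3, P.y3]
      rw [e, one_mul]
    have hz' : q' * h * F.z * (q' * h)⁻¹ = (F.z * c') ^ (-j).val := by rw [← key]; group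
    have hQ : q' * h * F.z * (q' * h)⁻¹ ∈ F.Q := hz' ▸ pow_mem (mul_mem F.z_mem hc'Q) _
    have h' := conj_mem_Q S (mem_zpowers F.z) hQ
    rw [hz', hzc.mul_pow] at h'
    have hcp : c' ^ (-j).val ∈ zpowers F.z := by
      have := mul_mem (inv_mem (pow_mem (mem_zpowers F.z) (-j).val)) h'
      rwa [inv_mul_cancel_left] at this
    refine hc'Z ?_
    rcases (by decide : ∀ k : ZMod 3, k ≠ 0 → (-k).val = 1 ∨ (-k).val = 2) j hj with e | e <;> rw [e] at hcp
    · rwa [pow_one] at hcp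
    · have := mul_mem hcp hcp
      rwa [← pow_add, show 2 + 2 = 3 + 1 from rfl, pow_succ, F.pow_three hc'Q, one_mul] at this

end Pr

end Cfsg.Agent.Co2Three.Local
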