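import Cfsg.Agent.Lib.Co2Three.Local.Coords
import Mathlib.Tactic.LinearCombination

/-!
S3336: the reflection in the first vector, an involution of the centraliser of the central element acting on the
subgroup of order 81.
-/

set_option autoImplicit false
set_option linter.style.haveILetI false
set_option linter.unusedSectionVars false

namespace Cfsg.Agent.Co2Three.Local

open Subgroup
open scoped commutatorElement
open Sp4 (sf X code mm lin c1 cx cm cr Ns)

/-- The map of the reflection on the coordinates of the core. -/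
def T (v : V4) : V4 := ![-v 0, v 1, -v 2, v 3]

/-- The possible actions of an involution over the reflection on the subgroup of order 81. -/
def L1 (a : ZMod 3) (v : V4) : V4 :=
  ![v 0 + a * v 1 + a * a * v 3, -v 1 + a * v 3, v 2, v 3]

theorem T_X (v : V4) : T (X v) = X (T v) := by
  funext k
  fin_cases k <;> simp [T, X]
  all_goals ring

theorem T_T (v : V4) : T (T v) = v := by
  funext k
  fin_cases k <;> simp [T]

theorem tr_L1 : ∀ (a : ZMod 3) (v : V4), tr a 0 (L1 a (tr (-a) 0 v)) = refl1 v := by decide +kernel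

theorem tr_tr : ∀ (a : ZMod 3) (v : V4), tr a 0 (tr (-a) 0 v) = v := by decide +kernel

theorem L1_unique : ∀ α β a b : ZMod 3,
    (∀ v1 v2 : ZMod 3, qf ![v1 * v1 + v2 * v2 + v1 * α + v2 * β + (a * a + b * b), -v1 + a, v2 + b, 1] = 0) →
      α = a ∧ β = -b := by decide +kernel

namespace Frame

variable {G : Type*} [Group G] [Finite G] (F : Frame G)

theorem act_pow {c : F.Cz} {f : V4 → V4} (h : ∀ v, F.act c v = f v) :
    ∀ n : ℕ, ∀ v, F.act (c ^ n) v = f^[n] v
  | 0, v => by rw [pow_zero, F.act_one]; rfl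
  | n + 1, v => by rw [pow_succ', F.act_mul, act_pow h n, h, Function.iterate_succ_apply']

end Frame

namespace Cfg

variable {G : Type*} [Group G] [Finite G] {F : Frame G} (K : Cfg F)
include K

/-- An element as a member of the centraliser. -/
def elc (v : V4) : F.Cz := ⟨K.el v, K.el_mem v⟩

theorem act_e3 (v : V4) : F.act (K.elc e3) v = X (X v) := by
  have : K.elc e3 = K.P.yc * K.P.yc := Subtype.ext (by
    show K.el e3 = K.P.y * K.P.y
    rw [el_e3, pow_two])
  rw [this, F.act_mul, act_y, act_y]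

theorem commute_act_X {c : F.Cz} (h : ∀ v, F.act c (X v) = X (F.act c v)) (v : V4) :
    F.act c (F.act (K.elc e3) v) = F.act (K.elc e3) (F.act c v) := by
  rw [act_e3, act_e3, h, h]

/-- A member of the centraliser commuting with the standard element modulo the core keeps the hyperplane. -/
theorem stab_hyperplane {c : F.Cz} (h : ∀ v, F.act c (X v) = X (F.act c v)) {v : V4} (hv : v 3 = 0) :
    ∃ w : V4, w 3 = 0 ∧ (c : G) * K.el v * (c : G)⁻¹ = K.el w := by
  have hq : K.el v ∈ F.Q := K.el_Q.2 hv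
  have hcq : (c : G) * K.el v * (c : G)⁻¹ ∈ F.Q := F.normal _ c.2 _ hq
  have hcrd : F.crd ((c : G) * K.el v * (c : G)⁻¹) = F.act c (![v 1, v 2, 0, 0]) := by
    rw [← F.act_crd c hq, K.crd_el hv]
  have hfix : X (F.act c ![v 1, v 2, 0, 0]) = F.act c ![v 1, v 2, 0, 0] := by
    rw [← h, (Sp4.fix_X _).2 ⟨rfl, rfl⟩]
  obtain ⟨a, ha⟩ := K.exists_el hcq (by rw [hcrd]; exact (Sp4.fix_X _).1 hfix)
  exact ⟨_, rfl, ha.symm⟩

/-- It even normalises the subgroup. -/
theorem stab_subgroup {c : F.Cz} (h : ∀ v, F.act c (X v) = X (F.act c v)) :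
    ∃ w : V4, w 3 = 1 ∧ qf w = 0 ∧ (c : G) * K.el e3 * (c : G)⁻¹ = K.el w := by
  have hi : ∀ v, F.act c⁻¹ (X v) = X (F.act c⁻¹ v) := fun v => by
    have hinj : Function.Injective (F.act c) := Function.LeftInverse.injective (g := F.act c⁻¹) fun u => by
      rw [← F.act_mul, inv_mul_cancel, F.act_one]; rfl
    apply hinj
    rw [F.act_inv_apply, h, F.act_inv_apply]
  set w := (c : G) * K.el e3 * (c : G)⁻¹ with hw
  set q := (K.el e3)⁻¹ * w with hq
  have hqQ : q ∈ F.Q := by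
    have hb : F.bar ((K.elc e3)⁻¹ * (c * K.elc e3 * c⁻¹)) = 1 := by
      rw [map_mul, map_inv, inv_mul_eq_one]
      refine F.act_eq_iff.1 (AddMonoidHom.ext fun v => ?_)
      rw [F.act_mul, F.act_mul, K.commute_act_X h, F.act_inv_apply]
    exact F.bar_eq_one.1 hb
  have hcom : ∀ v : V4, v 3 = 0 → Commute q (K.el v) := fun v hv => by
    obtain ⟨u, -, hu⟩ := K.stab_hyperplane hi hv
    have hu' : K.el v = (c : G) * K.el u * (c : G)⁻¹ := by
      rw [← hu, InvMemClass.coe_inv]; group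
    have h1 : Commute w (K.el v) := by
      rw [hu', hw]
      exact (K.el_commute e3 u).map (MulAut.conj (c : G))
    exact (K.el_commute e3 v).inv_left.mul_left h1
  have hl : ∀ v : V4, v 3 = 0 → sf (F.crd q) (F.crd (K.el v)) = 0 := fun v hv => by
    rw [F.sf_crd hqQ (K.el_Q.2 hv)]
    exact F.lam_eq hqQ (K.el_Q.2 hv) (by
      rw [F.zk_zero]; exact commutatorElement_eq_one_iff_commute.2 (hcom v hv))
  have h1 := hl ![0, 1, 0, 0] rfl
  have h2 := hl ![0, 0, 1, 0] rfl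
  rw [K.crd_el rfl] at h1 h2
  simp [sf] at h1 h2
  obtain ⟨a, ha⟩ := K.exists_el hqQ ⟨h1, h2⟩
  refine ⟨e3 + ![a, F.crd q 0, F.crd q 1, 0], by simp [e3], ?_, by rw [el_add, ha, hq]; group⟩
  obtain ⟨g, hg⟩ := (K.fused e3 (by decide)).2 (by decide)
  refine (K.fused _ (fun h0 => by simpa [e3] using congrFun h0 3)).1 ⟨(c : G) * g, ?_⟩
  rw [el_add, ha, hq, hw, ← hg]
  group

theorem exists_t_pre : ∃ t : F.Cz, t * t = 1 ∧ (∀ v, F.act t v = T v) ∧
    ∃ a : ZMod 3, ∀ v, (t : G) * K.el v * (t : G)⁻¹ = K.el (L1 a v) := by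
  set g : F.Cz := F.tc * K.S.ρ with hg
  have hgT : ∀ v, F.act g v = T v := fun v => by
    rw [hg, F.act_mul, F.act_tc, K.S.act_ρ]
    funext k
    fin_cases k <;> simp [T]
  have hg2 : ((g * g : F.Cz) : G) ∈ F.Q := by
    refine F.bar_eq_one.1 ?_
    rw [← map_one F.bar]
    refine F.act_eq_iff.1 (AddMonoidHom.ext fun v => ?_)
    rw [F.act_mul, hgT, hgT, T_T, F.act_one]; rfl
  set t := g ^ 3 with htdef
  have ht2 : t * t = 1 := Subtype.ext (by
    have h6 : t * t = (g * g) ^ 3 := by rw [htdef, ← pow_two, ← pow_two, ← pow_mul, ← pow_mul]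
    rw [h6]
    show ((g * g : F.Cz) : G) ^ 3 = 1
    exact F.pow_three hg2)
  have htT : ∀ v, F.act t v = T v := fun v => by
    rw [htdef, F.act_pow hgT]
    show T (T (T v)) = T v
    rw [T_T]
  refine ⟨t, ht2, htT, ?_⟩
  have hX : ∀ v, F.act t (X v) = X (F.act t v) := fun v => by rw [htT, htT, T_X]
  obtain ⟨x, hx3, hxq, hx⟩ := K.stab_subgroup hX
  have hhyp : ∀ (p q : ZMod 3), ∃ a, (t : G) * K.el ![0, p, q, 0] * (t : G)⁻¹ = K.el ![a, -p, q, 0] := by
    intro p q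
    have hq' : K.el ![0, p, q, 0] ∈ F.Q := K.el_Q.2 rfl
    have hcq := F.normal _ t.2 _ hq'
    have hcrd : F.crd ((t : G) * K.el ![0, p, q, 0] * (t : G)⁻¹) = ![-p, q, 0, 0] := by
      rw [← F.act_crd t hq', K.crd_el rfl, htT]
      funext k
      fin_cases k <;> simp [T]
    obtain ⟨a, ha⟩ := K.exists_el hcq (by rw [hcrd]; exact ⟨rfl, rfl⟩)
    rw [hcrd] at ha
    exact ⟨a, ha.symm⟩
  obtain ⟨α, hα⟩ := hhyp 1 0
  obtain ⟨β, hβ⟩ := hhyp 0 1
  have hall : ∀ v, (t : G) * K.el v * (t : G)⁻¹ =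
      K.el ![v 0 + v 1 * α + v 2 * β + v 3 * x 0, -v 1 + v 3 * x 1, v 2 + v 3 * x 2, v 3] := by
    intro v
    have he : v = v 0 • e0 + v 1 • ![0, 1, 0, 0] + v 2 • ![0, 0, 1, 0] + v 3 • e3 := by
      funext k; fin_cases k <;> simp [e0, e3]
    conv_lhs => rw [he]
    simp only [el_add, el_smul]
    have h0 : (t : G) * K.el e0 * (t : G)⁻¹ = K.el e0 := by
      rw [el_e0]
      exact F.fix_Z t.2 (mem_zpowers _)
    rw [show (t : G) * (K.el e0 ^ (v 0).val * K.el ![0, 1, 0, 0] ^ (v 1).val * K.el ![0, 0, 1, 0] ^ (v 2).val *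
        K.el e3 ^ (v 3).val) * (t : G)⁻¹ = ((t : G) * K.el e0 ^ (v 0).val * (t : G)⁻¹) *
        ((t : G) * K.el ![0, 1, 0, 0] ^ (v 1).val * (t : G)⁻¹) *
        ((t : G) * K.el ![0, 0, 1, 0] ^ (v 2).val * (t : G)⁻¹) * ((t : G) * K.el e3 ^ (v 3).val * (t : G)⁻¹) by group,
      ← conj_pow, ← conj_pow, ← conj_pow, ← conj_pow, h0, hα, hβ, hx, ← el_smul, ← el_smul, ← el_smul, ← el_smul,
      ← el_add, ← el_add, ← el_add]
    congr 1
    funext k
    fin_cases k <;> simp [e0, hx3]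
  have hx0 : x 0 = x 1 * x 1 + x 2 * x 2 := by
    simp [qf, hx3] at hxq
    linear_combination hxq
  obtain ⟨hαa, hβb⟩ := L1_unique α β (x 1) (x 2) fun v1 v2 => by
    set v : V4 := ![v1 * v1 + v2 * v2, v1, v2, 1] with hv
    have hvq : qf v = 0 := by simp [qf, hv]
    have hv0 : v ≠ 0 := fun h0 => by simpa [hv] using congrFun h0 3
    obtain ⟨g', hg'⟩ := (K.fused v hv0).2 hvq
    refine (K.fused _ (fun h0 => by simpa using congrFun h0 3)).1 ⟨(t : G) * g', ?_⟩
    calc (t : G) * g' * K.el e0 * ((t : G) * g')⁻¹ = (t : G) * (g' * K.el e0 * g'⁻¹) * (t : G)⁻¹ := by group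
      _ = _ := by
        rw [hg', hall, hx0]
        congr 1
        funext k
        fin_cases k <;> simp [hv]
  have hb : x 2 = 0 := by
    have h2 : (t : G) * ((t : G) * K.el e3 * (t : G)⁻¹) * (t : G)⁻¹ = K.el e3 := by
      have h := congrArg Subtype.val ht2
      rw [Subgroup.coe_mul] at h
      calc (t : G) * ((t : G) * K.el e3 * (t : G)⁻¹) * (t : G)⁻¹
          = ((t : G) * t) * K.el e3 * ((t : G) * t)⁻¹ := by group
        _ = K.el e3 := by rw [h, Subgroup.coe_one]; group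
    rw [hx, hall] at h2
    have := congrFun (K.el_inj h2) 2
    simp [hx3, e3] at this
    exact (by decide : ∀ b : ZMod 3, b + b = 0 → b = 0) _ this
  refine ⟨x 1, fun v => ?_⟩
  rw [hall, hαa, hβb, hx0, hb]
  congr 1
  funext k
  fin_cases k <;> simp [L1] <;> ring

/-- The reflection. -/
theorem exists_t : ∃ t : F.Cz, t * t = 1 ∧ (∀ v, F.act t v = T v) ∧
    ∀ v, (t : G) * K.el v * (t : G)⁻¹ = K.el (refl1 v) := by
  obtain ⟨s, hs2, hsT, a, ha⟩ := K.exists_t_pre
  set q : F.Cz := ⟨F.trq a 0, F.Q_le (F.lift_mem _)⟩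
  refine ⟨q * s * q⁻¹, ?_, fun v => ?_, fun v => ?_⟩
  · calc q * s * q⁻¹ * (q * s * q⁻¹) = q * (s * s) * q⁻¹ := by group
      _ = 1 := by rw [hs2]; group
  · rw [F.act_mul, F.act_mul, hsT]
    have hQ : F.act q = AddMonoidHom.id V4 := F.act_Q (F.lift_mem _)
    have hQ' : F.act q⁻¹ = AddMonoidHom.id V4 := F.act_Q (inv_mem (F.lift_mem _))
    rw [hQ, hQ']; rfl
  · have hinv : (F.trq a 0)⁻¹ * K.el v * F.trq a 0 = K.el (tr (-a) 0 v) := by
      have h := K.trq_conj a 0 (tr (-a) 0 v)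
      rw [tr_tr] at h
      rw [← h]; group
    show F.trq a 0 * (s : G) * (F.trq a 0)⁻¹ * K.el v * (F.trq a 0 * (s : G) * (F.trq a 0)⁻¹)⁻¹ = _
    rw [show F.trq a 0 * (s : G) * (F.trq a 0)⁻¹ * K.el v * (F.trq a 0 * (s : G) * (F.trq a 0)⁻¹)⁻¹ =
      F.trq a 0 * ((s : G) * ((F.trq a 0)⁻¹ * K.el v * F.trq a 0) * (s : G)⁻¹) * (F.trq a 0)⁻¹ by group,
      hinv, ha, K.trq_conj, tr_L1]

end Cfg

end Cfsg.Agent.Co2Three.Local
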